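import Cfsg.Agent.Lib.MaxClassEss.Basic
import Cfsg.Agent.Lib.Resist.Fusion
import Cfsg.Agent.Lib.EssentialSmall.Basic

/-!
# Automizers and layers

* `Sep` : the group-level form of a strongly `p`-embedded subgroup of `Aut_F(E)` modulo `Inn(E)`;
* `layerStab` : the automorphisms acting trivially on the layers `Lᵢ / Lᵢ₊₁`, `i ≥ k`, inside `P`;
* `stabSub` : the automorphisms stabilising a chain.
-/

set_option autoImplicit false
set_option linter.unusedSectionVars false
set_option linter.style.haveILetI false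

open Subgroup
open scoped commutatorElement

universe u

namespace Cfsg.Agent.MaxClassEss

open Cfsg Cfsg.FusionSystem Cfsg.Agent.Fusion MaxClassPower PearlRank

section Chain

variable {R : Type u} [Group R] [Finite R]

/-- The automorphisms stabilising a chain. -/
def stabSub (n : ℕ) (U : ℕ → Subgroup R) (hmono : ∀ i < n, U i ≤ U (i + 1)) : Subgroup (MulAut R) :=
  let K : Submonoid (MulAut R) :=
    { carrier := {a | ∀ i < n, ∀ x ∈ U (i + 1), x⁻¹ * a x ∈ U i}
      one_mem' := fun i _ x _ => by simp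
      mul_mem' := by
        intro a b ha hb i hi x hx
        have hbx := hb i hi x hx
        have hab : a (x⁻¹ * b x) ∈ U i := by
          rcases Nat.eq_zero_or_pos i with rfl | hpos
          · have h0 : x⁻¹ * b x ∈ U (0 + 1) := hmono 0 hi hbx
            have := mul_mem hbx (ha 0 hi _ h0)
            rwa [mul_inv_cancel_left] at this
          · obtain ⟨j, rfl⟩ : ∃ j, i = j + 1 := ⟨i - 1, by omega⟩
            have := mul_mem hbx (hmono j (by omega) (ha j (by omega) _ hbx))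
            rwa [mul_inv_cancel_left] at this
        have := mul_mem (ha i hi x hx) hab
        rw [map_mul, map_inv, mul_assoc, mul_inv_cancel_left] at this
        exact this }
  { K with
    inv_mem' := fun {a} ha => by
      have h : a⁻¹ = a ^ (orderOf a - 1) := inv_eq_of_mul_eq_one_right (by
        rw [← pow_succ', Nat.sub_add_cancel (orderOf_pos a), pow_orderOf_eq_one])
      rw [h]
      exact K.pow_mem ha _ }

theorem mem_stabSub {n : ℕ} {U : ℕ → Subgroup R} {hmono : ∀ i < n, U i ≤ U (i + 1)} {a : MulAut R} :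
    a ∈ stabSub n U hmono ↔ ∀ i < n, ∀ x ∈ U (i + 1), x⁻¹ * a x ∈ U i := Iff.rfl

theorem isPGroup_stabSub {p : ℕ} [Fact p.Prime] (hR : IsPGroup p R) {n : ℕ} {U : ℕ → Subgroup R}
    (h0 : U 0 = ⊥) (hn : U n = ⊤) (hmono : ∀ i < n, U i ≤ U (i + 1)) :
    IsPGroup p (stabSub n U hmono) :=
  FusionChain.isPGroup_of_stabilizes_chain hR _ n U h0 hn fun _ ha => mem_stabSub.1 ha

end Chain

variable {p n : ℕ} [hp : Fact p.Prime] {Ω : Type u} [Group Ω] {S : Subgroup Ω} [Finite S]
  {F : FusionSystem S} {E P : Subgroup Ω}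

/-- A proper subgroup `M` of `Aut_F(E)` containing `Aut_S(E)`, strongly `p`-embedded modulo `Inn(E)`. -/
structure Sep (p : ℕ) (F : FusionSystem S) (E : Subgroup Ω) (M : Subgroup (MulAut E)) : Prop where
  le : M ≤ F.autGroup E
  autS : autInducedBy S E ≤ M
  ne : ¬ F.autGroup E ≤ M
  conj_mem : ∀ x ∈ M, x ∉ Cfsg.Inn E → (∃ k, x ^ p ^ k = 1) → ∀ a ∈ F.autGroup E, a * x * a⁻¹ ∈ M → a ∈ M
  pgroup_le : ∀ Q : Subgroup (MulAut E), Q ≤ F.autGroup E → IsPGroup p Q →
    ∀ x ∈ Q, x ∈ M → x ∉ Cfsg.Inn E → Q ≤ M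

theorem exists_sep (hS : IsPGroup p S) (hF : F.IsSaturated p) (hE : F.IsEssential p E) :
    ∃ M, Sep p F E M := by
  have hlt := Resist.lt_of_essential hS hF hE
  haveI := finite_mulAut (S := S) hE.1.1
  rcases dichotomy hS hF hlt hE.2.1 with ⟨hne, -⟩ | ⟨-, hI, hH⟩
  · exact absurd hE hne
  haveI := hI
  set A := F.autGroup E
  set π := QuotientGroup.mk' ((Cfsg.Inn E).subgroupOf A) with hπ
  set H := (upGroup F E).subgroupOf A
  have hker : ∀ a : A, π a = 1 ↔ (a : MulAut E) ∈ Cfsg.Inn E := fun a => by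
    rw [← MonoidHom.mem_ker, hπ, QuotientGroup.ker_mk', Subgroup.mem_subgroupOf]
  have hIT : Cfsg.Inn E ≤ upGroup F E := (inn_le_autInducedBy hE.1.1).trans (autS_le_upGroup hS hlt)
  have hmem : ∀ a : A, π a ∈ H.map π ↔ (a : MulAut E) ∈ upGroup F E := fun a => by
    rw [← Subgroup.mem_comap, Subgroup.comap_map_eq, hπ, QuotientGroup.ker_mk',
      sup_eq_left.2 (show (Cfsg.Inn E).subgroupOf A ≤ H from fun b hb => hIT hb)]
    rfl
  refine ⟨upGroup F E, upGroup_le_autGroup hE.1.1, autS_le_upGroup hS hlt, fun h => hH.2.1 ?_, ?_, ?_⟩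
  · refine eq_top_iff.2 fun q _ => ?_
    obtain ⟨a, rfl⟩ := QuotientGroup.mk'_surjective _ q
    exact (hmem a).2 (h a.2)
  · rintro x hxM hxI ⟨k, hk⟩ a ha hax
    have hxA := upGroup_le_autGroup (F := F) hE.1.1 hxM
    set y := π ⟨x, hxA⟩
    have hy : y ^ p ^ k = 1 := by
      rw [← map_pow, show (⟨x, hxA⟩ : A) ^ p ^ k = 1 from Subtype.ext hk, map_one]
    obtain ⟨j, -, hj⟩ := (Nat.dvd_prime_pow hp.out).1 (orderOf_dvd_of_pow_eq_one hy)
    have hj0 : 0 < j := Nat.pos_of_ne_zero fun h => hxI ((hker ⟨x, hxA⟩).1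
      (orderOf_eq_one_iff.1 (by simpa [h] using hj)))
    have hyo : orderOf (y ^ p ^ (j - 1)) = p := by
      rw [orderOf_pow' _ (pow_ne_zero _ hp.out.ne_zero), hj, Nat.gcd_eq_right (pow_dvd_pow p (Nat.sub_le j 1)),
        Nat.pow_div (Nat.sub_le j 1) hp.out.pos, Nat.sub_sub_self hj0, pow_one]
    refine (hmem ⟨a, ha⟩).1 (StrongPEmb.mem_of_conj_mem hH hyo (pow_mem ((hmem _).2 hxM) _) ?_)
    have e : π ⟨a, ha⟩ * y ^ p ^ (j - 1) * (π ⟨a, ha⟩)⁻¹ = (π (⟨a, ha⟩ * ⟨x, hxA⟩ * ⟨a, ha⟩⁻¹)) ^ p ^ (j - 1) := by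
      rw [map_mul, map_mul, map_inv, conj_pow]
    rw [e]
    exact pow_mem ((hmem _).2 hax) _
  · intro Q hQA hQ x hxQ hxM hxI q hq
    have hQp : IsPGroup p ((Q.subgroupOf A).map π) :=
      (hQ.of_equiv (Subgroup.subgroupOfEquivOfLe hQA).symm).map π
    refine (hmem ⟨q, hQA hq⟩).1 (StrongPEmb.pGroup_le_of_mem hH hQp (x := π ⟨x, hQA hxQ⟩)
      (mem_map_of_mem π hxQ) ((hmem _).2 hxM) (fun h => hxI ((hker ⟨x, hQA hxQ⟩).1 h))
      (mem_map_of_mem π hq))

namespace Sep

variable {M : Subgroup (MulAut E)} (se : Sep p F E M)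

include se

/-- A `p`-group normalised by an element outside `M` meets `M` in inner automorphisms. -/
theorem inner_of_normalized {Q : Subgroup (MulAut E)} (hQA : Q ≤ F.autGroup E) (hQ : IsPGroup p Q)
    {g : MulAut E} (hg : g ∈ F.autGroup E) (hgM : g ∉ M) (hn : ∀ q ∈ Q, g * q * g⁻¹ ∈ Q)
    {x : MulAut E} (hxQ : x ∈ Q) (hxM : x ∈ M) : x ∈ Cfsg.Inn E := by
  by_contra hxI
  obtain ⟨k, hk⟩ := hQ ⟨x, hxQ⟩
  exact hgM (se.conj_mem x hxM hxI ⟨k, congrArg Subtype.val hk⟩ g hg
    (se.pgroup_le Q hQA hQ x hxQ hxM hxI (hn x hxQ)))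

/-- A `p`-group cannot contain a non-inner element of `M` and an element outside `M`. -/
theorem not_mixed {Q : Subgroup (MulAut E)} (hQA : Q ≤ F.autGroup E) (hQ : IsPGroup p Q)
    {x y : MulAut E} (hxQ : x ∈ Q) (hxM : x ∈ M) (hxI : x ∉ Cfsg.Inn E) (hyQ : y ∈ Q) (hyM : y ∉ M) : False :=
  hyM (se.pgroup_le Q hQA hQ x hxQ hxM hxI hyQ)

end Sep

/-- The inclusion of `P` in `S`. -/
abbrev incl (hP : P ≤ S) : P →* S := Subgroup.inclusion hP

/-- The automorphisms in `Aut_F(P)` acting trivially on the layers from `k` on. -/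
def layerStab (F : FusionSystem S) (hP : P ≤ S) (k : ℕ) : Subgroup (MulAut P) :=
  haveI := finite_mulAut (S := S) hP
  let K : Submonoid (MulAut P) :=
    { carrier := {a | a ∈ F.autGroup P ∧ ∀ i, k ≤ i → ∀ x : P, incl hP x ∈ L S i →
        incl hP (x⁻¹ * a x) ∈ L S (i + 1)}
      one_mem' := ⟨one_mem _, fun i _ x _ => by simp⟩
      mul_mem' := by
        intro a b ha hb
        refine ⟨mul_mem ha.1 hb.1, fun i hi x hx => ?_⟩
        have hb' := hb.2 i hi x hx
        have hab : incl hP (a (x⁻¹ * b x)) ∈ L S (i + 1) := by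
          have h := ha.2 (i + 1) (by omega) _ hb'
          have := mul_mem hb' (L_anti (Nat.le_succ _) h)
          rwa [← map_mul, mul_inv_cancel_left] at this
        have := mul_mem (ha.2 i hi x hx) hab
        rw [← map_mul, map_mul a, map_inv a, mul_assoc, mul_inv_cancel_left] at this
        exact this }
  { K with
    inv_mem' := fun {a} ha => by
      have h : a⁻¹ = a ^ (orderOf a - 1) := inv_eq_of_mul_eq_one_right (by
        rw [← pow_succ', Nat.sub_add_cancel (orderOf_pos a), pow_orderOf_eq_one])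
      rw [h]
      exact K.pow_mem ha _ }

theorem mem_layerStab {hP : P ≤ S} {k : ℕ} {a : MulAut P} :
    a ∈ layerStab F hP k ↔ a ∈ F.autGroup P ∧
      ∀ i, k ≤ i → ∀ x : P, incl hP x ∈ L S i → incl hP (x⁻¹ * a x) ∈ L S (i + 1) := Iff.rfl

theorem layerStab_le (hP : P ≤ S) (k : ℕ) : layerStab F hP k ≤ F.autGroup P := fun _ h => h.1

theorem layerStab_anti (hP : P ≤ S) {k l : ℕ} (h : k ≤ l) : layerStab F hP k ≤ layerStab F hP l :=
  fun _ ha => ⟨ha.1, fun i hi => ha.2 i (h.trans hi)⟩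

theorem layerStab_apply_mem {hP : P ≤ S} {k : ℕ} {a : MulAut P} (ha : a ∈ layerStab F hP k) {i : ℕ}
    (hi : k ≤ i) {x : P} (hx : incl hP x ∈ L S i) : incl hP (a x) ∈ L S i := by
  have := mul_mem hx (L_anti (Nat.le_succ i) (ha.2 i hi x hx))
  rwa [← map_mul, mul_inv_cancel_left] at this

theorem normConj_apply_incl (hP : P ≤ S) (g : normalizerIn S P) (x : P) :
    incl hP (normConj S P g x) = ⟨g, g.2.1⟩ * incl hP x * ⟨g, g.2.1⟩⁻¹ := Subtype.ext rfl

/-- Conjugation by elements of `S` lies in every layer stabiliser. -/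
theorem autS_le_layerStab (hP : P ≤ S) (k : ℕ) : autInducedBy S P ≤ layerStab F hP k := by
  intro a ha
  refine ⟨autInducedBy_le_autGroup F le_rfl hP ha, fun i _ x hx => ?_⟩
  obtain ⟨g, rfl⟩ := (range_normConj S P).ge ha
  rw [map_mul, map_inv, normConj_apply_incl]
  set y := incl hP x
  set h : S := ⟨g, g.2.1⟩
  have : y⁻¹ * (h * y * h⁻¹) = ⁅y⁻¹, h⁆ := by rw [commutatorElement_def]; group
  rw [this]
  exact commutator_mem_commutator (inv_mem hx) (mem_top h)

theorem layerStab_top (c : Mc S p n) (hP : P ≤ S) : layerStab F hP (n - 1) = F.autGroup P := by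
  refine le_antisymm (layerStab_le hP _) fun a ha => ⟨ha, fun i hi x hx => ?_⟩
  rw [c.L_bot hi, mem_bot] at hx
  rw [(map_eq_one_iff _ (Subgroup.inclusion_injective hP)).1 hx, map_one, mul_one, inv_one, map_one]
  exact one_mem _

/-- The chain `⊥ ≤ P ∩ L_{n-2} ≤ … ≤ P ∩ L_k ≤ P`. -/
def layerChain (n : ℕ) (hP : P ≤ S) (k : ℕ) (i : ℕ) : Subgroup P :=
  if i ≤ n - 1 - k then (L S (n - 1 - i)).comap (incl hP) else ⊤

theorem layerChain_mono (n : ℕ) (hP : P ≤ S) (k : ℕ) (i : ℕ) (_ : i < n - k) :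
    layerChain n hP k i ≤ layerChain n hP k (i + 1) := by
  unfold layerChain
  by_cases h : i + 1 ≤ n - 1 - k
  · rw [if_pos h, if_pos (by omega)]
    exact Subgroup.comap_mono (L_anti (by omega))
  · rw [if_neg h]; exact le_top

/-- Automorphisms acting trivially on `P / (P ∩ L_k)` and on the layers below. -/
def chainStab (n : ℕ) (hP : P ≤ S) (k : ℕ) : Subgroup (MulAut P) :=
  haveI := finite_of_le (S := S) hP
  stabSub (n - k) (layerChain n hP k) (layerChain_mono n hP k)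

theorem isPGroup_chainStab (hS : IsPGroup p S) (c : Mc S p n) (hP : P ≤ S) {k : ℕ} (hk : k ≤ n - 1) :
    IsPGroup p (chainStab n hP k) := by
  haveI := finite_of_le (S := S) hP
  refine isPGroup_stabSub (hS.to_le hP) ?_ ?_ _
  · rw [layerChain, if_pos (Nat.zero_le _), Nat.sub_zero, c.L_bot le_rfl]
    exact eq_bot_iff.2 fun x hx => mem_bot.2 ((map_eq_one_iff _ (Subgroup.inclusion_injective hP)).1
      (mem_bot.1 hx))
  · rw [layerChain, if_neg (by have := c.three_le; omega)]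

theorem mem_chainStab {hP : P ≤ S} {k : ℕ} (c : Mc S p n) (hk : k ≤ n - 1) {a : MulAut P} :
    a ∈ chainStab n hP k ↔ (∀ i, k ≤ i → ∀ x : P, incl hP x ∈ L S i → incl hP (x⁻¹ * a x) ∈ L S (i + 1)) ∧
      ∀ x : P, incl hP (x⁻¹ * a x) ∈ L S k := by
  haveI := finite_of_le (S := S) hP
  have hn := c.three_le
  rw [chainStab, mem_stabSub]
  constructor
  · intro h
    refine ⟨fun i hi x hx => ?_, fun x => ?_⟩
    · rcases Nat.lt_or_ge i (n - 1) with h1 | h1
      · have := h (n - 2 - i) (by omega) x (by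
          rw [layerChain, if_pos (by omega), mem_comap, show n - 1 - (n - 2 - i + 1) = i by omega]; exact hx)
        rwa [layerChain, if_pos (by omega), mem_comap, show n - 1 - (n - 2 - i) = i + 1 by omega] at this
      · rw [c.L_bot h1, mem_bot] at hx
        rw [(map_eq_one_iff _ (Subgroup.inclusion_injective hP)).1 hx, map_one, mul_one, inv_one, map_one]
        exact one_mem _
    · have := h (n - 1 - k) (by omega) x (by rw [layerChain, if_neg (by omega)]; exact mem_top x)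
      rwa [layerChain, if_pos le_rfl, mem_comap, show n - 1 - (n - 1 - k) = k by omega] at this
  · rintro ⟨h1, h2⟩ i hi x hx
    rw [layerChain, if_pos (by omega), mem_comap]
    by_cases h : i + 1 ≤ n - 1 - k
    · rw [layerChain, if_pos h, mem_comap] at hx
      have := h1 _ (by omega) x hx
      rwa [show n - 1 - (i + 1) + 1 = n - 1 - i by omega] at this
    · rw [show n - 1 - i = k by omega]; exact h2 x

theorem chainStab_conj (c : Mc S p n) {hP : P ≤ S} {k : ℕ} (hk : k ≤ n - 1) {g : MulAut P}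
    (hg : g ∈ layerStab F hP k) {a : MulAut P} (ha : a ∈ chainStab n hP k) :
    g * a * g⁻¹ ∈ chainStab n hP k := by
  rw [mem_chainStab c hk] at ha ⊢
  have hgi := inv_mem hg
  have e : ∀ x : P, x⁻¹ * (g * a * g⁻¹) x = g ((g⁻¹ x)⁻¹ * a (g⁻¹ x)) := fun x => by
    rw [MulAut.mul_apply, MulAut.mul_apply, map_mul, map_inv, MulAut.apply_inv_self]
  refine ⟨fun i hi x hx => ?_, fun x => ?_⟩ <;> rw [e]
  · exact layerStab_apply_mem hg (by omega) (ha.1 i hi _ (layerStab_apply_mem hgi hi hx))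
  · exact layerStab_apply_mem hg le_rfl (ha.2 _)

/-- Elements centralising `E` modulo `L_k` lie in `E`, when the layer stabiliser is not inside `M`. -/
theorem mem_of_centralizes {M : Subgroup (MulAut E)} (se : Sep p F E M) (hS : IsPGroup p S)
    (c : Mc S p n) (hE : F.IsEssential p E) {k : ℕ} (hk : k ≤ n - 1) (hLk : L S k ≤ E.subgroupOf S)
    (hK : ¬ layerStab F hE.1.1 k ≤ M) {t : S} (ht : ∀ e ∈ E.subgroupOf S, ⁅t, e⁆ ∈ L S k) :
    t ∈ E.subgroupOf S := by
  have hES := hE.1.1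
  haveI := finite_of_le (S := S) hES
  have hN : (t : Ω) ∈ normalizerIn S E := by
    refine mem_normalizerIn_of_conj t.2 fun x hx => ?_
    have h2 : ⁅t, (⟨x, hES hx⟩ : S)⁆ * ⟨x, hES hx⟩ ∈ E.subgroupOf S := mul_mem (hLk (ht _ hx)) hx
    rw [commutatorElement_def, inv_mul_cancel_right] at h2
    exact h2
  obtain ⟨g, hg, hgM⟩ := SetLike.not_le_iff_exists.1 hK
  have hT : normConj S E ⟨t, hN⟩ ∈ autInducedBy S E ∧ normConj S E ⟨t, hN⟩ ∈ F.autGroup E :=
    Resist.normConj_mem F hES _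
  have hmem : normConj S E ⟨t, hN⟩ ∈ chainStab n hES k := by
    rw [mem_chainStab c hk]
    refine ⟨fun i hi x hx => (autS_le_layerStab (F := F) hES k hT.1).2 i hi x hx, fun x => ?_⟩
    rw [map_mul, map_inv, normConj_apply_incl]
    have h1 : ⁅t, incl hES x⁆ ∈ L S k := ht _ x.2
    have e : (incl hES x)⁻¹ * (t * incl hES x * t⁻¹) = (incl hES x)⁻¹ * ⁅t, incl hES x⁆ * (incl hES x)⁻¹⁻¹ := by
      rw [commutatorElement_def]; group
    rw [e]
    exact (inferInstance : (L S k).Normal).conj_mem _ h1 _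
  have hinn : normConj S E ⟨t, hN⟩ ∈ Cfsg.Inn E :=
    se.inner_of_normalized (Q := chainStab n hES k ⊓ F.autGroup E) inf_le_right
      ((isPGroup_chainStab hS c hES hk).to_le inf_le_left) hg.1 hgM
      (fun q hq => ⟨chainStab_conj c hk hg hq.1, (F.autGroup E).mul_mem ((F.autGroup E).mul_mem hg.1 hq.2) ((F.autGroup E).inv_mem hg.1)⟩)
      ⟨hmem, hT.2⟩ (se.autS hT.1)
  exact Resist.mem_of_inn hE hinn

end Cfsg.Agent.MaxClassEss
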