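import Cfsg.Agent.Lib.MaxClassEss.Outside
import Cfsg.Agent.Lib.MaxClassEss.Aut

/-!
# Extending maps to the first two-step centralizer

* `Hyp` : an essential subgroup `E < Γ₁`, all larger essential subgroups inside `Γ₁` being `Γ₁`;
* `Hyp.ext_gamma` : a map on `P ≤ Γ₁`, `|P| > |E|`, agrees with an element of `Aut_F(Γ₁)`.
-/

set_option autoImplicit false
set_option linter.unusedSectionVars false
set_option linter.style.haveILetI false

open Subgroup
open scoped commutatorElement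

universe u

namespace Cfsg.Agent.MaxClassEss

open Cfsg Cfsg.FusionSystem Cfsg.Agent.Fusion MaxClassPower PearlRank

variable {p n : ℕ} [hp : Fact p.Prime] {Ω : Type u} [Group Ω] {S : Subgroup Ω} [Finite S]
  {F : FusionSystem S} {E : Subgroup Ω}

/-- The first two-step centralizer as a subgroup of the ambient group. -/
abbrev GammaOne (S : Subgroup Ω) : Subgroup Ω := (twoStep S 1).map S.subtype

theorem gamma_le : GammaOne S ≤ S := Subgroup.map_subtype_le _

theorem mem_gamma {x : Ω} (hx : x ∈ S) : x ∈ GammaOne S ↔ (⟨x, hx⟩ : S) ∈ twoStep S 1 := by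
  constructor
  · rintro ⟨y, hy, e⟩
    rwa [← show y = (⟨x, hx⟩ : S) from Subtype.ext e]
  · exact fun h => ⟨_, h, rfl⟩

/-- A map that leaves a subgroup invariant restricts to an automorphism of it. -/
theorem exists_restrict {P Q : Subgroup Ω} {f : Ω → Ω} (hf : IsMap F P f) (hQ : Q ≤ P)
    (hinv : ∀ x ∈ Q, f x ∈ Q) : ∃ β ∈ F.autGroup Q, ∀ x ∈ Q, autFn β x = f x := by
  haveI := finite_of_le (S := S) (hQ.trans hf.le)
  have hiso : IsIso F Q Q f := ⟨hf.mono hQ,
    Subgroup.eq_of_le_of_card_ge (hf.img_le hQ hinv) ((hf.card_img hQ).ge)⟩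
  obtain ⟨β, hβ, e⟩ := exists_aut_of_isIso hiso
  exact ⟨β, hβ, fun x hx => by rw [autFn_apply β hx]; exact e ⟨x, hx⟩⟩

theorem autFn_gamma {α : MulAut S} {x : Ω} (hx : x ∈ GammaOne S) : autFn α x ∈ GammaOne S := by
  rw [autFn_apply α (gamma_le hx)]
  exact mem_map_of_mem _ (map_twoStep_mem α ((mem_gamma (gamma_le hx)).1 hx))

/-- The context of the main induction. -/
structure Hyp (p n : ℕ) (F : FusionSystem S) (E : Subgroup Ω) : Prop where
  hS : IsPGroup p S
  hF : F.IsSaturated p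
  c : Mc S p n
  h4 : 4 ≤ n
  hE : F.IsEssential p E
  le : E.subgroupOf S ≤ twoStep S 1
  ne : E.subgroupOf S ≠ twoStep S 1
  /-- larger essential subgroups inside `Γ₁` are `Γ₁` -/
  big : ∀ R : Subgroup Ω, F.IsEssential p R → Nat.card E < Nat.card R → R.subgroupOf S ≤ twoStep S 1 →
    R.subgroupOf S = twoStep S 1
  /-- an essential subgroup inside the other two-step centralizer is of no use -/
  outC : ∀ R : Subgroup Ω, F.IsEssential p R → R.subgroupOf S ≤ twoStep S (n - 3) →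
    ¬ R.subgroupOf S ≤ twoStep S 1 → p ^ (n - 2) ≤ Nat.card E

namespace Hyp

variable (hy : Hyp p n F E)

include hy

theorem hES : E ≤ S := hy.hE.1.1

theorem sq_le_card : p ^ 2 ≤ Nat.card E := by
  have hES := hy.hES
  haveI := finite_of_le (S := S) hES
  obtain ⟨j, hj⟩ := IsPGroup.iff_card.mp (hy.hS.to_le hES)
  have se := EssentialSmall.setting_of_essential hy.hS hy.hF hy.hE
  rw [hj]
  refine Nat.pow_le_pow_right hp.out.pos ?_
  by_contra h
  refine se.false_of_series ⊤ ⊤ le_rfl (fun _ _ _ _ => mem_top _) (fun _ _ _ _ => mem_top _) ?_ ?_ ?_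
  · rw [card_top, hj]; exact (Nat.pow_le_pow_right hp.out.pos (show j ≤ 1 by omega)).trans (pow_one p).le
  · exact Nat.le_mul_of_pos_left _ hp.out.pos
  · rw [card_top]; exact Nat.le_mul_of_pos_left _ hp.out.pos

/-- Maps on subgroups of `Γ₁` larger than `E` come from `Aut_F(Γ₁)`. -/
theorem ext_gamma {P : Subgroup Ω} {f : Ω → Ω} (hf : IsMap F P f) (hP : P ≤ GammaOne S)
    (hcard : Nat.card E < Nat.card P) : ∃ γ ∈ F.autGroup (GammaOne S), ∀ x ∈ P, autFn γ x = f x := by
  let M : Subgroup Ω → (Ω → Ω) → Prop := fun R g => ∀ Q ≤ R, Q ≤ GammaOne S → Nat.card E < Nat.card Q →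
    ∃ γ ∈ F.autGroup (GammaOne S), ∀ x ∈ Q, autFn γ x = g x
  suffices h : M P f from h P le_rfl hP hcard
  refine alperin_essential hy.hS hy.hF M ?_ ?_ ?_ ?_ hf
  · intro R g g' _ hM e Q hQ hQG hQc
    obtain ⟨γ, hγ, h⟩ := hM Q hQ hQG hQc
    exact ⟨γ, hγ, fun x hx => (h x hx).trans (e x (hQ hx))⟩
  · exact fun R R' g _ hle hM Q hQ => hM Q (hQ.trans hle)
  · intro R R' g g' hg _ hmem hM hM' Q hQ hQG hQc
    obtain ⟨γ, hγ, h⟩ := hM Q hQ hQG hQc
    obtain ⟨γ', hγ', h'⟩ := hM' (img g Q) (hg.img_le hQ fun x hx => hmem x (hQ hx))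
      (hg.img_le hQ fun x hx => by rw [← h x hx]; exact autFn_mem γ (hQG hx))
      (by rwa [hg.card_img hQ])
    refine ⟨γ' * γ, mul_mem hγ' hγ, fun x hx => ?_⟩
    have e1 := h' _ (hg.mem_img (Q := Q) hx)
    rw [← h x hx, autFn_apply γ' (autFn_mem γ (hQG hx))] at e1
    show _ = g' (g x)
    rw [autFn_apply (γ' * γ) (hQG hx), MulAut.mul_apply, ← h x hx, ← e1]
    exact congrArg (fun y : GammaOne S => ((γ' y : GammaOne S) : Ω)) (Subtype.ext (autFn_apply γ (hQG hx)).symm)
  · intro R hR α hα Q hQR hQG hQc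
    rcases hR with rfl | hR
    · exact (exists_restrict ((mem_autGroup_iff le_rfl).1 hα) gamma_le fun x hx => autFn_gamma hx).imp
        fun β h => ⟨h.1, fun x hx => h.2 x (hQG hx)⟩
    have hRS : R ≤ S := hR.1.1
    haveI := finite_of_le (S := S) hRS
    have hQ1 : ∀ x ∈ Q, ∀ hx : x ∈ S, (⟨x, hx⟩ : S) ∈ R.subgroupOf S ⊓ twoStep S 1 := fun x hx h =>
      ⟨hQR hx, (mem_gamma h).1 (hQG hx)⟩
    have hcQ : Nat.card Q ≤ Nat.card ↥(R.subgroupOf S ⊓ twoStep S 1) :=
      Nat.card_le_card_of_injective (fun x : Q => (⟨⟨x, hRS (hQR x.2)⟩, hQ1 x x.2 _⟩ : ↥(R.subgroupOf S ⊓ twoStep S 1)))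
        fun a b e => Subtype.ext (congrArg (fun z => ((z.1 : S) : Ω)) e)
    have hcR : Nat.card (R.subgroupOf S) = Nat.card R := Nat.card_congr (subgroupOfEquivOfLe hRS).toEquiv
    by_cases h1 : R.subgroupOf S ≤ twoStep S 1
    · have hEQ : R.subgroupOf S = twoStep S 1 := hy.big R hR
        (lt_of_lt_of_le hQc (hcQ.trans (by rw [inf_eq_left.2 h1, hcR]))) h1
      have hRG : R = GammaOne S := by rw [GammaOne, ← hEQ, map_subgroupOf_eq_of_le hRS]
      subst hRG
      exact ⟨α, hα, fun x _ => rfl⟩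
    exfalso
    by_cases h2 : R.subgroupOf S ≤ twoStep S (n - 3)
    · have hne : twoStep S (n - 3) ≠ twoStep S 1 := fun e => h1 (e ▸ h2)
      have hle : R.subgroupOf S ⊓ twoStep S 1 ≤ L S 1 := by
        intro g hg
        by_contra hg1
        exact hne (hy.c.twoStep_eq_of_mem (by have := hy.h4; omega) le_rfl le_rfl
          (by have := hy.h4; omega) (h2 hg.1) hg.2 hg1)
      have := hcQ.trans (Subgroup.card_le_of_le hle)
      rw [hy.c.card_L le_rfl, show n - 1 - 1 = n - 2 by omega] at this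
      have := hy.outC R hR h2 h1
      omega
    · have h3 := card_le_of_outside hy.hS hy.hF hy.c hy.h4 hR h1 h2
      have hlt : R.subgroupOf S ⊓ twoStep S 1 < R.subgroupOf S :=
        lt_of_le_of_ne inf_le_left fun e => h1 (inf_eq_left.1 e)
      have h4' := PGroup.mul_card_le_of_lt hy.c.pGroup hlt
      rw [hcR] at h4'
      have h5 : p * p ^ 2 < p * Nat.card ↥(R.subgroupOf S ⊓ twoStep S 1) :=
        Nat.mul_lt_mul_of_pos_left ((hy.sq_le_card).trans_lt (hQc.trans_le hcQ)) hp.out.pos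
      rw [← pow_succ', show 2 + 1 = 3 from rfl] at h5
      omega

end Hyp

end Cfsg.Agent.MaxClassEss
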