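import Cfsg.Agent.EqLemmas
import Cfsg.Agent.Lib.MaxClass.Degree
import Cfsg.Agent.Lib.MaxClass.SmallNormal

/-!
# Structure of groups of maximal class, for the essential subgroups theorem

* `good_of`, `exceptional_facts` : only two two-step centralizers occur; if they differ, `n` is even, `n ≤ p + 1`;
* `invariant_le`, `L_one_le_of_normal` : subgroups invariant under a good element;
* `pair_step`, `pair_ne` : the commutator pairing of an exceptional group.
-/

set_option autoImplicit false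
set_option linter.unusedSectionVars false

open Subgroup
open scoped commutatorElement

universe u

namespace Cfsg.Agent.MaxClassEss

open MaxClassPower PearlRank
open PearlRank.Pc (D D_mem)

variable {X : Type u} [Group X]

/-- `u` lies exactly in the `i`-th layer. -/
def Ex (X : Type u) [Group X] (i : ℕ) (u : X) : Prop := u ∈ L X i ∧ u ∉ L X (i + 1)

variable [Finite X] {p n : ℕ} [hp : Fact p.Prime]

instance twoStep_normal (i : ℕ) : (twoStep X i).Normal := Subgroup.Normal.of_commutator_le _ (by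
  have h := L_one_le_twoStep (X := X) i
  rwa [L, Subgroup.top_lowerCentralSeries_one] at h)

theorem L_anti {i j : ℕ} (h : i ≤ j) : L X j ≤ L X i := Subgroup.lowerCentralSeries_antitone _ h

theorem L_zero : L X 0 = ⊤ := eq_top_iff.2 fun g _ => mem_L_zero g

variable (c : Mc X p n)

include c

/-- Only two two-step centralizers occur. -/
theorem twoStep_cases {i : ℕ} (hi : 1 ≤ i) (hin : i ≤ n - 3) :
    twoStep X i = twoStep X 1 ∨ i = n - 3 := by
  rcases eq_or_lt_of_le hin with h | h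
  · exact Or.inr h
  · exact Or.inl (c.twoStep_const i hi (Or.inl (by omega)))

theorem twoStep_low {i : ℕ} (hi : 1 ≤ i) (hin : i ≤ n - 4) : twoStep X i = twoStep X 1 :=
  c.twoStep_const i hi (Or.inl hin)

theorem good_of (hn : 4 ≤ n) {g : X} (h1 : g ∉ twoStep X 1) (h2 : g ∉ twoStep X (n - 3)) : Gd X p n g := by
  have hg1 : g ∉ L X 1 := fun h => h1 (L_one_le_twoStep 1 h)
  refine ⟨c.card, c.three_le, c.card_centralizer hg1 fun i hi hin => ?_⟩
  rcases twoStep_cases c hi hin with h | h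
  · rwa [h]
  · rwa [h]

/-- An exceptional group has even order exponent, at most `p + 1`. -/
theorem exceptional_facts (hn : 4 ≤ n) (hx : twoStep X (n - 3) ≠ twoStep X 1) :
    Even n ∧ 6 ≤ n ∧ n ≤ p + 1 ∧ p ≠ 2 := by
  have hodd : ¬ Odd n := fun h => hx (c.twoStep_const _ (by omega) (Or.inr ⟨h, rfl⟩))
  have hev : Even n := Nat.not_odd_iff_even.1 hodd
  have hp2 := hp.out.two_le
  have h6 : 6 ≤ n := by
    obtain ⟨q, rfl⟩ := hev
    rcases Nat.eq_zero_or_pos (q - 2) with h | h
    · exact absurd (by rw [show q + q - 3 = 1 by omega]) hx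
    · omega
  have hle : n - 3 ≤ p - 1 := by
    by_contra h
    obtain ⟨j, h1, h2, -, he⟩ := c.twoStep_periodic (n - 3) (by omega) le_rfl
    exact hx (he.symm.trans (twoStep_low c h1 (by omega)))
  have hne2 : p ≠ 2 := by omega
  refine ⟨hev, h6, ?_, hne2⟩
  have hpo := hp.out.odd_of_ne_two hne2
  obtain ⟨q, rfl⟩ := hev
  obtain ⟨r, rfl⟩ := hpo
  omega

theorem gen_L' {i : ℕ} (hi : 1 ≤ i) {u : X} (hu : Ex X i u) : L X (i + 1) ⊔ zpowers u = L X i :=
  c.gen_L hi hu.1 hu.2

theorem exists_ex {i : ℕ} (hi : 1 ≤ i) (hin : i ≤ n - 2) : ∃ u, Ex X i u :=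
  SetLike.not_le_iff_exists.mp (c.L_lt hi (by have := c.three_le; omega))

/-- Every non-trivial element of the derived group lies exactly in some layer. -/
theorem exists_level {u : X} (hu : u ∈ L X 1) (h1 : u ≠ 1) : ∃ i, 1 ≤ i ∧ i ≤ n - 2 ∧ Ex X i u := by
  classical
  have hex : ∃ i, u ∉ L X i := ⟨n - 1, fun h => h1 (by rwa [c.L_bot le_rfl, mem_bot] at h)⟩
  have hle : Nat.find hex ≤ n - 1 :=
    Nat.find_min' hex fun h => h1 (by rwa [c.L_bot le_rfl, mem_bot] at h)
  have hgt : 2 ≤ Nat.find hex := by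
    by_contra h
    exact Nat.find_spec hex (L_anti (by omega) hu)
  refine ⟨Nat.find hex - 1, by omega, by omega, not_not.1 (Nat.find_min hex (by omega)), ?_⟩
  rw [Nat.sub_add_cancel (by omega)]
  exact Nat.find_spec hex

/-- A subgroup invariant under a good element contains whole layers. -/
theorem invariant_le {s : X} (hs : Gd X p n s) {H : Subgroup X} (hH : ∀ h ∈ H, s * h * s⁻¹ ∈ H) :
    ∀ {i : ℕ}, 1 ≤ i → ∀ {u : X}, u ∈ H → Ex X i u → L X i ≤ H := by
  suffices h : ∀ d i, n ≤ i + d → 1 ≤ i → ∀ {u : X}, u ∈ H → Ex X i u → L X i ≤ H from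
    fun {i} hi => h n i (by omega) hi
  intro d
  induction d with
  | zero =>
    intro i hd _ u _ _
    rw [c.L_bot (by omega)]
    exact bot_le
  | succ d ih =>
    intro i hd hi u hu hex
    rw [← gen_L' c hi hex]
    refine sup_le ?_ (zpowers_le.2 hu)
    rcases Nat.lt_or_ge (n - 2) (i + 1) with h | h
    · rw [c.L_bot (by have := c.three_le; omega)]
      exact bot_le
    · refine ih (i + 1) (by omega) (by omega) (u := D s u) ?_ ⟨D_mem hex.1, hs.D_sharp hi h hex.1 hex.2⟩
      show u⁻¹ * (s * u * s⁻¹) ∈ H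
      exact mul_mem (inv_mem hu) (hH u hu)

theorem sup_good_eq_top {i : ℕ} (hi : 1 ≤ i) (hin : i ≤ n - 3) {s : X} (hs : s ∉ twoStep X i) :
    twoStep X i ⊔ zpowers s = ⊤ := by
  have hn := c.three_le
  refine PGroup.eq_of_le_of_card_le le_top ?_
  have := PGroup.mul_card_le_of_lt c.pGroup
    (left_lt_sup.2 fun h => hs (h (mem_zpowers s)) : twoStep X i < twoStep X i ⊔ zpowers s)
  rwa [c.card_twoStep hi hin, ← pow_succ', show n - 1 + 1 = n by omega, ← c.card, ← card_top (G := X)] at this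

/-- The commutator of a good element and a proper element of a two-step centralizer. -/
theorem D_not_mem_L_two {i : ℕ} (hi : 1 ≤ i) (hin : i ≤ n - 3) {s : X} (hs : s ∉ twoStep X i) {g : X}
    (hg : g ∈ twoStep X i) (hg1 : g ∉ L X 1) : D s g ∉ L X 2 := by
  intro h
  refine c.L_lt le_rfl (by omega) ?_
  let π := QuotientGroup.mk' (L X 2)
  have hT : ∀ a ∈ L X 1, ∀ b : X, Commute (π a) (π b) := fun a ha b => by
    rw [← commutatorElement_eq_one_iff_commute, ← map_commutatorElement]
    exact (QuotientGroup.eq_one_iff _).2 (commutator_mem_commutator ha (mem_top b))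
  have hsg : Commute (π g) (π s) := by
    have h1 : π (g⁻¹ * (s * g * s⁻¹)) = 1 := (QuotientGroup.eq_one_iff _).2 (by simpa [D, mul_assoc] using h)
    rw [map_mul, map_inv, inv_mul_eq_one, map_mul, map_mul, map_inv, eq_mul_inv_iff_mul_eq] at h1
    exact h1
  have hcl : ∀ a b : X, Commute (π a) (π b) := by
    have hle : ∀ b : X, b ∈ L X 1 ⊔ zpowers g ⊔ zpowers s := fun b => by
      rw [c.gen_twoStep hi hin hg hg1, sup_good_eq_top c hi hin hs]
      exact mem_top b
    have h1 : ∀ b, Commute (π g) (π b) ∧ Commute (π s) (π b) := by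
      intro b
      have : L X 1 ⊔ zpowers g ⊔ zpowers s ≤ (centralizer ({π g, π s} : Set (X ⧸ L X 2))).comap π := by
        refine sup_le (sup_le (fun a ha => ?_) (zpowers_le.2 ?_)) (zpowers_le.2 ?_) <;>
          rw [mem_comap, mem_centralizer_iff] <;> rintro x (rfl | rfl)
        · exact (hT a ha g).eq.symm
        · exact (hT a ha s).eq.symm
        · rfl
        · exact hsg.eq.symm
        · exact hsg.eq
        · rfl
      have h2 := mem_centralizer_iff.1 (this (hle b))
      exact ⟨h2 _ (Or.inl rfl), h2 _ (Or.inr rfl)⟩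
    intro a b
    have : L X 1 ⊔ zpowers g ⊔ zpowers s ≤ (centralizer ({π b} : Set (X ⧸ L X 2))).comap π := by
      refine sup_le (sup_le (fun a ha => ?_) (zpowers_le.2 ?_)) (zpowers_le.2 ?_) <;>
        rw [mem_comap, mem_centralizer_singleton_iff]
      · exact (hT a ha b).eq
      · exact (h1 b).1.eq
      · exact (h1 b).2.eq
    exact (mem_centralizer_singleton_iff.1 (this (hle a)))
  show (⊤ : Subgroup X).lowerCentralSeries 1 ≤ _
  rw [Subgroup.top_lowerCentralSeries_one, _root_.commutator_def, commutator_le]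
  intro a _ b _
  rw [← QuotientGroup.eq_one_iff]
  show π ⁅a, b⁆ = 1
  rw [map_commutatorElement, commutatorElement_eq_one_iff_mul_comm]
  exact (hcl a b).eq

/-- A subgroup invariant under a good element that is not inside the derived group contains it. -/
theorem L_one_le_of_invariant {s : X} (hs : Gd X p n s) (hn : 4 ≤ n) {i : ℕ} (hi : 1 ≤ i) (hin : i ≤ n - 3)
    {H : Subgroup X} (hH : ∀ h ∈ H, s * h * s⁻¹ ∈ H) {g : X} (hg : g ∈ twoStep X i) (hg1 : g ∉ L X 1)
    (hgH : g ∈ H) : L X 1 ≤ H := by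
  refine invariant_le c hs hH le_rfl (u := D s g) ?_ ⟨D_mem (mem_L_zero g),
    D_not_mem_L_two c hi hin (c.not_mem_twoStep hs hi hin) hg hg1⟩
  show g⁻¹ * (s * g * s⁻¹) ∈ H
  exact mul_mem (inv_mem hgH) (hH g hgH)

/-- Commutators of layers, in all cases. -/
theorem comm_deep (hn : 4 ≤ n) {i j : ℕ} (hij : i + j ≤ n - 4) {g u : X} (hg : g ∈ L X i) (hgt : g ∈ twoStep X 1)
    (hu : u ∈ L X j) (hut : u ∈ twoStep X 1) (h0 : 1 ≤ i + j) : ⁅g, u⁆ ∈ L X (i + j + 2) := by
  rcases Nat.eq_zero_or_pos i with rfl | hi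
  · rw [Nat.zero_add]
    exact mem_twoStep.mp (twoStep_low c (i := j) (by omega) (by omega) ▸ hgt) _ hu
  rcases Nat.eq_zero_or_pos j with rfl | hj
  · rw [← commutatorElement_inv]
    exact inv_mem (mem_twoStep.mp (twoStep_low c (i := i) (by omega) (by omega) ▸ hut) _ hg)
  exact c.comm_L_le_of_const hn (N := n - 4) (fun k h1 h2 => twoStep_low c h1 h2) i j hi hj hij
    (commutator_mem_commutator hg hu)

theorem twoStep_seq {x : ℕ → X} (h0 : x 0 ∈ twoStep X 1) (hmem : ∀ t, x t ∈ L X t) (t : ℕ) :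
    x t ∈ twoStep X 1 := by
  rcases Nat.eq_zero_or_pos t with rfl | ht
  · exact h0
  · exact L_one_le_twoStep 1 (L_anti ht (hmem t))

/-- The alternating relation of the pairing. -/
theorem pair_step (hn : 5 ≤ n) {s : X} {x : ℕ → X} (h0 : x 0 ∈ twoStep X 1) (hmem : ∀ t, x t ∈ L X t)
    (hcj : ∀ t, s * x t * s⁻¹ = x t * x (t + 1)) {t u : ℕ} (htu : t + u = n - 4) :
    ⁅x (t + 1), x u⁆ * ⁅x t, x (u + 1)⁆ = 1 := by
  have hac : ⁅x t, x u⁆ ∈ L X (n - 2) :=
    L_anti (by omega) (comm_deep c (by omega) (le_of_eq htu) (hmem t) (twoStep_seq c h0 hmem t) (hmem u)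
      (twoStep_seq c h0 hmem u) (by omega))
  rw [rel_conj (hcj t) (hcj u) (c.commute_of_mem (comm_L_mem (by omega) (hmem _) (hmem _)) _)
    (c.commute_of_mem (comm_L_mem (by omega) (hmem _) (hmem _)) _) ?_ (c.commute_of_mem hac _)]
  · show ⁅x t, x u⁆⁻¹ * (s * ⁅x t, x u⁆ * s⁻¹) = 1
    rw [(c.commute_of_mem hac s).eq, mul_inv_cancel_right, inv_mul_cancel]
  · have h := comm_L_mem (k := n - 1) (by omega) (hmem (t + 1)) (hmem (u + 1))
    rwa [c.L_bot le_rfl, mem_bot] at h

/-- In an exceptional group the pairing of complementary layers is perfect. -/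
theorem pair_ne (hn : 4 ≤ n) (hx : twoStep X (n - 3) ≠ twoStep X 1) {s : X} {x : ℕ → X}
    (h0 : x 0 ∈ twoStep X 1) (h01 : x 0 ∉ L X 1) (hmem : ∀ t, x t ∈ L X t)
    (hnot : ∀ t, 1 ≤ t → t ≤ n - 2 → x t ∉ L X (t + 1)) (hcj : ∀ t, s * x t * s⁻¹ = x t * x (t + 1)) :
    ∀ t, t ≤ n - 3 → ⁅x t, x (n - 3 - t)⁆ ≠ 1 := by
  intro t
  induction t with
  | zero =>
    intro _ h
    refine hx (c.twoStep_eq_of_mem (by omega) le_rfl le_rfl (by omega)
      (c.mem_twoStep_of (by omega) (hmem (n - 3)) (hnot _ (by omega) (by omega)) ?_) h0 h01)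
    rw [Nat.sub_zero] at h
    rw [h]
    exact one_mem _
  | succ t ih =>
    intro ht h
    have hn6 := (exceptional_facts c hn hx).2.1
    have h2 := pair_step c (by omega) h0 hmem hcj (t := t) (u := n - 4 - t) (by omega)
    rw [show n - 3 - (t + 1) = n - 4 - t by omega] at h
    rw [h, one_mul, show n - 4 - t + 1 = n - 3 - t by omega] at h2
    exact ih (by omega) h2

/-- The pairing of exact complementary layers is non-trivial. -/
theorem pair_exact (hn : 4 ≤ n) (hx : twoStep X (n - 3) ≠ twoStep X 1) {i j : ℕ} (hij : i + j = n - 3)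
    (hi : 1 ≤ i) (hj : 1 ≤ j) {a b : X} (ha : Ex X i a) (hb : Ex X j b) : ⁅a, b⁆ ≠ 1 := by
  intro h
  obtain ⟨s, hs⟩ := c.exists_good
  obtain ⟨x, h0, h01, hmem, hnot, hcj⟩ := c.exists_seq hn hs
  refine pair_ne c hn hx h0 h01 hmem hnot hcj i (by omega) ?_
  have key : ∀ {i j : ℕ}, i + j = n - 3 → 1 ≤ i → 1 ≤ j → ∀ {a b : X}, Ex X i a → b ∈ L X j →
      Commute a b → ∀ {w : X}, w ∈ L X i → Commute w b := by
    intro i j hij hi hj a b ha hb hab w hw
    have hle : L X i ≤ centralizer {b} := by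
      rw [← gen_L' c hi ha]
      refine sup_le (fun y hy => ?_) (zpowers_le.2 (mem_centralizer_singleton_iff.2 hab.eq))
      rw [mem_centralizer_singleton_iff, ← commutatorElement_eq_one_iff_mul_comm]
      have h := comm_L_mem (k := n - 1) (by omega) hy hb
      rwa [c.L_bot le_rfl, mem_bot] at h
    exact mem_centralizer_singleton_iff.1 (hle hw)
  have h1 : Commute (x i) b := key hij hi hj ha hb.1 (commutatorElement_eq_one_iff_mul_comm.1 h) (hmem i)
  have h2 : Commute (x (n - 3 - i)) (x i) :=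
    key (by omega) hj hi hb (hmem i) h1.symm (by rw [show n - 3 - i = j by omega]; exact hmem j)
  exact commutatorElement_eq_one_iff_mul_comm.2 h2.symm.eq

end Cfsg.Agent.MaxClassEss
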