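import Cfsg.Agent.Lib.PSL2.Finite

/-!
# Two homologies in a finite group of order prime to the characteristic (for S5267 piece A; owner: helper96)

* `bracket_rels` : the relations between two idempotents and their commutator
* `two_dim` : in `GL(2,K)` two homologies of order at least six in a finite `p'`-group commute
* `bracket_nilpotent` : in any dimension their idempotents have a nilpotent commutator
-/

set_option autoImplicit false
set_option linter.unusedSectionVars false

open Module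

namespace Cfsg.Agent.MaxClassEss

/-- Relations between two idempotents and their commutator. -/
theorem bracket_rels {R : Type*} [Ring R] {P Q : R} (hP : P * P = P) (hQ : Q * Q = Q) :
    (P * Q - Q * P) * P = (1 - P) * (P * Q - Q * P) ∧
    (P * Q - Q * P) * Q = (1 - Q) * (P * Q - Q * P) ∧
    Commute ((P * Q - Q * P) * (P * Q - Q * P)) P ∧
    Commute ((P * Q - Q * P) * (P * Q - Q * P)) Q ∧
    Commute ((P - Q) * (P - Q)) P ∧ Commute ((P - Q) * (P - Q)) Q := by
  have hP' : ∀ x, P * (P * x) = P * x := fun x => by rw [← mul_assoc, hP]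
  have hQ' : ∀ x, Q * (Q * x) = Q * x := fun x => by rw [← mul_assoc, hQ]
  have h1 : (P * Q - Q * P) * P = (1 - P) * (P * Q - Q * P) := by
    simp only [sub_mul, mul_sub, one_mul, mul_assoc, hP, hP']
    abel
  have h2 : (P * Q - Q * P) * Q = (1 - Q) * (P * Q - Q * P) := by
    simp only [sub_mul, mul_sub, one_mul, mul_assoc, hQ, hQ']
    abel
  have key : ∀ Z E : R, Z * E = (1 - E) * Z → Commute (Z * Z) E := fun Z E h => by
    show Z * Z * E = E * (Z * Z)
    calc Z * Z * E = (Z - Z * E) * Z := by conv_lhs => rw [mul_assoc, h, ← mul_assoc, mul_sub, mul_one]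
      _ = E * (Z * Z) := by rw [h]; noncomm_ring
  refine ⟨h1, h2, key _ _ h1, key _ _ h2, ?_, ?_⟩
  · show (P - Q) * (P - Q) * P = P * ((P - Q) * (P - Q))
    simp only [sub_mul, mul_sub, mul_assoc, hP, hP', hQ]
    abel
  · show (P - Q) * (P - Q) * Q = Q * ((P - Q) * (P - Q))
    simp only [sub_mul, mul_sub, mul_assoc, hP, hQ, hQ']
    abel

variable {K : Type*} [Field K]

/-- Powers of a homology. -/
theorem homology_pow {A : Type*} [Ring A] [Algebra K A] {P : A} (hP : P * P = P) (ω : K) (n : ℕ) :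
    (1 + (ω - 1) • P) ^ n = 1 + (ω ^ n - 1) • P := by
  induction n with
  | zero => simp
  | succ n ih =>
    rw [pow_succ, ih, add_mul, one_mul, mul_add, mul_one, smul_mul_smul_comm, hP, add_assoc,
      ← add_smul, ← add_smul]
    congr 2
    ring

private theorem orders_four : ∀ x : alternatingGroup (Fin 4), x ^ 2 = 1 ∨ x ^ 3 = 1 := by
  decide +kernel

private theorem orders_sym_four : ∀ x : Equiv.Perm (Fin 4), x ^ 2 = 1 ∨ x ^ 3 = 1 ∨ x ^ 4 = 1 := by
  decide +kernel

private theorem orders_five : ∀ x : alternatingGroup (Fin 5), x ^ 2 = 1 ∨ x ^ 3 = 1 ∨ x ^ 5 = 1 := by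
  decide +kernel

private theorem dihedral_commute {n : ℕ} {x y : DihedralGroup n} (hx : x * x ≠ 1) (hy : y * y ≠ 1) :
    x * y = y * x := by
  rcases x with i | i
  · rcases y with j | j
    · simp [add_comm]
    · simp at hy
  · simp at hx

variable [IsAlgClosed K] (p : ℕ) [Fact p.Prime] [CharP K p]

/-- The two-dimensional case. -/
theorem two_dim {H : Type*} [Group H] [Finite H] (hH : ¬ p ∣ Nat.card H) (ρ : H →* GL (Fin 2) K) {a b : H}
    {ω : K} (hω : 6 ≤ orderOf ω) {Pm Qm : Matrix (Fin 2) (Fin 2) K}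
    (hP : Pm * Pm = Pm) (hQ : Qm * Qm = Qm) (hPt : Pm.trace = 1) (hQt : Qm.trace = 1)
    (ha : (ρ a).1 = 1 + (ω - 1) • Pm) (hb : (ρ b).1 = 1 + (ω - 1) • Qm)
    (hZ : ∀ u, Matrix.mulVec (Pm * Qm - Qm * Pm) u = 0 → u = 0) : False := by
  classical
  have hω1 : ω - 1 ≠ 0 := fun e => by
    rw [sub_eq_zero.1 e, orderOf_one] at hω; omega
  have hZne : Pm * Qm - Qm * Pm ≠ 0 := fun e => by
    have := hZ ![1, 0] (by rw [e, Matrix.zero_mulVec])
    simpa using congrFun this 0
  set μ := (Matrix.ProjGenLinGroup.mk (n := Fin 2) (R := K)).comp ρ with hμ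
  set I := μ.range with hI
  have hp : ¬ p ∣ Nat.card I := fun h => hH (h.trans (Subgroup.card_range_dvd μ))
  have hord : ∀ (x : H) (Xm : Matrix (Fin 2) (Fin 2) K), (ρ x).1 = 1 + (ω - 1) • Xm → Xm * Xm = Xm →
      Xm.trace = 1 → 6 ≤ orderOf (μ x) := by
    intro x Xm hx hX hXt
    refine hω.trans (Nat.le_of_dvd (MonoidHom.isOfFinOrder μ (isOfFinOrder_of_finite x)).orderOf_pos
      (orderOf_dvd_of_pow_eq_one ?_))
    have h1 := pow_orderOf_eq_one (μ x)
    set m := orderOf (μ x)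
    rw [← map_pow, hμ, MonoidHom.comp_apply, ← map_one (Matrix.ProjGenLinGroup.mk (n := Fin 2) (R := K))] at h1
    obtain ⟨u, hu⟩ := Matrix.ProjGenLinGroup.mk_eq_mk_iff.1 h1.symm
    have h2 := congrArg Units.val hu
    rw [map_pow, Units.val_mul, Units.val_one, one_mul, Units.val_pow_eq_pow_val, hx, homology_pow hX] at h2
    have e00 := congrFun (congrFun h2 0) 0
    have e11 := congrFun (congrFun h2 1) 1
    have e01 := congrFun (congrFun h2 0) 1
    have e10 := congrFun (congrFun h2 1) 0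
    simp at e00 e11 e01 e10
    by_contra hne
    have hc : ω ^ m - 1 ≠ 0 := sub_ne_zero.2 hne
    have f01 : Xm 0 1 = 0 := e01.resolve_left hc
    have f00 : Xm 0 0 = Xm 1 1 := mul_left_cancel₀ hc (by linear_combination e11 - e00)
    have f0 : Xm 0 0 * Xm 0 0 = Xm 0 0 := by
      have := congrFun (congrFun hX 0) 0
      simpa [Matrix.mul_apply, Fin.sum_univ_two, f01] using this
    rw [Matrix.trace_fin_two, ← f00] at hXt
    have h4 : (1 : K) = 2 := by linear_combination (1 - 2 * Xm 0 0) * hXt + 4 * f0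
    exact one_ne_zero (show (1 : K) = 0 by linear_combination -h4)
  have hA := hord a Pm ha hP hPt
  have hB := hord b Qm hb hQ hQt
  have hcomm : μ a * μ b = μ b * μ a → False := by
    intro e
    rw [← map_mul, ← map_mul, hμ, MonoidHom.comp_apply, MonoidHom.comp_apply] at e
    obtain ⟨u, hu⟩ := Matrix.ProjGenLinGroup.mk_eq_mk_iff.1 e
    rw [map_mul, map_mul] at hu
    -- the conjugate of `ρ a` is `ρ a` times the scalar
    have h1 : (ρ b)⁻¹ * ρ a * ρ b * Matrix.GeneralLinearGroup.scalar (Fin 2) u = ρ a := by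
      rw [mul_assoc (ρ b)⁻¹, mul_assoc (ρ b)⁻¹, hu, inv_mul_cancel_left]
    have h2 := congrArg (fun g : GL (Fin 2) K => g.1.trace) h1
    simp only [Units.val_mul, Matrix.GeneralLinearGroup.coe_scalar] at h2
    have hs : ∀ X : Matrix (Fin 2) (Fin 2) K, (X * Matrix.scalar (Fin 2) (u : K)).trace = u * X.trace := by
      intro X
      simp [Matrix.trace_fin_two, mul_add, mul_comm]
    rw [hs, Matrix.trace_mul_comm ((↑(ρ b)⁻¹ : Matrix (Fin 2) (Fin 2) K) * (ρ a).1), ← mul_assoc,
      Units.mul_inv, one_mul] at h2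
    have htr : (ρ a).1.trace = 1 + ω := by
      rw [ha, Matrix.trace_add, Matrix.trace_smul, hPt, Matrix.trace_one, Fintype.card_fin, smul_eq_mul]
      push_cast; ring
    have hne : (1 : K) + ω ≠ 0 := fun e => by
      have : ω ^ 2 = 1 := by linear_combination (ω - 1) * e
      have := Nat.le_of_dvd two_pos (orderOf_dvd_of_pow_eq_one this)
      omega
    have hu1 : (u : K) = 1 := by
      rw [htr] at h2
      exact (mul_eq_right₀ hne).1 h2
    have h3 : ρ a * ρ b = ρ b * ρ a := by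
      rw [← hu, show u = 1 from Units.ext hu1, map_one, mul_one]
    have h4 := congrArg Units.val h3
    rw [Units.val_mul, Units.val_mul, ha, hb] at h4
    refine hZne ?_
    have h5 : ((ω - 1) * (ω - 1)) • (Pm * Qm - Qm * Pm) = 0 := by
      rw [smul_sub, sub_eq_zero]
      simp only [add_mul, mul_add, one_mul, mul_one, smul_mul_smul_comm] at h4
      have : ((ω - 1) * (ω - 1)) • (Pm * Qm) - ((ω - 1) * (ω - 1)) • (Qm * Pm) = 0 := by
        rw [← sub_eq_zero.2 h4]; abel
      exact sub_eq_zero.1 this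
    exact (smul_eq_zero.1 h5).resolve_left (mul_ne_zero hω1 hω1)
  have : Finite I := Finite.of_surjective μ.rangeRestrict μ.rangeRestrict_surjective
  rcases PSL2.classify_coprime I p hp with ⟨P₀, hfix⟩ | ⟨n, -, -, -, ⟨e⟩⟩ | ⟨⟨e⟩⟩ | ⟨⟨e⟩⟩ | ⟨⟨e⟩⟩
  · induction P₀ using Projectivization.ind with | _ v hv => ?_
    have key : ∀ (x : H) (Xm : Matrix (Fin 2) (Fin 2) K), (ρ x).1 = 1 + (ω - 1) • Xm →
        ∃ c : K, Matrix.mulVec Xm v = c • v := by
      intro x Xm hx
      have h1 := hfix (μ x) ⟨x, rfl⟩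
      rw [hμ, MonoidHom.comp_apply, Projectivization.PGL.mk_smul_mk, Projectivization.mk_eq_mk_iff'] at h1
      obtain ⟨c, hc⟩ := h1
      have h2 : Matrix.mulVec (1 + (ω - 1) • Xm) v = c • v := by rw [← hx]; exact hc.symm
      rw [Matrix.add_mulVec, Matrix.one_mulVec, Matrix.smul_mulVec] at h2
      refine ⟨(c - 1) / (ω - 1), ?_⟩
      rw [div_eq_inv_mul, mul_smul, sub_smul, one_smul, ← h2, add_sub_cancel_left, smul_smul,
        inv_mul_cancel₀ hω1, one_smul]
    obtain ⟨c, hc⟩ := key a Pm ha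
    obtain ⟨d, hd⟩ := key b Qm hb
    refine hv (hZ v ?_)
    rw [Matrix.sub_mulVec, ← Matrix.mulVec_mulVec, ← Matrix.mulVec_mulVec, hc, hd, Matrix.mulVec_smul,
      Matrix.mulVec_smul, hc, hd, smul_smul, smul_smul, mul_comm, sub_self]
  · refine hcomm ?_
    have h2 : ∀ x : H, 6 ≤ orderOf (μ x) → e ⟨μ x, x, rfl⟩ * e ⟨μ x, x, rfl⟩ ≠ 1 := by
      intro x hx h
      rw [← map_mul, map_eq_one_iff _ e.injective, Subtype.ext_iff] at h
      have := Nat.le_of_dvd two_pos (orderOf_dvd_of_pow_eq_one (by rw [pow_two]; exact h : μ x ^ 2 = 1))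
      omega
    have := dihedral_commute (h2 a hA) (h2 b hB)
    rw [← map_mul, ← map_mul] at this
    exact congrArg Subtype.val (e.injective this)
  · have hx := (orderOf_injective e.toMonoidHom e.injective ⟨μ a, a, rfl⟩).trans (Subgroup.orderOf_mk ..)
    rcases orders_four (e ⟨μ a, a, rfl⟩) with h | h <;>
    · have := Nat.le_of_dvd (by norm_num) (orderOf_dvd_of_pow_eq_one h)
      simp only [MulEquiv.coe_toMonoidHom] at hx
      omega
  · have hx := (orderOf_injective e.toMonoidHom e.injective ⟨μ a, a, rfl⟩).trans (Subgroup.orderOf_mk ..)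
    rcases orders_sym_four (e ⟨μ a, a, rfl⟩) with h | h | h <;>
    · have := Nat.le_of_dvd (by norm_num) (orderOf_dvd_of_pow_eq_one h)
      simp only [MulEquiv.coe_toMonoidHom] at hx
      omega
  · have hx := (orderOf_injective e.toMonoidHom e.injective ⟨μ a, a, rfl⟩).trans (Subgroup.orderOf_mk ..)
    rcases orders_five (e ⟨μ a, a, rfl⟩) with h | h | h <;>
    · have := Nat.le_of_dvd (by norm_num) (orderOf_dvd_of_pow_eq_one h)
      simp only [MulEquiv.coe_toMonoidHom] at hx
      omega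

/-- The commutator of the idempotents is nilpotent. -/
theorem bracket_nilpotent {V : Type*} [AddCommGroup V] [Module K V] [FiniteDimensional K V]
    {G : Type*} [Group G] [Finite G] (hG : ¬ p ∣ Nat.card G) (σ : G →* Module.End K V) {a b : G}
    {ω : K} (hω : 6 ≤ orderOf ω) {P Q : Module.End K V} (hP : P * P = P) (hQ : Q * Q = Q)
    (ha : σ a = 1 + (ω - 1) • P) (hb : σ b = 1 + (ω - 1) • Q) :
    IsNilpotent (P * Q - Q * P) := by
  classical
  obtain ⟨hZP, hZQ, hSP, hSQ, hRP, hRQ⟩ := bracket_rels hP hQ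
  set Z := P * Q - Q * P with hZdef
  set S := Z * Z with hS
  set R := (P - Q) * (P - Q) with hR
  set d := finrank K V
  set X := LinearMap.range (S ^ d) with hX
  by_contra hnil
  have hXne : X ≠ ⊥ := fun e => hnil ⟨2 * d, by
    rw [pow_mul, pow_two]; exact LinearMap.range_eq_bot.1 e⟩
  have hXf : ∀ f : Module.End K V, Commute S f → ∀ x ∈ X, f x ∈ X := by
    rintro f hf _ ⟨y, rfl⟩
    exact ⟨f y, by rw [← Module.End.mul_apply, (hf.pow_left d).eq, Module.End.mul_apply]⟩
  have hZinj : ∀ x ∈ X, Z x = 0 → x = 0 := by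
    rintro _ ⟨y, rfl⟩ hz
    have h1 : S ((S ^ d) y) = 0 := by rw [hS, Module.End.mul_apply, hz, map_zero]
    have h2 : y ∈ LinearMap.ker (S ^ (d + 1)) := by
      rw [LinearMap.mem_ker, pow_succ', Module.End.mul_apply, h1]
    rw [Module.End.ker_pow_eq_ker_pow_finrank_of_le (Nat.le_succ d)] at h2
    exact h2
  have hSR : Commute S R := ((hSP.sub_right hSQ).mul_right (hSP.sub_right hSQ))
  -- an eigenvector of `R` in `X` which is one of `P`
  obtain ⟨r, v, ε, hvX, hv, hRv, hPv, hε⟩ : ∃ (r : K) (v : V) (ε : K), v ∈ X ∧ v ≠ 0 ∧ R v = r • v ∧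
      P v = ε • v ∧ (ε = 0 ∨ ε = 1) := by
    have : Nontrivial X := Submodule.nontrivial_iff_ne_bot.2 hXne
    obtain ⟨r, hr⟩ := Module.End.exists_eigenvalue (R.restrict (hXf R hSR))
    obtain ⟨⟨x, hxX⟩, hx⟩ := hr.exists_hasEigenvector
    have hRx : R x = r • x := congrArg Subtype.val hx.apply_eq_smul
    have hx0 : x ≠ 0 := fun e => hx.2 (Subtype.ext e)
    by_cases hPx : P x = 0
    · exact ⟨r, x, 0, hxX, hx0, hRx, by rw [hPx, zero_smul], Or.inl rfl⟩
    · refine ⟨r, P x, 1, hXf P hSP x hxX, hPx, ?_, ?_, Or.inr rfl⟩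
      · rw [← Module.End.mul_apply, hRP.eq, Module.End.mul_apply, hRx, map_smul]
      · rw [one_smul, ← Module.End.mul_apply, hP]
  have hQv : Q (Q v) = Q v := by rw [← Module.End.mul_apply, hQ]
  have hQvX : Q v ∈ X := hXf Q hSQ v hvX
  have hind : LinearIndependent K ![v, Q v] := by
    rw [LinearIndependent.pair_iff' hv]
    intro c hc
    refine hv (hZinj v hvX ?_)
    rw [hZdef, LinearMap.sub_apply, Module.End.mul_apply, Module.End.mul_apply, ← hc, map_smul, hPv,
      map_smul, ← hc, smul_comm, sub_self]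
  obtain ⟨x₁, x₂, hPQv, htr⟩ : ∃ x₁ x₂ : K, P (Q v) = x₁ • v + x₂ • Q v ∧ ε + x₂ = 1 := by
    have hPR : R v = P v - P (Q v) - Q (P v) + Q v := by
      simp only [hR, sub_mul, mul_sub, hP, hQ, LinearMap.sub_apply, Module.End.mul_apply]
      abel
    rw [hRv, hPv, map_smul] at hPR
    rcases hε with rfl | rfl
    · refine ⟨-r, 1, ?_, zero_add 1⟩
      simp only [zero_smul, sub_zero, zero_sub] at hPR
      rw [neg_smul, one_smul, hPR]
      abel
    · refine ⟨1 - r, 0, ?_, add_zero 1⟩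
      simp only [one_smul] at hPR
      rw [zero_smul, add_zero, sub_smul, one_smul, hPR]
      abel
  let f : (Fin 2 → K) →ₗ[K] V := Fintype.linearCombination K ![v, Q v]
  have hf : Function.Injective f := hind.fintypeLinearCombination_injective
  have hfv : ∀ u, f u = u 0 • v + u 1 • Q v := fun u => by
    simp [f, Fintype.linearCombination_apply, Fin.sum_univ_two]
  let Pm : Matrix (Fin 2) (Fin 2) K := !![ε, x₁; 0, x₂]
  let Qm : Matrix (Fin 2) (Fin 2) K := !![0, 0; 1, 1]
  have hfP : ∀ u, P (f u) = f (Matrix.mulVec Pm u) := fun u => by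
    simp [hfv, Pm, dotProduct, Fin.sum_univ_two, hPv, hPQv]
    module
  have hfQ : ∀ u, Q (f u) = f (Matrix.mulVec Qm u) := fun u => by
    simp [hfv, Qm, dotProduct, Fin.sum_univ_two, hQv]
    module
  have hmat : ∀ A B : Matrix (Fin 2) (Fin 2) K,
      (∀ u, f (Matrix.mulVec A u) = f (Matrix.mulVec B u)) → A = B := fun A B e =>
    Matrix.toLin'.injective (LinearMap.ext fun u => hf (e u))
  have hPm : Pm * Pm = Pm := hmat _ _ fun u => by
    rw [← Matrix.mulVec_mulVec, ← hfP, ← hfP, ← Module.End.mul_apply, hP]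
  have hQm : Qm * Qm = Qm := hmat _ _ fun u => by
    rw [← Matrix.mulVec_mulVec, ← hfQ, ← hfQ, ← Module.End.mul_apply, hQ]
  have hfa : ∀ (Xo : Module.End K V) (Xm : Matrix (Fin 2) (Fin 2) K),
      (∀ u, Xo (f u) = f (Matrix.mulVec Xm u)) →
      ∀ u, (1 + (ω - 1) • Xo) (f u) = f (Matrix.mulVec (1 + (ω - 1) • Xm) u) := fun Xo Xm e u => by
    rw [Matrix.add_mulVec, Matrix.one_mulVec, Matrix.smul_mulVec, map_add, map_smul, ← e]
    rfl
  -- the group acting on the plane
  let W : Subgroup G :=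
    { carrier := {g | ∃ A : GL (Fin 2) K, ∀ u, σ g (f u) = f (Matrix.mulVec A.1 u)}
      one_mem' := ⟨1, fun u => by simp⟩
      mul_mem' := fun {g g'} ⟨A, hA⟩ ⟨A', hA'⟩ => ⟨A * A', fun u => by
        rw [map_mul, Module.End.mul_apply, hA', hA, Matrix.mulVec_mulVec, Units.val_mul]⟩
      inv_mem' := fun {g} ⟨A, hA⟩ => ⟨A⁻¹, fun u => by
        have h1 := hA (Matrix.mulVec (↑A⁻¹ : Matrix (Fin 2) (Fin 2) K) u)
        rw [Matrix.mulVec_mulVec, Units.mul_inv, Matrix.one_mulVec] at h1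
        rw [← h1, ← Module.End.mul_apply, ← map_mul, inv_mul_cancel, map_one, Module.End.one_apply]⟩ }
  choose A hA using fun g : W => g.2
  let ρ : W →* GL (Fin 2) K := MonoidHom.mk' A fun g g' => Units.ext <| hmat _ _ fun u => by
    rw [← hA, Units.val_mul, ← Matrix.mulVec_mulVec, ← hA g, ← hA g', ← Module.End.mul_apply, ← map_mul]
    rfl
  have hinv : ∀ Xm : Matrix (Fin 2) (Fin 2) K, Xm * Xm = Xm →
      (1 + (ω - 1) • Xm) * (1 + (ω⁻¹ - 1) • Xm) = 1 ∧
        (1 + (ω⁻¹ - 1) • Xm) * (1 + (ω - 1) • Xm) = 1 := by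
    intro Xm hX
    have hω0 : ω ≠ 0 := fun e => by rw [e, orderOf_zero] at hω; omega
    constructor <;>
    · rw [add_mul, one_mul, mul_add, mul_one, smul_mul_smul_comm, hX, add_assoc, ← add_smul, ← add_smul]
      convert add_zero (1 : Matrix (Fin 2) (Fin 2) K) using 2
      rw [← zero_smul K Xm]
      congr 1
      field_simp
      ring
  have haW : a ∈ W := ⟨⟨_, _, (hinv Pm hPm).1, (hinv Pm hPm).2⟩, fun u => by rw [ha]; exact hfa P Pm hfP u⟩
  have hbW : b ∈ W := ⟨⟨_, _, (hinv Qm hQm).1, (hinv Qm hQm).2⟩, fun u => by rw [hb]; exact hfa Q Qm hfQ u⟩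
  refine two_dim p (fun h => hG (h.trans (Subgroup.card_subgroup_dvd_card W))) ρ
    (a := ⟨a, haW⟩) (b := ⟨b, hbW⟩) hω hPm hQm ?_ ?_ ?_ ?_ fun u hu => ?_
  · simp [Pm, Matrix.trace_fin_two, htr]
  · simp [Qm, Matrix.trace_fin_two]
  · exact hmat _ _ fun u => by
      show f (Matrix.mulVec (A ⟨a, haW⟩).1 u) = _
      rw [← hA, ← hfa P Pm hfP u, ← ha]
  · exact hmat _ _ fun u => by
      show f (Matrix.mulVec (A ⟨b, hbW⟩).1 u) = _
      rw [← hA, ← hfa Q Qm hfQ u, ← hb]
  · refine hf ?_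
    rw [map_zero]
    refine hZinj _ ?_ ?_
    · rw [hfv]; exact X.add_mem (X.smul_mem _ hvX) (X.smul_mem _ hQvX)
    · rw [hZdef, LinearMap.sub_apply, Module.End.mul_apply, Module.End.mul_apply, hfQ, hfP, hfP, hfQ,
        ← map_sub, Matrix.mulVec_mulVec, Matrix.mulVec_mulVec, ← Matrix.sub_mulVec, hu, map_zero]

end Cfsg.Agent.MaxClassEss
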