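import Cfsg.Agent.Lib.MaxClassEss.Basic
import Cfsg.Agent.Lib.PearlRank.Diff

/-!
# The power map on the first two-step centralizer of a large group of maximal class

For `p + 2 ≤ n`:
* `pow_not_mem` : outside the derived group `x ^ p ∉ L p`;
* `window` : the elements of order `p` of the first two-step centralizer lie in `L (n - p)`;
* `mem_L_iff_pow` : its layers are recognised by their `p`-th powers.
-/

set_option autoImplicit false
set_option linter.unusedSectionVars false

open Subgroup
open scoped commutatorElement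

universe u

namespace Cfsg.Agent.MaxClassEss

open MaxClassPower PearlRank
open PearlRank.Pc (D D_mem)
open PolySeq

variable {X : Type u} [Group X] [Finite X] {p n : ℕ} [hp : Fact p.Prime] (c : Mc X p n)

include c

theorem twoStep_of_large (hn : p + 2 ≤ n) (h4 : 4 ≤ n) : twoStep X (n - 3) = twoStep X 1 := by
  by_contra h
  have := (exceptional_facts c h4 h).2.2.1
  omega

theorem pow_not_mem (hn : p + 2 ≤ n) {x : X} (hx : x ∈ twoStep X 1) (hx1 : x ∉ L X 1) : x ^ p ∉ L X p := by
  intro hxp
  have h4 : 4 ≤ n := by have := hp.out.two_le; omega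
  have hp2 := hp.out.two_le
  obtain ⟨s, hs⟩ := c.exists_good
  set u := D s x with hu
  have hu1 : u ∈ L X 1 := D_mem (mem_L_zero x)
  have hu2 : u ∉ L X 2 := D_not_mem_L_two c (i := 1) le_rfl (by omega) (c.not_mem_twoStep hs le_rfl (by omega)) hx hx1
  -- conjugation by `x` moves down two layers
  have hdeep : ∀ j, 1 ≤ j → ∀ a ∈ L X j, D x a ∈ L X (j + 2) := by
    intro j hj a ha
    have h1 : ⁅x, a⁆ ∈ L X (j + 2) := by
      rcases Nat.lt_or_ge (n - 3) j with h | h
      · rw [commutatorElement_eq_one_iff_mul_comm.2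
          (Commute.eq (c.commute_of_mem (L_anti (show n - 2 ≤ j by omega) ha) x))]
        exact one_mem _
      · refine mem_twoStep.mp ?_ a ha
        rcases twoStep_cases c hj h with e | e
        · rwa [e]
        · rwa [e, twoStep_of_large c hn h4]
    have e : D x a = a⁻¹ * ⁅x, a⁆ * a⁻¹⁻¹ := by simp [D, commutatorElement_def]; group
    rw [e]
    exact (inferInstance : (L X (j + 2)).Normal).conj_mem _ h1 _
  have hiter : ∀ k, (D x)^[k] u ∈ L X (1 + 2 * k) := by
    intro k
    induction k with
    | zero => exact hu1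
    | succ k ih =>
      rw [Function.iterate_succ_apply']
      exact hdeep (1 + 2 * k) (by omega) _ ih
  have hF := isFiltration_lowerCentralSeries (G := X)
  haveI : ∀ j, (lcsFil X j).Normal := fun j => by unfold lcsFil; infer_instance
  have hlev : ∀ j, lcsFil X (j + 1) = L X j := fun j => by simp [lcsFil]
  let v : X → ℕ → X := fun a m => x ^ (m + 1) * a * (x ^ (m + 1))⁻¹
  have hdiff : ∀ a, diff (v a) = v (D x a) := fun a => by
    funext m
    simp only [diff, v, D, pow_succ]
    group
  have hpoly : ∀ k j, ∀ a ∈ L X j, IsPoly (lcsFil X) k (j + 1) (v a) := by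
    intro k
    induction k with
    | zero => intro j a ha m; rw [hlev]; exact (inferInstance : (L X j).Normal).conj_mem a ha _
    | succ k ih =>
      intro j a ha
      refine ⟨fun m => by rw [hlev]; exact (inferInstance : (L X j).Normal).conj_mem a ha _, ?_⟩
      rw [hdiff]
      exact ih (j + 1) _ (D_mem ha)
  have hdlt : ∀ k a, dlt k (v a) = v ((D x)^[k] a) 0 := by
    intro k
    induction k with
    | zero => intro a; rfl
    | succ k ih =>
      intro a
      show dlt k (diff (v a)) = _
      rw [hdiff, ih, Function.iterate_succ_apply]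
  let f : ℕ → X := fun m => (x * u) ^ m * (x ^ m)⁻¹
  have hfd : diff f = v u := by
    funext m
    simp only [diff, f, v, pow_succ, mul_inv_rev, inv_inv]
    group
  have hf : IsPoly (lcsFil X) p 1 f := by
    rw [show p = p - 1 + 1 by omega]
    refine ⟨fun m => by rw [hlev 0]; exact mem_L_zero _, ?_⟩
    rw [hfd]
    exact hpoly _ 1 u hu1
  have key := pow_congr hF hp.out (i := 1) le_rfl hf (by simp [f]) (fun j hj a ha => by
    obtain ⟨j, rfl⟩ : ∃ j', j = j' + 1 := ⟨j - 1, by omega⟩
    rw [hlev] at ha ⊢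
    exact L_anti (show 1 + p ≤ j + p - 1 by omega) (hs.pow_mem (by omega) a ha))
  have hxu : x * u = s * x * s⁻¹ := by simp [hu, D]
  haveI : (L X (1 + p)).Normal := inferInstance
  have hfp : f p ∈ L X (1 + p) := by
    show (x * u) ^ p * (x ^ p)⁻¹ ∈ L X (1 + p)
    rw [hxu, conj_pow]
    have := commutator_mem_commutator (H₁ := (⊤ : Subgroup X)) (H₂ := L X p) (mem_top s) hxp
    rw [Subgroup.commutator_comm] at this
    rw [show 1 + p = p + 1 by omega]
    exact this
  have hdf : dlt p f ∈ L X (1 + p) := by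
    rw [show p = p - 1 + 1 by omega]
    show dlt (p - 1) (diff f) ∈ _
    rw [hfd, hdlt]
    exact (inferInstance : (L X (1 + (p - 1 + 1))).Normal).conj_mem _ (L_anti (by omega) (hiter (p - 1))) _
  have hf1 : f 1 = x * u * x⁻¹ := by simp [f]
  have hone : ∀ a ∈ L X (1 + p), QuotientGroup.mk' (lcsFil X (1 + p + 1)) a = 1 := fun a ha =>
    (QuotientGroup.eq_one_iff a).2 (by rw [hlev]; exact ha)
  rw [hone _ hfp, hone _ hdf, one_mul, inv_eq_one, hf1, ← map_pow, conj_pow] at key
  have h1 : x * u ^ p * x⁻¹ ∈ L X (1 + p) := by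
    rw [← hlev]; exact (QuotientGroup.eq_one_iff _).1 key
  have h2 := (inferInstance : (L X (1 + p)).Normal).conj_mem _ h1 x⁻¹
  rw [show x⁻¹ * (x * u ^ p * x⁻¹) * x⁻¹⁻¹ = u ^ p by group] at h2
  exact (hs.pow_sharp le_rfl (by omega) hu1 hu2).2 h2

/-- Layers of the first two-step centralizer by `p`-th powers. -/
theorem mem_L_iff_pow (hn : p + 2 ≤ n) {k : ℕ} (hk : 1 ≤ k) (hkn : k + p - 1 ≤ n - 1) {x : X}
    (hx : x ∈ twoStep X 1) : x ∈ L X k ↔ x ^ p ∈ L X (k + p - 1) := by
  obtain ⟨s, hs⟩ := c.exists_good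
  refine ⟨fun h => hs.pow_mem hk x h, fun h => ?_⟩
  by_contra hxk
  by_cases hx1 : x ∈ L X 1
  · have hne : x ≠ 1 := fun e => hxk (e ▸ one_mem _)
    obtain ⟨i, hi, -, hix⟩ := exists_level c hx1 hne
    have hik : i < k := Nat.lt_of_not_le fun hle => hxk (L_anti hle hix.1)
    exact (hs.pow_sharp hi (by omega) hix.1 hix.2).2 (L_anti (by omega) h)
  · exact pow_not_mem c hn hx hx1 (L_anti (by have := hp.out.two_le; omega) h)

/-- Elements of order `p` lie deep. -/
theorem window (hn : p + 2 ≤ n) {x : X} (hx : x ∈ twoStep X 1) (hxp : x ^ p = 1) : x ∈ L X (n - p) := by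
  refine (mem_L_iff_pow c hn (by omega) (by omega) hx).2 ?_
  rw [hxp]
  exact one_mem _

end Cfsg.Agent.MaxClassEss
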