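import Cfsg.Agent.Lib.MaxClassEss.Alperin
import Cfsg.Agent.Lib.MaxClassEss.Window
import Cfsg.Agent.Lib.UniserialSE.MaxClassEss

/-!
# Essential subgroups below the first two-step centralizer, case I: the basic structure

`One` : `L m ≤ E` is the least layer whose stabiliser is not inside `M`, and all two-step centralizers of
`S / L m` coincide.
-/

set_option autoImplicit false
set_option linter.unusedSectionVars false
set_option linter.style.haveILetI false

open Subgroup
open scoped commutatorElement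

universe u

namespace Cfsg.Agent.MaxClassEss

open Cfsg Cfsg.FusionSystem Cfsg.Agent.Fusion MaxClassPower PearlRank
open PearlRank.Pc (D D_mem)

variable {p n : ℕ} [hp : Fact p.Prime] {Ω : Type u} [Group Ω] {S : Subgroup Ω} [Finite S]
  {F : FusionSystem S} {E : Subgroup Ω} {M : Subgroup (MulAut E)}

theorem Hyp.card_le (hy : Hyp p n F E) : Nat.card (E.subgroupOf S) < p ^ (n - 1) := by
  have h := lt_of_le_of_ne hy.le hy.ne
  rw [← hy.c.card_twoStep le_rfl (by have := hy.h4; omega)]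
  exact lt_of_le_of_ne (Subgroup.card_le_of_le hy.le) fun e => hy.ne (PGroup.eq_of_le_of_card_le hy.le e.ge)

/-- For `p ≥ 5` an essential subgroup properly inside the first two-step centralizer is not normal. -/
theorem Hyp.not_normal (hy : Hyp p n F E) (hp5 : 5 ≤ p) : ¬ (E.subgroupOf S).Normal := by
  intro hn
  have hS := hy.hS
  obtain ⟨r, hr⟩ := hS.index (E.subgroupOf S)
  have h := (E.subgroupOf S).card_mul_index
  rw [hr, hy.c.card] at h
  have hr2 : 2 ≤ r := by
    by_contra hlt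
    have h1 : p ^ n ≤ Nat.card (E.subgroupOf S) * p :=
      h ▸ Nat.mul_le_mul_left _ ((Nat.pow_le_pow_right hp.out.pos (show r ≤ 1 by omega)).trans (pow_one p).le)
    have h2 := Nat.mul_lt_mul_of_pos_right hy.card_le hp.out.pos
    rw [← pow_succ, show n - 1 + 1 = n by have := hy.h4; omega] at h2
    omega
  exact UniserialSE.false_of_lower hp5 hS hy.hF hy.c hy.h4 hy.hE hn (k := r - 1) (by omega)
    (PGroup.normal_eq_lcs hy.c.three_le hy.c.card hy.c.cls (by omega) hr)

/-- The context of case I. -/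
structure One (p n m : ℕ) [Fact p.Prime] (F : FusionSystem S) (E : Subgroup Ω) (M : Subgroup (MulAut E)) : Prop where
  hy : Hyp p n F E
  se : Sep p F E M
  two_le : 2 ≤ m
  le : m ≤ n - 1
  layer : L S m ≤ E.subgroupOf S
  out : ¬ layerStab F hy.hES m ≤ M
  low : layerStab F hy.hES (m - 1) ≤ M
  flat : ∀ i, 1 ≤ i → i + 2 ≤ m → twoStep S i = twoStep S 1

/-- A moved element: `u` is the image of a generator `zz` of `L (m-1)` modulo `L m`. -/
structure Moved (p n m : ℕ) [Fact p.Prime] (F : FusionSystem S) (E : Subgroup Ω) (M : Subgroup (MulAut E))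
    (zz : E) (g : MulAut E) : Prop where
  ctx : One p n m F E M
  ex : Ex S (m - 1) (incl ctx.hy.hES zz)
  mem : g ∈ layerStab F ctx.hy.hES m
  not_mem : g ∉ M

namespace One

variable {m : ℕ} (o : One p n m F E M)

include o

theorem pos_le : 4 ≤ n := o.hy.h4

theorem cY : Mc (S ⧸ L S m) p (m + 1) := o.hy.c.quot o.two_le o.le

theorem mem_L_iff {i : ℕ} (hi : i ≤ m) {x : S} :
    QuotientGroup.mk' (L S m) x ∈ L (S ⧸ L S m) i ↔ x ∈ L S i := by
  rw [← map_L, ← mem_comap, comap_map_eq, QuotientGroup.ker_mk', sup_of_le_left (L_anti hi)]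

theorem mem_twoStep_iff {i : ℕ} (hi : i + 2 ≤ m) {x : S} :
    QuotientGroup.mk' (L S m) x ∈ twoStep (S ⧸ L S m) i ↔ x ∈ twoStep S i := by
  rw [mem_twoStep, mem_twoStep]
  constructor
  · intro h v hv
    have h1 := h (QuotientGroup.mk' (L S m) v) ((o.mem_L_iff (by omega)).2 hv)
    rw [← map_commutatorElement] at h1
    exact (o.mem_L_iff hi).1 h1
  · intro h v hv
    obtain ⟨v, rfl⟩ := QuotientGroup.mk'_surjective _ v
    rw [← map_commutatorElement]
    exact (o.mem_L_iff hi).2 (h v ((o.mem_L_iff (by omega)).1 hv))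

theorem twoStep_quot {i : ℕ} (hi : 1 ≤ i) (hin : i + 2 ≤ m) :
    twoStep (S ⧸ L S m) i = twoStep (S ⧸ L S m) 1 := by
  ext y
  obtain ⟨x, rfl⟩ := QuotientGroup.mk'_surjective _ y
  rw [o.mem_twoStep_iff hin, o.mem_twoStep_iff (by omega), o.flat i hi hin]

/-- Commutators with the first two-step centralizer move down two layers, modulo `L m`. -/
theorem comm_two {i k : ℕ} (hi : 1 ≤ i) (hk : k ≤ i + 2) (hkm : k ≤ m) {γ x : S} (hγ : γ ∈ twoStep S 1)
    (hx : x ∈ L S i) : ⁅γ, x⁆ ∈ L S k := by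
  rcases Nat.lt_or_ge m (i + 2) with h | h
  · refine L_anti (show k ≤ i + 1 by omega) ?_
    rw [← commutatorElement_inv]
    exact inv_mem (commutator_mem_commutator hx (mem_top γ))
  · exact L_anti hk (mem_twoStep.1 (o.flat i hi h ▸ hγ) x hx)

theorem L_pred_le : L S (m - 1) ≤ E.subgroupOf S := fun t ht =>
  mem_of_centralizes o.se o.hy.hS o.hy.c o.hy.hE o.le o.layer o.out fun e _ =>
    L_anti (show m ≤ m - 1 + 1 by omega) (commutator_mem_commutator ht (mem_top e))

theorem exists_moved : ∃ (zz : E) (g : MulAut E), Moved p n m F E M zz g := by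
  obtain ⟨z, hz⟩ := exists_ex o.hy.c (i := m - 1) (by have := o.two_le; omega) (by have := o.le; omega)
  obtain ⟨g, hg, hgM⟩ := SetLike.not_le_iff_exists.1 o.out
  exact ⟨⟨z, o.L_pred_le hz.1⟩, g, o, hz, hg, hgM⟩

end One

namespace Moved

variable {m : ℕ} {zz : E} {g : MulAut E} (w : Moved p n m F E M zz g)

include w

/-- Automorphisms fixing `zz` modulo `L m` stabilise one more layer. -/
theorem stab_pred {α : MulAut E} (hα : α ∈ layerStab F w.ctx.hy.hES m)
    (hz : incl w.ctx.hy.hES (zz⁻¹ * α zz) ∈ L S m) : α ∈ layerStab F w.ctx.hy.hES (m - 1) := by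
  have o := w.ctx
  refine ⟨hα.1, fun i hi x hx => ?_⟩
  rcases eq_or_lt_of_le hi with rfl | h
  swap
  · exact hα.2 i (by omega) x hx
  have hES := o.hy.hES
  set ι := incl hES
  let f := (QuotientGroup.mk' (L S m)).comp ι
  let H := MonoidHom.eqLocus (f.comp α.toMonoidHom) f
  have hmem : ∀ y : E, y ∈ H ↔ ι (y⁻¹ * α y) ∈ L S m := fun y => by
    refine Iff.trans ?_ (QuotientGroup.eq_one_iff _)
    show f (α y) = f y ↔ QuotientGroup.mk' (L S m) (ι (y⁻¹ * α y)) = 1
    rw [map_mul ι, map_mul (QuotientGroup.mk' (L S m)), map_inv ι, map_inv, inv_mul_eq_one]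
    exact eq_comm
  have hle : L S (m - 1) ≤ H.map ι := by
    rw [← gen_L' o.hy.c (by have := o.two_le; omega) w.ex]
    refine sup_le (fun y hy => ?_) (zpowers_le.2 ⟨zz, (hmem zz).2 hz, rfl⟩)
    rw [show m - 1 + 1 = m by have := o.two_le; omega] at hy
    refine ⟨⟨y, o.layer hy⟩, (hmem _).2 ?_, rfl⟩
    rw [map_mul, map_inv]
    exact mul_mem (inv_mem hy) (layerStab_apply_mem hα le_rfl hy)
  obtain ⟨y, hy, e⟩ := hle hx
  rw [← Subgroup.inclusion_injective hES e, show m - 1 + 1 = m by have := o.two_le; omega]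
  exact (hmem y).1 hy

theorem comm_zz {e : S} : ⁅e, incl w.ctx.hy.hES zz⁆ ∈ L S m := by
  rw [← commutatorElement_inv]
  exact inv_mem (L_anti (show m ≤ m - 1 + 1 by omega) (commutator_mem_commutator w.ex.1 (mem_top e)))

theorem comm_u {e : S} (he : e ∈ E.subgroupOf S) : ⁅e, incl w.ctx.hy.hES (g zz)⁆ ∈ L S m := by
  obtain ⟨e', he'⟩ : ∃ e' : E, incl w.ctx.hy.hES e' = e := ⟨⟨e, he⟩, rfl⟩
  obtain ⟨e'', rfl⟩ := g.surjective e'
  rw [← he', ← map_commutatorElement, ← map_commutatorElement g]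
  exact layerStab_apply_mem w.mem le_rfl (by rw [map_commutatorElement]; exact w.comm_zz)

/-- Only elements of `E` centralise `u` modulo `L m`. -/
theorem cent {t : S} (ht : ⁅t, incl w.ctx.hy.hES (g zz)⁆ ∈ L S m) : t ∈ E.subgroupOf S := by
  have o := w.ctx
  have hES := o.hy.hES
  haveI := finite_of_le (S := S) hES
  set ι := incl hES
  set π := QuotientGroup.mk' (L S m)
  set C := (centralizer ({π (ι (g zz))} : Set (S ⧸ L S m))).comap π
  have hC : ∀ y : S, y ∈ C ↔ ⁅y, ι (g zz)⁆ ∈ L S m := fun y => by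
    rw [mem_comap, mem_centralizer_singleton_iff, ← commutatorElement_eq_one_iff_mul_comm, ← map_commutatorElement]
    exact QuotientGroup.eq_one_iff _
  by_contra htE
  have hlt : E < C.map S.subtype := by
    refine lt_of_le_of_ne (fun x hx => ⟨⟨x, hES hx⟩, (hC _).2 (w.comm_u hx), rfl⟩) fun e => htE ?_
    show (t : Ω) ∈ E
    rw [e]
    exact ⟨t, (hC t).2 ht, rfl⟩
  obtain ⟨y, hy, hyE⟩ := SetLike.exists_of_lt (lt_normalizerIn o.hy.hS (map_subtype_le _) hlt)
  obtain ⟨y', hy', hye⟩ := hy.1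
  have hyN : y ∈ normalizerIn S E := ⟨map_subtype_le C hy.1, hy.2⟩
  set c := normConj S E ⟨y, hyN⟩ with hc
  have hcT : c ∈ autInducedBy S E ∧ c ∈ F.autGroup E := Resist.normConj_mem F hES _
  have hcI : c ∉ Cfsg.Inn E := fun h => hyE (Resist.mem_of_inn o.hy.hE h)
  have hfix : ι ((g zz)⁻¹ * c (g zz)) ∈ L S m := by
    rw [map_mul, map_inv, normConj_apply_incl]
    have e : (⟨y, hyN.1⟩ : S) = y' := Subtype.ext hye.symm
    rw [show (⟨((⟨y, hyN⟩ : normalizerIn S E) : Ω), hyN.1⟩ : S) = y' from e]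
    have h1 : ⁅y', ι (g zz)⁆ ∈ L S m := (hC y').1 hy'
    have e2 : (ι (g zz))⁻¹ * (y' * ι (g zz) * y'⁻¹) = (ι (g zz))⁻¹ * ⁅y', ι (g zz)⁆ * (ι (g zz))⁻¹⁻¹ := by
      rw [commutatorElement_def]; group
    rw [e2]
    exact (inferInstance : (L S m).Normal).conj_mem _ h1 _
  have hcK : g⁻¹ * c * g ∈ layerStab F hES m :=
    mul_mem (mul_mem (inv_mem w.mem) (autS_le_layerStab hES m hcT.1)) w.mem
  have hxM : g⁻¹ * c * g ∈ M := o.low (w.stab_pred hcK (by
    have e : zz⁻¹ * (g⁻¹ * c * g) zz = g⁻¹ ((g zz)⁻¹ * c (g zz)) := by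
      rw [MulAut.mul_apply, MulAut.mul_apply, map_mul, map_inv, MulAut.inv_apply_self]
    rw [e]
    exact layerStab_apply_mem (inv_mem w.mem) le_rfl hfix))
  have hxI : g⁻¹ * c * g ∉ Cfsg.Inn E := fun h => hcI (by
    have := (Cfsg.innNormal E).conj_mem _ h g
    rwa [← mul_assoc, ← mul_assoc, mul_inv_cancel, one_mul, mul_inv_cancel_right] at this)
  obtain ⟨k, hk⟩ := o.hy.hS ⟨y, hyN.1⟩
  have hck : c ^ p ^ k = 1 := by
    rw [hc, ← map_pow]
    convert map_one (normConj S E) using 2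
    exact Subtype.ext (congrArg Subtype.val hk :)
  refine w.not_mem (o.se.conj_mem _ hxM hxI ⟨k, ?_⟩ g w.mem.1 ?_)
  · rw [show g⁻¹ * c * g = g⁻¹ * c * g⁻¹⁻¹ by rw [inv_inv], conj_pow, hck, mul_one, mul_inv_cancel]
  · rw [show g * (g⁻¹ * c * g) * g⁻¹ = c by group]
    exact o.se.autS hcT.1

theorem not_central : ¬ ∀ γ ∈ twoStep S 1, ⁅γ, incl w.ctx.hy.hES (g zz)⁆ ∈ L S m := fun h =>
  w.ctx.hy.ne (le_antisymm w.ctx.hy.le fun γ hγ => w.cent (h γ hγ))

theorem u_gamma : incl w.ctx.hy.hES (g zz) ∈ twoStep S 1 := w.ctx.hy.le (g zz).2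

theorem u_pow : (incl w.ctx.hy.hES (g zz)) ^ p ∈ L S m := by
  obtain ⟨s, hs⟩ := w.ctx.hy.c.exists_good
  rw [← map_pow, ← map_pow]
  refine layerStab_apply_mem w.mem le_rfl ?_
  rw [map_pow]
  exact L_anti (by have := hp.out.two_le; omega) (hs.pow_mem (by have := w.ctx.two_le; omega) _ w.ex.1)

theorem four_le : 4 ≤ m := by
  by_contra hlt
  have o := w.ctx
  have hn := o.hy.h4
  refine w.not_central fun γ hγ => ?_
  set π := QuotientGroup.mk' (L S m)
  obtain ⟨x0, h0, h01⟩ := o.hy.c.exists_mem_twoStep (i := 1) le_rfl (by omega)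
  have hL : ∀ a ∈ L S 1, ∀ b ∈ twoStep S 1, Commute (π b) (π a) := fun a ha b hb => by
    rw [← commutatorElement_eq_one_iff_commute, ← map_commutatorElement]
    exact (QuotientGroup.eq_one_iff _).2 (o.comm_two le_rfl (show m ≤ 1 + 2 by omega) le_rfl hb ha)
  have hle : twoStep S 1 ≤ (centralizer ({π x0} : Set (S ⧸ L S m))).comap π := by
    conv_lhs => rw [← o.hy.c.gen_twoStep le_rfl (by omega) h0 h01]
    refine sup_le (fun a ha => ?_) (zpowers_le.2 ?_) <;> rw [mem_comap, mem_centralizer_singleton_iff]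
    exact (hL a ha x0 h0).eq.symm
  have hall : twoStep S 1 ≤ (centralizer ({π γ} : Set (S ⧸ L S m))).comap π := by
    conv_lhs => rw [← o.hy.c.gen_twoStep le_rfl (by omega) h0 h01]
    refine sup_le (fun a ha => ?_) (zpowers_le.2 ?_) <;> rw [mem_comap, mem_centralizer_singleton_iff]
    · exact (hL a ha γ hγ).eq.symm
    · exact (mem_centralizer_singleton_iff.1 (hle hγ)).symm
  rw [← QuotientGroup.eq_one_iff]
  show π ⁅γ, _⁆ = 1
  rw [map_commutatorElement, commutatorElement_eq_one_iff_mul_comm]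
  exact (mem_centralizer_singleton_iff.1 (hall w.u_gamma)).symm

theorem u_window (hm : p + 2 ≤ m + 1) : incl w.ctx.hy.hES (g zz) ∈ L S (m + 1 - p) := by
  have h := window w.ctx.cY hm ((w.ctx.mem_twoStep_iff (by have := w.four_le; omega)).2 w.u_gamma)
    (by rw [← map_pow]; exact (QuotientGroup.eq_one_iff _).2 w.u_pow)
  exact (w.ctx.mem_L_iff (by have := hp.out.two_le; omega)).1 h

theorem five_le : 5 ≤ p := by
  by_contra h
  have h4 := w.four_le
  have hp3 : p ≤ 3 := by
    by_contra hne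
    exact absurd hp.out (by rw [show p = 4 by omega]; norm_num)
  refine w.not_central fun γ hγ => w.ctx.comm_two (i := m - 2) (by omega) (by omega) le_rfl hγ ?_
  exact L_anti (by omega) (w.u_window (by omega))

theorem normalizer_le {t : S} (ht : (t : Ω) ∈ normalizerIn S E) : t ∈ twoStep S 1 := by
  by_contra htG
  have o := w.ctx
  have h5 := w.five_le
  have h4 := w.four_le
  have hn := o.hy.h4
  set π := QuotientGroup.mk' (L S m)
  have hs : Gd (S ⧸ L S m) p (m + 1) (π t) := by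
    have h1 : π t ∉ twoStep (S ⧸ L S m) 1 := fun h => htG ((o.mem_twoStep_iff (by omega)).1 h)
    refine good_of o.cY (by omega) h1 ?_
    rwa [o.twoStep_quot (by omega) (by omega)]
  set H := (E.subgroupOf S).map π with hH
  have hHt : ∀ h ∈ H, π t * h * (π t)⁻¹ ∈ H := by
    rintro _ ⟨e, he, rfl⟩
    exact ⟨t * e * t⁻¹, (normalizerIn_conj ht he : (t : Ω) * (e : Ω) * (t : Ω)⁻¹ ∈ E), by rw [map_mul, map_mul, map_inv]⟩
  have hback : ∀ {x : S}, π x ∈ H → x ∈ E.subgroupOf S := by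
    rintro x ⟨e, he, h⟩
    have : e⁻¹ * x ∈ E.subgroupOf S := o.layer ((QuotientGroup.eq (s := L S m)).1 h)
    simpa using mul_mem he this
  by_cases hle : E.subgroupOf S ≤ L S 1
  · classical
    refine o.hy.not_normal h5 ?_
    have hex : ∃ i, 1 ≤ i ∧ ∃ y ∈ H, Ex (S ⧸ L S m) i y := by
      obtain ⟨i, hi, -, hix⟩ := exists_level o.cY (u := π (incl o.hy.hES zz))
        ((o.mem_L_iff (by omega)).2 (L_anti (by omega) w.ex.1)) fun h =>
          w.ex.2 (L_anti (by omega) ((QuotientGroup.eq_one_iff _).1 h))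
      exact ⟨i, hi, _, mem_map_of_mem π zz.2, hix⟩
    obtain ⟨hk, y, hyH, hky⟩ := Nat.find_spec hex
    set k := Nat.find hex
    have hLH : L (S ⧸ L S m) k ≤ H := invariant_le o.cY hs hHt hk hyH hky
    have hkm : k ≤ m := by
      by_contra hlt
      exact hky.2 (by
        have : y = 1 := by
          have := hky.1
          rwa [o.cY.L_bot (by omega), mem_bot] at this
        rw [this]; exact one_mem _)
    have heq : E.subgroupOf S = L S k := by
      refine le_antisymm (fun x hx => ?_) fun x hx => hback (hLH ((o.mem_L_iff hkm).2 hx))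
      rcases eq_or_ne (π x) 1 with h | h
      · exact L_anti hkm ((QuotientGroup.eq_one_iff _).1 h)
      obtain ⟨i, hi, -, hix⟩ := exists_level o.cY ((o.mem_L_iff (by omega)).2 (hle hx)) h
      exact (o.mem_L_iff hkm).1 (L_anti (Nat.find_min' hex ⟨hi, _, mem_map_of_mem π hx, hix⟩) hix.1)
    rw [heq]
    infer_instance
  · obtain ⟨e, he, he1⟩ := SetLike.not_le_iff_exists.1 hle
    have hL := L_one_le_of_invariant o.cY hs (by omega) (i := 1) le_rfl (by omega) hHt
      ((o.mem_twoStep_iff (by omega)).2 (o.hy.le he)) (fun h => he1 ((o.mem_L_iff (by omega)).1 h))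
      (mem_map_of_mem π he)
    refine o.hy.ne (le_antisymm o.hy.le ?_)
    rw [← o.hy.c.gen_twoStep le_rfl (by omega) (o.hy.le he) he1]
    exact sup_le (fun x hx => hback (hL ((o.mem_L_iff (by omega)).2 hx))) (zpowers_le.2 he)

theorem not_L_one_le : ¬ L S 1 ≤ E.subgroupOf S := by
  intro hle
  have o := w.ctx
  have hn := o.hy.h4
  refine o.hy.not_normal w.five_le ?_
  have h : E.subgroupOf S = L S 1 := by
    refine (PGroup.eq_of_le_of_card_le hle ?_).symm
    obtain ⟨j, hj⟩ := IsPGroup.iff_card.1 (o.hy.hS.to_subgroup (E.subgroupOf S))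
    have := o.hy.card_le
    rw [hj, Nat.pow_lt_pow_iff_right hp.out.one_lt] at this
    rw [hj, o.hy.c.card_L le_rfl]
    exact Nat.pow_le_pow_right hp.out.pos (by omega)
  rw [h]
  infer_instance

/-- The elements of order `p` central in `Γ₁` modulo `L m`. -/
theorem exists_centre : ∃ r, 1 ≤ r ∧ r ≤ m - 2 ∧ ∀ x : S,
    x ∈ L S r ↔ x ∈ twoStep S 1 ∧ x ^ p ∈ L S m ∧ ∀ γ ∈ twoStep S 1, ⁅γ, x⁆ ∈ L S m := by
  have o := w.ctx
  have h5 := w.five_le
  have h4 := w.four_le
  have hn := o.hy.h4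
  obtain ⟨s, hs⟩ := o.hy.c.exists_good
  set π := QuotientGroup.mk' (L S m)
  have hcm : ∀ {x γ : S}, ⁅γ, x⁆ ∈ L S m ↔ Commute (π γ) (π x) := fun {x γ} => by
    rw [← commutatorElement_eq_one_iff_commute, ← map_commutatorElement]
    exact (QuotientGroup.eq_one_iff _).symm
  let W : Subgroup S :=
    { carrier := {x | x ∈ twoStep S 1 ∧ x ^ p ∈ L S m ∧ ∀ γ ∈ twoStep S 1, ⁅γ, x⁆ ∈ L S m}
      one_mem' := ⟨one_mem _, by rw [one_pow]; exact one_mem _, fun γ _ => by simp⟩
      mul_mem' := by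
        rintro x y ⟨hx, hxp, hxc⟩ ⟨hy, hyp, hyc⟩
        refine ⟨mul_mem hx hy, ?_, fun γ hγ => hcm.2 ?_⟩
        · rw [← QuotientGroup.eq_one_iff]
          show π ((x * y) ^ p) = 1
          have hx1 : π (x ^ p) = 1 := (QuotientGroup.eq_one_iff _).2 hxp
          have hy1 : π (y ^ p) = 1 := (QuotientGroup.eq_one_iff _).2 hyp
          rw [map_pow, map_mul, (hcm.1 (hyc x hx)).mul_pow, ← map_pow, ← map_pow, hx1, hy1, mul_one]
        · rw [map_mul]
          exact (hcm.1 (hxc γ hγ)).mul_right (hcm.1 (hyc γ hγ))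
      inv_mem' := by
        rintro x ⟨hx, hxp, hxc⟩
        refine ⟨inv_mem hx, by rw [inv_pow]; exact inv_mem hxp, fun γ hγ => hcm.2 ?_⟩
        rw [map_inv]
        exact (hcm.1 (hxc γ hγ)).inv_right }
  have hW : ∀ x, x ∈ W ↔ x ∈ twoStep S 1 ∧ x ^ p ∈ L S m ∧ ∀ γ ∈ twoStep S 1, ⁅γ, x⁆ ∈ L S m := fun _ => Iff.rfl
  have hinv : ∀ h ∈ W, s * h * s⁻¹ ∈ W := by
    intro h hh
    obtain ⟨h1, h2, h3⟩ := (hW h).1 hh
    refine (hW _).2 ⟨(twoStep_normal 1).conj_mem h h1 s, ?_, fun γ hγ => ?_⟩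
    · rw [conj_pow]; exact (inferInstance : (L S m).Normal).conj_mem _ h2 s
    · have hγ' : s⁻¹ * γ * s ∈ twoStep S 1 := by
        simpa using (twoStep_normal 1).conj_mem γ hγ s⁻¹
      have := (inferInstance : (L S m).Normal).conj_mem _ (h3 _ hγ') s
      rwa [conjugate_commutatorElement, show s * (s⁻¹ * γ * s) * s⁻¹ = γ by group] at this
  have hWle : W ≤ L S 1 := by
    intro x hx
    by_contra hx1
    have hL := L_one_le_of_invariant o.hy.c hs hn (i := 1) le_rfl (by omega) hinv ((hW x).1 hx).1 hx1 hx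
    refine w.not_central fun γ hγ => ?_
    have hu : incl o.hy.hES (g zz) ∈ W := by
      have : twoStep S 1 ≤ W := by
        rw [← o.hy.c.gen_twoStep le_rfl (by omega) ((hW x).1 hx).1 hx1]
        exact sup_le hL (zpowers_le.2 hx)
      exact this w.u_gamma
    exact ((hW _).1 hu).2.2 γ hγ
  classical
  have hL2 : L S (m - 2) ≤ W := fun x hx => (hW x).2 ⟨L_one_le_twoStep 1 (L_anti (by omega) hx),
    L_anti (by omega) (hs.pow_mem (by omega) x hx), fun γ hγ => o.comm_two (by omega) (by omega) le_rfl hγ hx⟩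
  obtain ⟨y0, hy0⟩ := exists_ex o.hy.c (i := m - 2) (by omega) (by have := o.le; omega)
  have hex : ∃ i, 1 ≤ i ∧ ∃ y ∈ W, Ex S i y := ⟨m - 2, by omega, y0, hL2 hy0.1, hy0⟩
  obtain ⟨hr, y, hyW, hry⟩ := Nat.find_spec hex
  refine ⟨Nat.find hex, hr, Nat.find_min' hex ⟨by omega, y0, hL2 hy0.1, hy0⟩, fun x => ?_⟩
  rw [← hW]
  refine ⟨fun h => invariant_le o.hy.c hs hinv hr hyW hry h, fun h => ?_⟩
  rcases eq_or_ne x 1 with rfl | hx1
  · exact one_mem _
  obtain ⟨i, hi, -, hix⟩ := exists_level o.hy.c (hWle h) hx1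
  exact L_anti (Nat.find_min' hex ⟨hi, x, h, hix⟩) hix.1

end Moved

/-- The layers attached to case I: `W = L r / L m` and the last layer `L a` outside `E`. -/
structure Layers (p n m r a : ℕ) [Fact p.Prime] (F : FusionSystem S) (E : Subgroup Ω) (M : Subgroup (MulAut E))
    (zz : E) (g : MulAut E) : Prop extends Moved p n m F E M zz g where
  centre : ∀ x : S, x ∈ L S r ↔ x ∈ twoStep S 1 ∧ x ^ p ∈ L S m ∧ ∀ γ ∈ twoStep S 1, ⁅γ, x⁆ ∈ L S m
  one_le : 1 ≤ a
  lt : a < r
  le_two : r ≤ m - 2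
  succ_le : L S (a + 1) ≤ E.subgroupOf S
  not_le : ¬ L S a ≤ E.subgroupOf S

theorem Moved.exists_layers {m : ℕ} {zz : E} {g : MulAut E} (w : Moved p n m F E M zz g) :
    ∃ r a, Layers p n m r a F E M zz g := by
  classical
  obtain ⟨r, hr, hr2, hW⟩ := w.exists_centre
  have hrE : L S r ≤ E.subgroupOf S := fun x hx =>
    mem_of_centralizes w.ctx.se w.ctx.hy.hS w.ctx.hy.c w.ctx.hy.hE w.ctx.le w.ctx.layer w.ctx.out
      fun e he => by
        rw [← commutatorElement_inv]
        exact inv_mem (((hW x).1 hx).2.2 e (w.ctx.hy.le he))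
  have hex : ∃ k, 1 ≤ k ∧ L S k ≤ E.subgroupOf S := ⟨r, hr, hrE⟩
  obtain ⟨hk, hkE⟩ := Nat.find_spec hex
  have hk1 : Nat.find hex ≠ 1 := fun e => w.not_L_one_le (e ▸ hkE)
  refine ⟨r, Nat.find hex - 1, w, hW, by omega, ?_, hr2, ?_, fun h => ?_⟩
  · have := Nat.find_min' hex ⟨hr, hrE⟩; omega
  · rwa [Nat.sub_add_cancel hk]
  · exact Nat.find_min hex (show Nat.find hex - 1 < Nat.find hex by omega) ⟨by omega, h⟩

namespace Layers

variable {m r a : ℕ} {zz : E} {g : MulAut E} (ly : Layers p n m r a F E M zz g)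

include ly

theorem r_le_E : L S r ≤ E.subgroupOf S := (L_anti ly.lt).trans ly.succ_le

theorem u_not_mem : incl ly.ctx.hy.hES (g zz) ∉ L S r := fun h =>
  ly.toMoved.not_central ((ly.centre _).1 h).2.2

theorem u_not_mem_pred : incl ly.ctx.hy.hES (g zz) ∉ L S (r - 1) := by
  intro hu
  have w := ly.toMoved
  have o := w.ctx
  have h1 := ly.one_le
  have h2 := ly.lt
  set ι := incl o.hy.hES
  set π := QuotientGroup.mk' (L S m)
  have hex : Ex S (r - 1) (ι (g zz)) := ⟨hu, by rw [Nat.sub_add_cancel (by omega)]; exact ly.u_not_mem⟩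
  let K : Subgroup S := twoStep S 1 ⊓ (centralizer (((L S (r - 1)).map π) : Set (S ⧸ L S m))).comap π
  have hK : ∀ x, x ∈ K ↔ x ∈ twoStep S 1 ∧ ∀ v ∈ L S (r - 1), ⁅x, v⁆ ∈ L S m := by
    intro x
    rw [Subgroup.mem_inf, mem_comap, mem_centralizer_iff]
    refine and_congr_right fun _ => ⟨fun h v hv => ?_, ?_⟩
    · rw [← QuotientGroup.eq_one_iff]
      show π ⁅x, v⁆ = 1
      rw [map_commutatorElement, commutatorElement_eq_one_iff_mul_comm]
      exact (h _ (mem_map_of_mem π hv)).symm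
    · rintro h _ ⟨v, hv, rfl⟩
      symm
      rw [← commutatorElement_eq_one_iff_mul_comm, ← map_commutatorElement]
      exact (QuotientGroup.eq_one_iff _).2 (h v hv)
  have hKE : K = E.subgroupOf S := by
    refine le_antisymm (fun x hx => w.cent (((hK x).1 hx).2 _ hu)) fun e he => ?_
    refine (hK e).2 ⟨o.hy.le he, fun v hv => ?_⟩
    have hle : L S (r - 1) ≤ (centralizer ({π e} : Set (S ⧸ L S m))).comap π := by
      rw [← gen_L' o.hy.c (by omega) hex]
      refine sup_le (fun y hy => ?_) (zpowers_le.2 ?_) <;>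
        rw [mem_comap, mem_centralizer_singleton_iff, eq_comm, ← commutatorElement_eq_one_iff_mul_comm,
          ← map_commutatorElement] <;> refine (QuotientGroup.eq_one_iff _).2 ?_
      · rw [Nat.sub_add_cancel (by omega)] at hy
        exact ((ly.centre y).1 hy).2.2 e (o.hy.le he)
      · exact w.comm_u he
    rw [← QuotientGroup.eq_one_iff]
    show π ⁅e, v⁆ = 1
    rw [map_commutatorElement, commutatorElement_eq_one_iff_mul_comm]
    exact (mem_centralizer_singleton_iff.1 (hle hv)).symm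
  refine o.hy.not_normal w.five_le ?_
  rw [← hKE]
  haveI : ((L S (r - 1)).map π).Normal := Subgroup.Normal.map inferInstance π (QuotientGroup.mk'_surjective _)
  infer_instance

theorem two_le_w : 2 ≤ m - r := by
  have := ly.le_two; have := ly.toMoved.four_le; omega

theorem w_le : m - r ≤ p - 2 := by
  have h1 := ly.one_le
  have h2 := ly.lt
  have := ly.le_two
  by_cases hm : p + 2 ≤ m + 1
  · have hu := ly.toMoved.u_window hm
    have : ¬ r - 1 ≤ m + 1 - p := fun h => ly.u_not_mem_pred (L_anti h hu)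
    omega
  · omega

/-- The only configuration with `p = 5` and a centre of rank 3. -/
theorem five_three (hp5 : p = 5) (hw : 3 ≤ m - r) : m = 5 ∧ r = 2 ∧ a = 1 := by
  have h1 := ly.one_le
  have h2 := ly.lt
  have := ly.le_two
  by_cases hm : p + 2 ≤ m + 1
  · have hu := ly.toMoved.u_window hm
    have : ¬ r - 1 ≤ m + 1 - p := fun h => ly.u_not_mem_pred (L_anti h hu)
    omega
  · omega

end Layers

end Cfsg.Agent.MaxClassEss
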