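import Cfsg.Agent.Lib.MaxClassEss.CaseOneTorus

/-!
# Case I: the torus element extended to `S`

`TorusExt` : a conjugate `k γ k⁻¹` of the torus element extends to an automorphism `σ` of `S`; modulo `L m` it is
the power `lam` on `L (m-1)` and either the same on `L r`, or `m = r + 2` and it is trivial on `L r / L (m-1)`.
-/

set_option autoImplicit false
set_option linter.unusedSectionVars false

universe u

namespace Cfsg.Agent.MaxClassEss

open Cfsg Cfsg.FusionSystem Cfsg.Agent.Fusion MaxClassPower PearlRank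

/-- The automorphism of `S` obtained from a torus element. -/
structure TorusExt {Ω : Type u} [Group Ω] {S : Subgroup Ω} [Finite S] (F : FusionSystem S) (m r lam : ℕ)
    (γ k : MulAut (GammaOne S)) (σ : S ≃* S) : Prop where
  mem : k ∈ layerStab F gamma_le m
  eq : ∀ x : GammaOne S, σ (incl gamma_le x) = incl gamma_le (k (γ (k⁻¹ x)))
  top : ∀ x ∈ L S (m - 1), σ x * (x ^ lam)⁻¹ ∈ L S m
  alt : (∀ x ∈ L S r, σ x * (x ^ lam)⁻¹ ∈ L S m) ∨ (m = r + 2 ∧ ∀ x ∈ L S r, σ x * x⁻¹ ∈ L S (m - 1))

end Cfsg.Agent.MaxClassEss
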