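import Cfsg.Agent.EqLemmas

/-!
# A twisted commutation forces quadratic action

* `exists_aeval_of_commute` : what commutes with a cyclic endomorphism is a polynomial in it;
* `sq_zero_of_twist` : if `U` is unipotent with one block of size at most `p`, `Y` commutes with `U` and
  some `Y'` commuting with `Y` twists `U` to `Y U`, then `(Y - 1) ^ 2 = 0`.
-/

set_option autoImplicit false
set_option linter.unusedSectionVars false

open Polynomial

universe u

namespace Cfsg.Agent.MaxClassEss

variable {p : ℕ} [hp : Fact p.Prime] {V : Type u} [AddCommGroup V] [Module (ZMod p) V]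

local notation "End'" => Module.End (ZMod p) V

theorem exists_aeval_of_commute {N Y : End'} {v : V}
    (hspan : Submodule.span (ZMod p) (Set.range fun i : ℕ => (N ^ i) v) = ⊤) (hc : Commute N Y) :
    ∃ f : (ZMod p)[X], Y = aeval N f := by
  have hmem : ∀ w : V, ∃ f : (ZMod p)[X], aeval N f v = w := by
    intro w
    have hw : w ∈ Submodule.span (ZMod p) (Set.range fun i : ℕ => (N ^ i) v) := hspan ▸ Submodule.mem_top
    induction hw using Submodule.span_induction with
    | mem x hx => obtain ⟨i, rfl⟩ := hx; exact ⟨X ^ i, by simp⟩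
    | zero => exact ⟨0, by simp⟩
    | add x y _ _ hx hy =>
      obtain ⟨f, rfl⟩ := hx
      obtain ⟨g, rfl⟩ := hy
      exact ⟨f + g, by simp⟩
    | smul a x _ hx => obtain ⟨f, rfl⟩ := hx; exact ⟨a • f, by simp⟩
  obtain ⟨f, hf⟩ := hmem (Y v)
  refine ⟨f, LinearMap.ext_on hspan ?_⟩
  rintro _ ⟨i, rfl⟩
  show Y ((N ^ i) v) = aeval N f ((N ^ i) v)
  have h1 : Commute (N ^ i) Y := hc.pow_left i
  have h2 : Commute (N ^ i) (aeval N f) := by
    have h := Commute.map (Commute.all (X ^ i : (ZMod p)[X]) f) (aeval N)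
    rwa [map_pow, aeval_X] at h
  rw [← Module.End.mul_apply, ← h1.eq, Module.End.mul_apply, ← hf, ← Module.End.mul_apply, h2.eq,
    Module.End.mul_apply]

theorem isUnit_aeval_of_nilpotent {N : End'} (hN : IsNilpotent N) {r : (ZMod p)[X]} (hr : r.eval 0 ≠ 0) :
    IsUnit (aeval N r) := by
  obtain ⟨q, hq⟩ : X ∣ r - C (r.eval 0) := by
    rw [X_dvd_iff, coeff_zero_eq_eval_zero]; simp
  have e : aeval N r = algebraMap (ZMod p) End' (r.eval 0) + N * aeval N q := by
    have h1 : r = C (r.eval 0) + X * q := by rw [← hq]; ring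
    conv_lhs => rw [h1]
    simp
  rw [e]
  refine IsNilpotent.isUnit_add_left_of_commute ?_ ((isUnit_iff_ne_zero.2 hr).map _)
    (Algebra.commutes (r.eval 0) _).symm
  refine Commute.isNilpotent_mul_right ?_ hN
  have h := Commute.map (Commute.all (X : (ZMod p)[X]) q) (aeval N)
  rwa [aeval_X] at h

theorem pow_eq_zero_of_mul {N : End'} (hN : IsNilpotent N) {k : ℕ} {r : (ZMod p)[X]}
    (hr : r.eval 0 ≠ 0) (h : aeval N (X ^ k * r) = 0) : N ^ k = 0 := by
  rw [map_mul, map_pow, aeval_X] at h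
  exact (isUnit_aeval_of_nilpotent hN hr).mul_left_eq_zero.1 h

/-- A twisted commutation forces quadratic action. -/
theorem sq_zero_of_twist {U Y' : End'ˣ} {Y : End'} {D : ℕ} {v : V} (hD : D ≤ p)
    (hnil : ((U : End') - 1) ^ D = 0) (hY : IsNilpotent (Y - 1))
    (hspan : Submodule.span (ZMod p) (Set.range fun i : ℕ => (((U : End') - 1) ^ i) v) = ⊤)
    (hUY : Commute (U : End') Y) (hYY : Commute (Y' : End') Y)
    (htw : (U : End') * Y' * (U⁻¹ : End'ˣ) = Y' * Y) : (Y - 1) * (Y - 1) = 0 := by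
  set N : End' := (U : End') - 1 with hNdef
  have hNn : IsNilpotent N := ⟨D, hnil⟩
  obtain ⟨f, hf⟩ := exists_aeval_of_commute hspan (hUY.sub_left (Commute.one_left Y))
  set P : (ZMod p)[X] := f - 1 with hP
  have hPN : aeval N P = Y - 1 := by rw [hP, map_sub, map_one, ← hf]
  by_cases hP0 : P = 0
  · rw [← hPN, hP0, map_zero, mul_zero]
  obtain ⟨r, hr, hr0⟩ := exists_eq_pow_rootMultiplicity_mul_and_not_dvd P hP0 (0 : ZMod p)
  set d := P.rootMultiplicity 0
  rw [map_zero, sub_zero] at hr hr0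
  have hr0' : r.eval 0 ≠ 0 := by
    rw [← coeff_zero_eq_eval_zero]
    exact fun h => hr0 (X_dvd_iff.2 h)
  rcases Nat.lt_or_ge d D with hdD | hdD
  swap
  · rw [← hPN, hr, map_mul, map_pow, aeval_X, pow_eq_zero_of_le hdD hnil, zero_mul, zero_mul]
  rcases Nat.eq_zero_or_pos d with hd0 | hd
  · rw [hd0, pow_zero, one_mul] at hr
    have hu : IsUnit (Y - 1) := hPN ▸ hr ▸ isUnit_aeval_of_nilpotent hNn hr0'
    obtain ⟨k, hk⟩ := hY
    have h1 : (1 : End') = 0 := by
      have := hu.pow k
      rw [hk, isUnit_zero_iff] at this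
      exact this.symm
    rw [← mul_one ((Y - 1) * (Y - 1)), h1, mul_zero]
  -- the twist
  set h : (ZMod p)[X] := P * (X + 1) with hh
  have htwist : (Y'⁻¹ : End'ˣ) * N * (Y' : End') = aeval N (X + h) := by
    have h1 : (Y'⁻¹ : End'ˣ) * (U : End') * (Y' : End') = Y * U := by
      calc ((Y'⁻¹ : End'ˣ) : End') * U * Y'
          = ((Y'⁻¹ : End'ˣ) : End') * (U * Y' * (U⁻¹ : End'ˣ)) * U := by
            simp only [mul_assoc, Units.inv_mul, mul_one]
        _ = Y * U := by rw [htw, ← mul_assoc, Units.inv_mul, one_mul]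
    calc ((Y'⁻¹ : End'ˣ) : End') * N * Y' = ((Y'⁻¹ : End'ˣ) : End') * U * Y' - 1 := by
          rw [hNdef, mul_sub, sub_mul, mul_one, Units.inv_mul]
      _ = N + (Y - 1) * U := by rw [h1, hNdef]; noncomm_ring
      _ = aeval N (X + h) := by
          rw [map_add, aeval_X, hh, map_mul, hPN, map_add, aeval_X, map_one, hNdef, sub_add_cancel]
  have hkey : aeval N (P.comp (X + h)) = aeval N P := by
    rw [aeval_comp, ← htwist, hPN]
    have hcj : ∀ g : (ZMod p)[X], aeval (((Y'⁻¹ : End'ˣ) : End') * N * Y') g =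
        ((Y'⁻¹ : End'ˣ) : End') * aeval N g * Y' := by
      intro g
      induction g using Polynomial.induction_on' with
      | add a b ha hb => rw [map_add, map_add, ha, hb, mul_add, add_mul]
      | monomial i a =>
        rw [aeval_monomial, aeval_monomial, Units.conj_pow', ← mul_assoc, ← mul_assoc, ← mul_assoc,
          Algebra.commutes a ((Y'⁻¹ : End'ˣ) : End')]
    rw [hcj, hPN, mul_assoc, ((hYY.sub_right (Commute.one_right _)).symm).eq, ← mul_assoc, Units.inv_mul, one_mul]
  obtain ⟨k, hk⟩ := Polynomial.binomExpansion (P.map C) (X : (ZMod p)[X]) h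
  have hevX : ∀ g : (ZMod p)[X], (g.map C).eval X = g := fun g => by rw [eval_map, eval₂_C_X]
  rw [hevX, derivative_map, hevX, eval_map] at hk
  change P.comp (X + h) = _ at hk
  have h0 : aeval N (derivative P * h + k * h ^ 2) = 0 := by
    have := hkey
    rw [hk, add_assoc, map_add] at this
    exact add_eq_left.1 this
  have e : derivative P * h + k * h ^ 2 =
      X ^ (2 * d - 1) * (r * (X + 1) * (C (d : ZMod p) * r + X * derivative r) + X * k * (r * (X + 1)) ^ 2) := by
    obtain ⟨d', hd'⟩ : ∃ d', d = d' + 1 := ⟨d - 1, by omega⟩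
    rw [hh, hr, derivative_mul, derivative_X_pow, hd', Nat.add_sub_cancel,
      show 2 * (d' + 1) - 1 = 2 * d' + 1 by omega]
    ring
  rw [e] at h0
  have hev : (r * (X + 1) * (C (d : ZMod p) * r + X * derivative r) + X * k * (r * (X + 1)) ^ 2).eval 0 ≠ 0 := by
    simp only [eval_add, eval_mul, eval_X, eval_one, eval_C, eval_pow, zero_add, mul_one, zero_mul, add_zero]
    refine mul_ne_zero hr0' (mul_ne_zero ?_ hr0')
    rw [Ne, ZMod.natCast_eq_zero_iff]
    exact Nat.not_dvd_of_pos_of_lt hd (by omega)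
  have hz := pow_eq_zero_of_mul hNn hev h0
  rw [← hPN, ← map_mul, hr, show X ^ d * r * (X ^ d * r) = X ^ (2 * d) * (r * r) by ring, map_mul, map_pow,
    aeval_X, pow_eq_zero_of_le (by omega) hz, zero_mul]

end Cfsg.Agent.MaxClassEss
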