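import Cfsg.Agent.Lib.MaxClassEss.Aut

/-!
# Automorphisms of `P ≤ S` acting on abelian sections modulo `L m`

* `omegaCentre p H` : the elements of order dividing `p` of the centre of `H`;
* `exists_rep` : the linear representation of a group of automorphisms of `P` on an invariant
  elementary abelian subgroup of the image of `P` in `S / L m`.
-/

set_option autoImplicit false
set_option linter.unusedSectionVars false
set_option linter.style.haveILetI false

open Subgroup
open scoped commutatorElement IsMulCommutative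

universe u

namespace Cfsg.Agent.MaxClassEss

open Cfsg Cfsg.FusionSystem Cfsg.Agent.Fusion MaxClassPower PearlRank

section Centre

variable {Y : Type u} [Group Y]

/-- The elements of order dividing `p` in the centre of `H`. -/
def omegaCentre (p : ℕ) (H : Subgroup Y) : Subgroup Y where
  carrier := {y | y ∈ H ∧ y ^ p = 1 ∧ ∀ h ∈ H, Commute h y}
  one_mem' := ⟨one_mem _, one_pow p, fun h _ => Commute.one_right h⟩
  mul_mem' := by
    rintro x y ⟨hx, hxp, hxc⟩ ⟨hy, hyp, hyc⟩
    refine ⟨mul_mem hx hy, ?_, fun h hh => (hxc h hh).mul_right (hyc h hh)⟩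
    rw [(hyc x hx).mul_pow, hxp, hyp, one_mul]
  inv_mem' := by
    rintro x ⟨hx, hxp, hxc⟩
    exact ⟨inv_mem hx, by rw [inv_pow, hxp, inv_one], fun h hh => (hxc h hh).inv_right⟩

theorem mem_omegaCentre {p : ℕ} {H : Subgroup Y} {y : Y} :
    y ∈ omegaCentre p H ↔ y ∈ H ∧ y ^ p = 1 ∧ ∀ h ∈ H, Commute h y := Iff.rfl

instance omegaCentre_comm (p : ℕ) (H : Subgroup Y) : IsMulCommutative (omegaCentre p H) :=
  ⟨⟨fun a b => Subtype.ext (b.2.2.2 a a.2.1).eq⟩⟩

theorem omegaCentre_pow (p : ℕ) (H : Subgroup Y) (v : omegaCentre p H) : v ^ p = 1 := Subtype.ext v.2.2.1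

end Centre

variable {p n m : ℕ} [hp : Fact p.Prime] {Ω : Type u} [Group Ω] {S : Subgroup Ω} [Finite S]
  {F : FusionSystem S} {P : Subgroup Ω}

/-- The image of `P` in `S / L m`. -/
abbrev imgY (m : ℕ) (hP : P ≤ S) : Subgroup (S ⧸ L S m) := ((QuotientGroup.mk' (L S m)).comp (incl hP)).range

theorem mk_apply_eq {hP : P ≤ S} {a : MulAut P} (ha : a ∈ layerStab F hP m) {x y : P}
    (h : QuotientGroup.mk' (L S m) (incl hP x) = QuotientGroup.mk' (L S m) (incl hP y)) :
    QuotientGroup.mk' (L S m) (incl hP (a x)) = QuotientGroup.mk' (L S m) (incl hP (a y)) := by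
  refine QuotientGroup.eq.2 ?_
  have h' : incl hP (x⁻¹ * y) ∈ L S m := by
    rw [map_mul, map_inv]; exact QuotientGroup.eq.1 h
  have := layerStab_apply_mem ha le_rfl h'
  rwa [map_mul, map_inv, map_mul, map_inv] at this

theorem omega_invariant {hP : P ≤ S} {a : MulAut P} (ha : a ∈ layerStab F hP m) {x : P}
    (h : QuotientGroup.mk' (L S m) (incl hP x) ∈ omegaCentre p (imgY m hP)) :
    QuotientGroup.mk' (L S m) (incl hP (a x)) ∈ omegaCentre p (imgY m hP) := by
  obtain ⟨-, hp', hc⟩ := h
  refine ⟨⟨a x, rfl⟩, ?_, ?_⟩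
  · rw [← map_pow, ← map_pow] at hp'
    rw [← map_pow, ← map_pow, ← map_pow]
    have := mk_apply_eq ha (x := x ^ p) (y := 1) (by rw [hp', map_one, map_one])
    simpa only [map_one] using this
  · rintro _ ⟨y, rfl⟩
    obtain ⟨y, rfl⟩ := a.surjective y
    have h1 := hc _ ⟨y, rfl⟩
    show _ * _ = _ * _
    simp only [MonoidHom.comp_apply, ← map_mul]
    refine mk_apply_eq ha ?_
    rw [map_mul, map_mul, map_mul, map_mul]
    exact h1.eq

/-- The representation on an invariant elementary abelian section. -/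
theorem exists_rep {hP : P ≤ S} {K : Subgroup (MulAut P)} (hK : K ≤ layerStab F hP m)
    {V : Subgroup (S ⧸ L S m)} [IsMulCommutative V] [Module (ZMod p) (Additive V)] (hVP : V ≤ imgY m hP)
    (hinv : ∀ a ∈ K, ∀ x : P, QuotientGroup.mk' (L S m) (incl hP x) ∈ V →
      QuotientGroup.mk' (L S m) (incl hP (a x)) ∈ V) :
    ∃ ρ : K →* LinearMap.GeneralLinearGroup (ZMod p) (Additive V), ∀ (a : K) (x : P)
      (h : QuotientGroup.mk' (L S m) (incl hP x) ∈ V),
      (ρ a : Module.End (ZMod p) (Additive V)) (Additive.ofMul ⟨_, h⟩) =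
        Additive.ofMul ⟨_, hinv _ a.2 x h⟩ := by
  have hex : ∀ v : V, ∃ x : P, QuotientGroup.mk' (L S m) (incl hP x) = v := fun v => hVP v.2
  choose sec hsec using hex
  have hmem : ∀ v : V, QuotientGroup.mk' (L S m) (incl hP (sec v)) ∈ V := fun v => (hsec v).symm ▸ v.2
  let f : K → V → V := fun a v => ⟨_, hinv _ a.2 (sec v) (hmem v)⟩
  have hf : ∀ (a : K) (v : V) (x : P), QuotientGroup.mk' (L S m) (incl hP x) = v →
      QuotientGroup.mk' (L S m) (incl hP ((a : MulAut P) x)) = f a v := fun a v x hx =>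
    mk_apply_eq (hK a.2) (hx.trans (hsec v).symm)
  have hmul : ∀ (a : K) (v w : V), f a (v * w) = f a v * f a w := fun a v w => Subtype.ext (by
    rw [← hf a (v * w) (sec v * sec w) (by rw [map_mul, map_mul, hsec, hsec]; rfl), map_mul, map_mul, map_mul]
    rfl)
  let lin : K → Module.End (ZMod p) (Additive V) := fun a =>
    (MonoidHom.toAdditive (MonoidHom.mk' (f a) (hmul a))).toZModLinearMap p
  have hlin : ∀ (a : K) (v : V), lin a (Additive.ofMul v) = Additive.ofMul (f a v) := fun a v => rfl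
  let hom : K →* Module.End (ZMod p) (Additive V) :=
    { toFun := lin
      map_one' := LinearMap.ext fun v => by
        obtain ⟨v, rfl⟩ := Additive.ofMul.surjective v
        rw [hlin]
        exact congrArg Additive.ofMul (Subtype.ext (hsec v))
      map_mul' := fun a b => LinearMap.ext fun v => by
        obtain ⟨v, rfl⟩ := Additive.ofMul.surjective v
        rw [Module.End.mul_apply, hlin, hlin, hlin]
        refine congrArg Additive.ofMul (Subtype.ext ?_)
        exact hf a (f b v) _ rfl }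
  refine ⟨hom.toHomUnits, fun a x h => ?_⟩
  show lin a _ = _
  rw [hlin]
  exact congrArg Additive.ofMul (Subtype.ext (hf a ⟨_, h⟩ x rfl).symm)

end Cfsg.Agent.MaxClassEss
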