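import Cfsg.Agent.Lib.MaxClassEss.CaseOneBase
import Cfsg.Agent.Lib.MaxClassEss.Linear
import Cfsg.Agent.Lib.MaxClassEss.Rep
import Cfsg.Agent.Lib.HallHigman.FrattiniModule

/-!
# Case I: a quadratic element of `N_S(E)`
-/

set_option autoImplicit false
set_option linter.unusedSectionVars false
set_option linter.style.haveILetI false

open Subgroup
open scoped commutatorElement IsMulCommutative

universe u

namespace Cfsg.Agent.MaxClassEss

open Cfsg Cfsg.FusionSystem Cfsg.Agent.Fusion MaxClassPower PearlRank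
open PearlRank.Pc (D D_mem)

variable {p n : ℕ} [hp : Fact p.Prime] {Ω : Type u} [Group Ω] {S : Subgroup Ω} [Finite S]
  {F : FusionSystem S} {E : Subgroup Ω} {M : Subgroup (MulAut E)}

theorem D_iter_deep {X : Type u} [Group X] [Finite X] {t x : X} {q : ℕ} (hx : x ∈ L X q) :
    ∀ k, (D t)^[k] x ∈ L X (q + k) := by
  intro k
  induction k with
  | zero => exact hx
  | succ k ih => rw [Function.iterate_succ_apply']; exact D_mem ih

namespace Layers

variable {m r a : ℕ} {zz : E} {g : MulAut E} (ly : Layers p n m r a F E M zz g)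

include ly

theorem L_a_le_gamma {x : S} (hx : x ∈ L S a) : x ∈ twoStep S 1 :=
  L_one_le_twoStep 1 (L_anti ly.one_le hx)

theorem mem_normalizer_of_mem {y : S} (hy : y ∈ L S a) : (y : Ω) ∈ normalizerIn S E := by
  have hES := ly.ctx.hy.hES
  haveI := finite_of_le (S := S) hES
  refine mem_normalizerIn_of_conj y.2 fun x hx => ?_
  have h2 : ⁅y, (⟨x, hES hx⟩ : S)⁆ * ⟨x, hES hx⟩ ∈ E.subgroupOf S :=
    mul_mem (ly.succ_le (commutator_mem_commutator hy (mem_top _))) hx
  rw [commutatorElement_def, inv_mul_cancel_right] at h2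
  exact h2

theorem not_mem_of_exact {y : S} (hy : Ex S a y) : y ∉ E.subgroupOf S := fun hyE =>
  ly.not_le (by
    rw [← gen_L' ly.ctx.hy.c ly.one_le hy]
    exact sup_le ly.succ_le (zpowers_le.2 hyE))

theorem exists_twisted {s : S} (hs : Gd S p n s) :
    ∃ y y' : S, Ex S a y ∧ y' ∈ twoStep S 1 ∧ D s y' = y := by
  have h1 := ly.one_le
  have h2 := ly.lt
  have := ly.le_two
  have := ly.ctx.le
  have c := ly.ctx.hy.c
  have hn := ly.ctx.hy.h4
  by_cases ha : a = 1
  · obtain ⟨x0, h0, h01⟩ := c.exists_mem_twoStep (i := 1) le_rfl (by omega)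
    refine ⟨D s x0, x0, ⟨?_, ?_⟩, h0, rfl⟩
    · rw [ha]; exact D_mem (mem_L_zero x0)
    · rw [ha]; exact D_not_mem_L_two c le_rfl (by omega) (c.not_mem_twoStep hs le_rfl (by omega)) h0 h01
  · obtain ⟨y, hy⟩ := exists_ex c h1 (by omega)
    obtain ⟨y', hy', e⟩ := hs.D_surj (i := a - 1) (by omega)
      (show y ∈ L S (a - 1 + 1) by rw [Nat.sub_add_cancel h1]; exact hy.1)
    exact ⟨y, y', hy, L_one_le_twoStep 1 (L_anti (by omega) hy'), e⟩

set_option maxHeartbeats 1000000 in
/-- There is an element of `N_S(E) \ E` acting quadratically on `Ω₁ Z(E / L m)`. -/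
theorem exists_quad : ∃ y : S, (y : Ω) ∈ normalizerIn S E ∧ y ∉ E.subgroupOf S ∧
    ∀ x : E, QuotientGroup.mk' (L S m) (incl ly.ctx.hy.hES x) ∈ omegaCentre p (imgY m ly.ctx.hy.hES) →
      ⁅y, ⁅y, incl ly.ctx.hy.hES x⁆⁆ ∈ L S m := by
  have o := ly.ctx
  have w := ly.toMoved
  have c := o.hy.c
  have hn := o.hy.h4
  have h1 := ly.one_le
  have h2 := ly.lt
  have h3 := ly.le_two
  have hES := o.hy.hES
  have hp5 := w.five_le
  obtain ⟨s, hs⟩ := c.exists_good
  obtain ⟨y, y', hy, hy', hDy⟩ := ly.exists_twisted hs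
  refine ⟨y, ly.mem_normalizer_of_mem hy.1, ly.not_mem_of_exact hy, ?_⟩
  set ι := incl hES
  set π := QuotientGroup.mk' (L S m) with hπ
  set V := omegaCentre p (imgY m hES)
  have hcm : ∀ {x z : S}, ⁅x, z⁆ ∈ L S m ↔ Commute (π x) (π z) := fun {x z} => by
    rw [← commutatorElement_eq_one_iff_commute, ← map_commutatorElement]
    exact (QuotientGroup.eq_one_iff _).symm
  have hVc : ∀ x : E, π (ι x) ∈ V → ∀ w ∈ L S (a + 1), Commute (π (ι x)) (π w) := fun x hx v hv =>
    (hx.2.2 _ ⟨⟨v, ly.succ_le hv⟩, rfl⟩).symm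
  intro x hx
  by_cases hA : ∃ x0 : E, π (ι x0) ∈ V ∧ ι x0 ∉ L S (a + 1)
  · obtain ⟨x0, hx0V, hx0⟩ := hA
    let C : Subgroup S := (centralizer (((L S (a + 1)).map π) : Set (S ⧸ L S m))).comap π
    haveI : ((L S (a + 1)).map π).Normal := Subgroup.Normal.map inferInstance π (QuotientGroup.mk'_surjective _)
    have hC : C.Normal := inferInstance
    have hx0C : ι x0 ∈ C := by
      rw [mem_comap, mem_centralizer_iff]
      rintro _ ⟨v, hv, rfl⟩
      exact (hVc x0 hx0V v hv).eq.symm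
    have hLa : L S a ≤ C := by
      by_cases hx1 : ι x0 ∈ L S 1
      · have hne : ι x0 ≠ 1 := fun e => hx0 (e ▸ one_mem _)
        obtain ⟨b, hb, -, hbx⟩ := exists_level c hx1 hne
        have hba : b ≤ a := by
          by_contra hlt
          exact hx0 (L_anti (by omega) hbx.1)
        exact (L_anti hba).trans (invariant_le c hs (fun h hh => hC.conj_mem h hh s) hb hx0C hbx)
      · exact (L_anti h1).trans (L_one_le_of_invariant c hs hn (i := 1) le_rfl (by omega)
          (fun h hh => hC.conj_mem h hh s) (o.hy.le x0.2) hx1 hx0C)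
    have hab : ∀ v ∈ L S a, Commute (π y) (π v) := by
      intro v hv
      have hle : L S a ≤ (centralizer ({π y} : Set (S ⧸ L S m))).comap π := by
        rw [← gen_L' c h1 hy]
        refine sup_le (fun w' hw' => ?_) (zpowers_le.2 ?_) <;> rw [mem_comap, mem_centralizer_singleton_iff]
        exact mem_centralizer_iff.1 (hLa hy.1) _ (mem_map_of_mem π hw')
      exact (mem_centralizer_singleton_iff.1 (hle hv)).symm
    exact hcm.2 (hab _ (L_anti (Nat.le_succ a) (commutator_mem_commutator hy.1 (mem_top _))))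
  push Not at hA
  -- the case of `V` inside `L (a + 1)`
  set M0 := omegaCentre p ((L S (a + 1)).map π) with hM0
  haveI hLn : ((L S (a + 1)).map π).Normal := Subgroup.Normal.map inferInstance π (QuotientGroup.mk'_surjective _)
  haveI hM0n : M0.Normal := ⟨fun v hv q => by
    refine ⟨hLn.conj_mem v hv.1 q, by rw [conj_pow, hv.2.1, mul_one, mul_inv_cancel], fun h hh => ?_⟩
    have h' : q⁻¹ * h * q ∈ (L S (a + 1)).map π := by simpa using hLn.conj_mem h hh q⁻¹
    have := (hv.2.2 _ h').map (MulAut.conj q).toMonoidHom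
    simpa [mul_assoc] using this⟩
  obtain ⟨instM, σ, hσ⟩ := HallHigman.exists_linear_rep (Q := M0) (omegaCentre_pow p _)
    ((MulAut.conjNormal : (S ⧸ L S m) →* MulAut M0).comp π)
  letI := instM
  have hσ' : ∀ (t : S) (v : M0), σ t (Additive.ofMul v) - Additive.ofMul v =
      Additive.ofMul (MulAut.conjNormal (π t) v * v⁻¹) := fun t v => by
    rw [hσ]; exact sub_eq_add_neg _ _
  have hstep : ∀ (t : S) (v : M0) (z : S), π z = v →
      ((σ t - 1) (Additive.ofMul v)).toMul.1 = π (D t z) := by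
    intro t v z hz
    rw [LinearMap.sub_apply, Module.End.one_apply, hσ']
    show ((MulAut.conjNormal (π t) v : M0) : S ⧸ L S m) * (v : S ⧸ L S m)⁻¹ = _
    rw [MulAut.conjNormal_apply, show D t z = z⁻¹ * (t * z * t⁻¹) by simp [D, mul_assoc], map_mul, map_inv,
      map_mul, map_mul, map_inv, hz]
    have hcc := v.2.2.2 (π t * (v : S ⧸ L S m) * (π t)⁻¹) (hLn.conj_mem _ v.2.1 _)
    exact hcc.inv_right.eq
  have hiter : ∀ (t : S) (v : M0) (z : S), π z = v → ∀ k,
      (((σ t - 1) ^ k) (Additive.ofMul v)).toMul.1 = π ((D t)^[k] z) := by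
    intro t v z hz k
    induction k with
    | zero => simp [hz]
    | succ k ih =>
      rw [pow_succ', Module.End.mul_apply, Function.iterate_succ_apply']
      exact hstep t _ _ ih.symm
  -- the layer of `M0`
  have hq : ∃ q, a + 1 ≤ q ∧ q ≤ m - 1 ∧ (m - q ≤ p) ∧ (∀ v ∈ M0, ∃ z ∈ L S q, π z = v) ∧
      ∃ z0, π z0 ∈ M0 ∧ Ex S q z0 := by
    classical
    have hz : π (ι zz) ∈ M0 := ⟨mem_map_of_mem π (L_anti (by omega) w.ex.1),
      by
        rw [← map_pow]
        exact (QuotientGroup.eq_one_iff _).2 (L_anti (by omega) (hs.pow_mem (by omega) _ w.ex.1)),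
      by rintro _ ⟨v, -, rfl⟩; exact hcm.1 w.comm_zz⟩
    have hzm : Ex S (m - 1) (ι zz) := w.ex
    have hex : ∃ q, ∃ z ∈ L S (a + 1), π z ∈ M0 ∧ Ex S q z :=
      ⟨m - 1, _, L_anti (by omega) hzm.1, hz, hzm⟩
    obtain ⟨z, hzL, hzM, hzq⟩ := Nat.find_spec hex
    have hqa : a + 1 ≤ Nat.find hex := by
      by_contra h
      exact hzq.2 (L_anti (by omega) hzL)
    have hqm : Nat.find hex ≤ m - 1 := Nat.find_min' hex ⟨_, L_anti (by omega) hzm.1, hz, hzm⟩
    refine ⟨Nat.find hex, hqa, hqm, ?_, fun v hv => ?_, z, hzM, hzq⟩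
    · by_cases hm : p + 2 ≤ m + 1
      · have hw2 := window o.cY hm (x := π z)
          ((o.mem_twoStep_iff (by omega)).2 (L_one_le_twoStep 1 (L_anti (by omega) hzq.1))) hzM.2.1
        have : ¬ Nat.find hex + 1 ≤ m + 1 - p := fun hle =>
          hzq.2 (L_anti hle ((o.mem_L_iff (by omega)).1 hw2))
        omega
      · omega
    · obtain ⟨z', hz', rfl⟩ := hv.1
      refine ⟨z', ?_, rfl⟩
      rcases eq_or_ne z' 1 with rfl | hne
      · exact one_mem _
      obtain ⟨i, hi, -, hiz⟩ := exists_level c (L_anti (by omega) hz') hne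
      exact L_anti (Nat.find_min' hex ⟨z', hz', hv, hiz⟩) hiz.1
  obtain ⟨q, hqa, hqm, hqp, hM0q, z0, hz0M, hz0⟩ := hq
  have hnil : ∀ t : S, (σ t - 1) ^ (m - q) = 0 := fun t => LinearMap.ext fun v => by
    obtain ⟨v, rfl⟩ := Additive.ofMul.surjective v
    obtain ⟨z, hz, hzv⟩ := hM0q v v.2
    refine Additive.toMul.injective (Subtype.ext ?_)
    rw [hiter t v z hzv, LinearMap.zero_apply]
    refine (QuotientGroup.eq_one_iff _).2 ?_
    have := D_iter_deep (t := t) hz (m - q)
    rwa [show q + (m - q) = m by omega] at this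
  set v0 : Additive M0 := Additive.ofMul ⟨π z0, hz0M⟩
  set sU := σ.toHomUnits s
  set sY' := σ.toHomUnits y'
  have hspan : Submodule.span (ZMod p) (Set.range fun i : ℕ => ((σ s - 1) ^ i) v0) = ⊤ := by
    set W := Submodule.span (ZMod p) (Set.range fun i : ℕ => ((σ s - 1) ^ i) v0)
    -- the elements of the span, as a subgroup of `S / L m`
    let H : Subgroup (S ⧸ L S m) :=
      { carrier := {z | ∃ v : M0, (v : S ⧸ L S m) = z ∧ Additive.ofMul v ∈ W}
        one_mem' := ⟨1, rfl, W.zero_mem⟩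
        mul_mem' := by
          rintro _ _ ⟨v, rfl, hv⟩ ⟨v', rfl, hv'⟩
          exact ⟨v * v', rfl, W.add_mem hv hv'⟩
        inv_mem' := by
          rintro _ ⟨v, rfl, hv⟩
          exact ⟨v⁻¹, rfl, W.neg_mem hv⟩ }
    have hgen : ∀ d i, m ≤ i + d → q ≤ i → L S i ≤ H.comap π := by
      intro d
      induction d with
      | zero =>
        intro i hi _ z hz
        refine ⟨1, ?_, W.zero_mem⟩
        exact ((QuotientGroup.eq_one_iff z).2 (L_anti (by omega) hz)).symm
      | succ d ih =>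
        intro i hi hqi
        rcases Nat.lt_or_ge i m with him | him
        swap
        · exact ih i (by omega) hqi
        obtain ⟨k, rfl⟩ : ∃ k, i = q + k := ⟨i - q, by omega⟩
        have hk : Ex S (q + k) ((D s)^[k] z0) :=
          ⟨hs.D_iter_mem hz0.1 k, hs.D_iter_sharp (by omega) hz0.1 hz0.2 k (by have := o.le; omega)⟩
        rw [← gen_L' c (by omega) hk]
        refine sup_le (ih _ (by omega) (by omega)) (zpowers_le.2 ?_)
        exact ⟨(((σ s - 1) ^ k) v0).toMul, hiter s _ _ rfl k, Submodule.subset_span ⟨k, rfl⟩⟩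
    refine eq_top_iff.2 fun v _ => ?_
    obtain ⟨v, rfl⟩ := Additive.ofMul.surjective v
    obtain ⟨z, hz, hzv⟩ := hM0q v v.2
    obtain ⟨v', hv', hW⟩ := hgen m q (by omega) le_rfl hz
    rwa [show v = v' from Subtype.ext (hzv.symm.trans hv'.symm)]
  have hcomm : ∀ t ∈ L S (a + 1), σ t = 1 := fun t ht => LinearMap.ext fun v => by
    obtain ⟨v, rfl⟩ := Additive.ofMul.surjective v
    rw [hσ]
    refine congrArg Additive.ofMul (Subtype.ext ?_)
    rw [MonoidHom.comp_apply, MulAut.conjNormal_apply, (v.2.2.2 _ (mem_map_of_mem π ht)).eq, mul_inv_cancel_right]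
  have hUY : Commute (σ s) (σ y) := by
    have e : s * y = y * D s y * s := by simp [D, mul_assoc]
    show σ s * σ y = σ y * σ s
    rw [← map_mul, e, map_mul, map_mul, hcomm _ (D_mem hy.1), mul_one]
  have hYY : Commute (σ y') (σ y) := by
    have e : y' * y = ⁅y', y⁆ * y * y' := by simp [commutatorElement_def, mul_assoc]
    have hm' : ⁅y', y⁆ ∈ L S (a + 1) := by
      rw [← commutatorElement_inv]; exact inv_mem (commutator_mem_commutator hy.1 (mem_top y'))
    show σ y' * σ y = σ y * σ y'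
    rw [← map_mul, e, map_mul, map_mul, hcomm _ hm', one_mul]
  have hquad : (σ y - 1) * (σ y - 1) = 0 := by
    refine sq_zero_of_twist (U := sU) (Y' := sY') (D := m - q) (v := v0) hqp (hnil s) ⟨m - q, hnil y⟩ hspan hUY hYY ?_
    show σ s * σ y' * ((sU⁻¹ : (Module.End (ZMod p) (Additive M0))ˣ) : Module.End (ZMod p) (Additive M0)) = σ y' * σ y
    rw [Units.mul_inv_eq_iff_eq_mul]
    show σ s * σ y' = σ y' * σ y * σ s
    rw [← map_mul, ← map_mul, ← map_mul, ← hDy]
    congr 1
    simp [D, mul_assoc]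
  have hxM : π (ι x) ∈ M0 := ⟨mem_map_of_mem π (hA x hx), hx.2.1,
    by rintro _ ⟨v, hv, rfl⟩; exact (hVc x hx v hv).symm⟩
  have h0 := hiter y ⟨_, hxM⟩ (ι x) rfl 2
  rw [pow_two, hquad, LinearMap.zero_apply] at h0
  have h0' : D y (D y (ι x)) ∈ L S m := (QuotientGroup.eq_one_iff _).1 h0.symm
  -- translate into commutators
  have hD : ∀ z : S, D y z = z⁻¹ * ⁅y, z⁆ * z := fun z => by simp [D, commutatorElement_def, mul_assoc]
  set z := ι x
  rw [hD (D y z)] at h0'
  have h4 : ⁅y, D y z⁆ ∈ L S m := by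
    have := (inferInstance : (L S m).Normal).conj_mem _ h0' (D y z)
    simpa [mul_assoc] using this
  have hzc : Commute (π z) (π ⁅y, z⁆) :=
    hVc x hx _ (commutator_mem_commutator hy.1 (mem_top _))
  refine hcm.2 ?_
  have h5 := hcm.1 h4
  rwa [hD, map_mul, map_mul, map_inv, mul_assoc, ← hzc.eq, inv_mul_cancel_left] at h5

end Layers

end Cfsg.Agent.MaxClassEss
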