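import Cfsg.Agent.Lib.QuadRoot.Surjective
import Cfsg.Agent.EqLemmas

/-!
# The diagonal element of a quadratic pair

`exists_torusData` : two opposite minimal quadratic elements `d`, `b` of a linear group give an element of the
group with the eigenvalues `ω`, `1`, `ω⁻¹`, the first one on the range of `d` and the last one off its kernel.
-/

set_option autoImplicit false
set_option linter.unusedSectionVars false

universe u v

namespace Cfsg.Agent.MaxClassEss

open Cfsg

variable {k : Type u} [Field k] {V : Type v} [AddCommGroup V] [Module k V]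

/-- An element `H` of `G` with three eigenspaces attached to the pair `d`, `b`. -/
structure TorusData (G : Subgroup (LinearMap.GeneralLinearGroup k V)) (d b : Module.End k V) (ω : k)
    (H : LinearMap.GeneralLinearGroup k V) (eC eO eD : Module.End k V) : Prop where
  memG : H ∈ G
  conj : QuadRoot.cj H d = (ω * ω) • d
  sum : ∀ v, eC v + eO v + eD v = v
  hC : ∀ v, (H : Module.End k V) (eC v) = ω • eC v
  hO : ∀ v, (H : Module.End k V) (eO v) = eO v
  hD : ∀ v, ω • (H : Module.End k V) (eD v) = eD v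
  range : ∀ v, ∃ z, d z = eC v
  kerD : ∀ v, d v = 0 → eD v = 0
  fix : ω ≠ 1 → ∀ v, d v = 0 → (H : Module.End k V) v = v → b v = 0

variable [FiniteDimensional k V] {G : Subgroup (LinearMap.GeneralLinearGroup k V)} {d b : Module.End k V}

theorem exists_torusData (hk2 : ringChar k ≠ 2) (hk3 : Nat.card k ≠ 3) (hd : QuadRoot.Dmin G d)
    (hb : QuadRoot.Dmin G b) (hopp : QuadRoot.Opp d b) {ω : k} (hω : ω ≠ 0) :
    ∃ (H : LinearMap.GeneralLinearGroup k V) (eC eO eD : Module.End k V), TorusData G d b ω H eC eO eD := by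
  obtain ⟨Lf, _, _, ⟨c⟩⟩ := QuadRoot.exists_model hk2 hk3 hd hb hopp
  let D0 : Matrix.SpecialLinearGroup (Fin 2) Lf :=
    ⟨!![algebraMap k Lf ω, 0; 0, algebraMap k Lf ω⁻¹], by
      rw [Matrix.det_fin_two_of, mul_zero, sub_zero, ← map_mul, mul_inv_cancel₀ hω, map_one]⟩
  set eC := QuadRoot.eC c
  set eO := QuadRoot.eO c
  set eD := QuadRoot.eD c
  set H := c.rho D0
  have hH : (H : Module.End k V) = ω • eC + eO + ω⁻¹ • eD := by
    have e : ((D0 : Matrix.SpecialLinearGroup (Fin 2) Lf) : Matrix (Fin 2) (Fin 2) Lf) =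
        ω • !![1, 0; 0, 0] + ω⁻¹ • !![0, 0; 0, 1] := by
      show !![algebraMap k Lf ω, 0; 0, algebraMap k Lf ω⁻¹] = _
      ext i j; fin_cases i <;> fin_cases j <;> simp only [Matrix.add_apply, Matrix.smul_apply] <;>
        simp [Algebra.smul_def]
    rw [c.coe_rho, e, map_add, map_smul, map_smul]
    show ω • eC + ω⁻¹ • eD + eO = _
    abel
  have hsum : ∀ v, eC v + eO v + eD v = v := fun v => LinearMap.congr_fun (QuadRoot.sum_eq c) v
  have kerD : ∀ v, d v = 0 → eD v = 0 := fun v hv =>
    LinearMap.mem_ker.1 ((QuadRoot.ker_eD c).ge (LinearMap.mem_ker.2 hv))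
  have hHC : (H : Module.End k V) * eC = ω • eC := by
    rw [hH, add_mul, add_mul, smul_mul_assoc, smul_mul_assoc, QuadRoot.eC_eC, (QuadRoot.orth c).2.1,
      (QuadRoot.eC_eD c).2, smul_zero, add_zero, add_zero]
  have hHO : (H : Module.End k V) * eO = eO := by
    rw [hH, add_mul, add_mul, smul_mul_assoc, smul_mul_assoc, QuadRoot.eO_eO, (QuadRoot.orth c).1,
      (QuadRoot.orth c).2.2.1, smul_zero, smul_zero, add_zero, zero_add]
  have hHD : (H : Module.End k V) * eD = ω⁻¹ • eD := by
    rw [hH, add_mul, add_mul, smul_mul_assoc, smul_mul_assoc, QuadRoot.eD_eD, (QuadRoot.orth c).2.2.2,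
      (QuadRoot.eC_eD c).1, smul_zero, zero_add, zero_add]
  have e1 : (H : Module.End k V) * d = ω • d := by
    rw [← (QuadRoot.z_eC c).1, ← mul_assoc, hHC, smul_mul_assoc]
  have hDH : eD * (H : Module.End k V) = ω⁻¹ • eD := by
    rw [hH, mul_add, mul_add, mul_smul_comm, mul_smul_comm, QuadRoot.eD_eD, (QuadRoot.orth c).2.2.1,
      (QuadRoot.eC_eD c).2, smul_zero, zero_add, zero_add]
  have e2 : d * (H : Module.End k V) = ω⁻¹ • d := by
    rw [← (QuadRoot.z_eC c).2, mul_assoc, hDH, mul_smul_comm]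
  refine ⟨H, eC, eO, eD, c.mem D0, ?_, hsum, fun v => LinearMap.congr_fun hHC v,
    fun v => LinearMap.congr_fun hHO v, fun v => ?_, fun v => ?_, kerD, fun hne v hv hfix => ?_⟩
  · show (H : Module.End k V) * d * ((H⁻¹ : LinearMap.GeneralLinearGroup k V) : Module.End k V) = _
    rw [Units.mul_inv_eq_iff_eq_mul, smul_mul_assoc, e2, smul_smul, mul_assoc, mul_inv_cancel₀ hω, mul_one, e1]
  · rw [show (H : Module.End k V) (eD v) = ω⁻¹ • eD v from LinearMap.congr_fun hHD v, smul_smul,
      mul_inv_cancel₀ hω, one_smul]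
  · exact (QuadRoot.range_eC c).le (LinearMap.mem_range_self eC v)
  · have hD0 := kerD v hv
    have h1 : (H : Module.End k V) v = ω • eC v + eO v := by
      rw [hH, LinearMap.add_apply, LinearMap.add_apply, LinearMap.smul_apply, LinearMap.smul_apply, hD0, smul_zero,
        add_zero]
    have hC0 : eC v = 0 := by
      have hs := hsum v
      rw [hD0, add_zero] at hs
      have h2 : (ω - 1) • eC v = 0 := by
        rw [sub_smul, one_smul, sub_eq_zero]
        exact add_right_cancel ((h1.symm.trans hfix).trans hs.symm)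
      exact (smul_eq_zero.1 h2).resolve_left (sub_ne_zero.2 hne)
    rw [← c.whole_b, Module.End.mul_apply, QuadRoot.T_one_split c, LinearMap.add_apply]
    show b (eC v + eD v) = 0
    rw [hC0, hD0, add_zero, map_zero]

end Cfsg.Agent.MaxClassEss
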