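import Cfsg.Agent.Lib.MaxClassEss.CaseOneQuad
import Cfsg.Agent.Lib.CoprimeZJ.Section
import Cfsg.Agent.Lib.MaxClassEss.TorusLinear

/-!
# Case I: a torus element

`Layers.exists_torus` : some `h ∈ Aut_F(E)` normalising a quadratic root group extends to `γ ∈ Aut_F(Γ₁)`; on the
section `Ω₁ Z(E / L m)` it has the eigenvalues `λ`, `1`, `λ⁻¹`, the first on commutators with an element of
`N_S(E)`, and on `L r / L m` only the first two.
-/

set_option autoImplicit false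
set_option linter.unusedSectionVars false
set_option linter.style.haveILetI false

open Subgroup
open scoped commutatorElement IsMulCommutative Pointwise

universe u

namespace Cfsg.Agent.MaxClassEss

open Cfsg Cfsg.FusionSystem Cfsg.Agent.Fusion MaxClassPower PearlRank

variable {p n : ℕ} [hp : Fact p.Prime] {Ω : Type u} [Group Ω] {S : Subgroup Ω} [Finite S]
  {F : FusionSystem S} {E : Subgroup Ω} {M : Subgroup (MulAut E)}

theorem ex_natCast {k : Type*} [Field k] {V : Type*} [AddCommGroup V] [Module k V] {a : Module.End k V}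
    (h : a * a = 0) : ∀ j : ℕ, QuadRoot.ex ((j : k) • a) = QuadRoot.ex a ^ j := by
  intro j
  induction j with
  | zero => rw [Nat.cast_zero, zero_smul, QuadRoot.ex_zero, pow_zero]
  | succ j ih => rw [Nat.cast_succ, QuadRoot.ex_add_smul h, ih, one_smul, pow_succ]

theorem subgroup_le_gamma (hle : E.subgroupOf S ≤ twoStep S 1) (hES : E ≤ S) : E ≤ GammaOne S :=
  fun x hx => (mem_gamma (hES hx)).2 (hle (show (⟨x, hES hx⟩ : S) ∈ E.subgroupOf S from hx))

/-- The torus element `h` and its extension `γ` to `Γ₁`. -/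
structure Torus (p n m r a : ℕ) [Fact p.Prime] (F : FusionSystem S) (E : Subgroup Ω) (M : Subgroup (MulAut E))
    (zz : E) (g : MulAut E) (lam : ℕ) (h : MulAut E) (γ : MulAut (GammaOne S)) : Prop where
  layers : Layers p n m r a F E M zz g
  prim : orderOf (lam : ZMod p) = p - 1
  mem_h : h ∈ layerStab F layers.ctx.hy.hES m
  mem : γ ∈ layerStab F gamma_le m
  agree : ∀ x : E, (γ ⟨x, subgroup_le_gamma layers.ctx.hy.le layers.ctx.hy.hES x.2⟩ : Ω) = h x
  split : ∀ x : E, QuotientGroup.mk' (L S m) (incl layers.ctx.hy.hES x) ∈ omegaCentre p (imgY m layers.ctx.hy.hES) →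
    ∃ x1 x2 x3 : E, (x1 * x2 * x3)⁻¹ * x ∈ (L S m).comap (incl layers.ctx.hy.hES) ∧
      (x1 ^ lam)⁻¹ * h x1 ∈ (L S m).comap (incl layers.ctx.hy.hES) ∧
      x2⁻¹ * h x2 ∈ (L S m).comap (incl layers.ctx.hy.hES) ∧
      x3⁻¹ * h x3 ^ lam ∈ (L S m).comap (incl layers.ctx.hy.hES) ∧
      (∃ t ∈ twoStep S 1, ∃ e ∈ twoStep S 1, ⁅t, e⁆⁻¹ * incl layers.ctx.hy.hES x1 ∈ L S m)
  quadW : ∀ x : E, incl layers.ctx.hy.hES x ∈ L S r →
    (h x ^ (lam + 1))⁻¹ * (h (h x) * x ^ lam) ∈ (L S m).comap (incl layers.ctx.hy.hES)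
  rangeW : ∀ x : E, incl layers.ctx.hy.hES x ∈ L S r → ∃ t ∈ twoStep S 1, ∃ e ∈ twoStep S 1,
    ⁅t, e⁆⁻¹ * incl layers.ctx.hy.hES (x⁻¹ * h x) ∈ L S m
  moves : incl layers.ctx.hy.hES (zz⁻¹ * h zz) ∉ L S m

namespace Layers

variable {m r a : ℕ} {zz : E} {g : MulAut E} (ly : Layers p n m r a F E M zz g)

include ly

set_option maxHeartbeats 1600000 in
set_option synthInstance.maxHeartbeats 400000 in
theorem exists_torus : ∃ (lam : ℕ) (h : MulAut E) (γ : MulAut (GammaOne S)),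
    Torus p n m r a F E M zz g lam h γ := by
  have o := ly.ctx
  have w := ly.toMoved
  have hn := o.hy.h4
  have h1 := ly.one_le
  have h2 := ly.lt
  have h3 := ly.le_two
  have hp5 := w.five_le
  have hES := o.hy.hES
  have hS := o.hy.hS
  haveI := finite_of_le (S := S) hES
  haveI := finite_mulAut (S := S) hES
  set ι := incl hES
  set π := QuotientGroup.mk' (L S m) with hπ
  set V := omegaCentre p (imgY m hES) with hV
  haveI hmod : Module (ZMod p) (Additive V) := AddCommGroup.zmodModule (fun v => by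
    obtain ⟨v, rfl⟩ := Additive.ofMul.surjective v
    rw [← ofMul_pow, omegaCentre_pow, ofMul_one])
  haveI : Finite (Additive V) := Finite.of_equiv V Additive.ofMul
  haveI : FiniteDimensional (ZMod p) (Additive V) := Module.Finite.of_finite
  set K := layerStab F hES m with hKdef
  obtain ⟨ρ, hρ⟩ := exists_rep (p := p) (hP := hES) (K := K) le_rfl (V := V) (fun y hy => hy.1)
    (fun α hα x => omega_invariant hα)
  have hsec : ∀ v : Additive V, ∃ (x : E) (hx : π (ι x) ∈ V), v = Additive.ofMul ⟨π (ι x), hx⟩ := fun v => by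
    obtain ⟨v, rfl⟩ := Additive.ofMul.surjective v
    obtain ⟨x, hx⟩ := v.2.1
    have hx' : π (ι x) ∈ V := (show π (ι x) = v from hx).symm ▸ v.2
    exact ⟨x, hx', congrArg Additive.ofMul (Subtype.ext hx.symm)⟩
  have hcm : ∀ {x z : S}, ⁅x, z⁆ ∈ L S m ↔ Commute (π x) (π z) := fun {x z} => by
    rw [← commutatorElement_eq_one_iff_commute, ← map_commutatorElement]
    exact (QuotientGroup.eq_one_iff _).symm
  obtain ⟨s, hs⟩ := o.hy.c.exists_good
  have hzzp : (ι zz) ^ p ∈ L S m :=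
    L_anti (by have := hp.out.two_le; omega) (hs.pow_mem (by have := o.two_le; omega) _ w.ex.1)
  have hzV : π (ι zz) ∈ V := ⟨⟨zz, rfl⟩, by rw [← map_pow]; exact (QuotientGroup.eq_one_iff _).2 hzzp,
    by rintro _ ⟨e, rfl⟩; exact hcm.1 w.comm_zz⟩
  set vz : Additive V := Additive.ofMul ⟨π (ι zz), hzV⟩ with hvz
  have hWV : ∀ x : E, ι x ∈ L S r → π (ι x) ∈ V := fun x hx => by
    obtain ⟨-, hxp, hxc⟩ := (ly.centre _).1 hx
    refine ⟨⟨x, rfl⟩, by rw [← map_pow]; exact (QuotientGroup.eq_one_iff _).2 hxp, ?_⟩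
    rintro _ ⟨e, rfl⟩
    exact hcm.1 (hxc _ (o.hy.le e.2))
  -- elements fixing `vz` lie in `M`
  have hfix : ∀ α : K, (ρ α : Module.End (ZMod p) (Additive V)) vz = vz → (α : MulAut E) ∈ M := by
    intro α h
    rw [hvz, hρ] at h
    have h' : π (ι ((α : MulAut E) zz)) = π (ι zz) := congrArg Subtype.val (Additive.ofMul.injective h)
    refine o.low (w.stab_pred α.2 ?_)
    rw [map_mul, map_inv]
    exact QuotientGroup.eq.1 h'.symm
  have hkerM : ∀ α : K, ρ α = 1 → (α : MulAut E) ∈ M := fun α h => hfix α (by rw [h]; rfl)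
  have hinnK : ∀ β ∈ Cfsg.Inn E, β ∈ K := fun β hβ => autS_le_layerStab hES m (inn_le_autInducedBy hES hβ)
  have hinn : ∀ α : K, (α : MulAut E) ∈ Cfsg.Inn E → ρ α = 1 := by
    rintro α ⟨e, he⟩
    refine Units.ext (LinearMap.ext fun v => ?_)
    obtain ⟨x, hx, rfl⟩ := hsec v
    rw [hρ]
    refine congrArg Additive.ofMul (Subtype.ext ?_)
    show π (ι ((α : MulAut E) x)) = π (ι x)
    rw [← he, MulAut.conj_apply, map_mul, map_mul, map_mul, map_mul, map_inv, map_inv]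
    exact mul_inv_eq_iff_eq_mul.2 (hx.2.2 _ ⟨e, rfl⟩).eq
  have hgK : g ∈ K := w.mem
  have hkerI : ∀ α : K, ρ α = 1 → (∃ k, (α : MulAut E) ^ p ^ k = 1) → (α : MulAut E) ∈ Cfsg.Inn E := by
    intro α hα hk
    by_contra hI
    exact w.not_mem (o.se.conj_mem _ (hkerM α hα) hI hk g w.mem.1 (hkerM (⟨g, hgK⟩ * α * ⟨g, hgK⟩⁻¹)
      (by rw [map_mul, map_mul, map_inv, hα, mul_one, mul_inv_cancel])))
  -- `Aut_S(E)` is a Sylow subgroup of `K`
  have hTK : autInducedBy S E ≤ K := autS_le_layerStab hES m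
  have hTsyl : IsSylowIn p (autInducedBy S E) K := by
    have hA := (isFullyAutomized_iff.1 (fullyAutomized_of_fullyNormalized hS o.hy.hF o.hy.hE.2.1)).2
    exact ⟨hTK, hA.2.1, fun C h1 h2 h3 => hA.2.2 C h1 (h2.trans (layerStab_le hES m)) h3⟩
  -- a quadratic element
  obtain ⟨y, hyN, hyE, hyq⟩ := ly.exists_quad
  set cy : K := ⟨normConj S E ⟨y, hyN⟩, hTK (Resist.normConj_mem F hES _).1⟩ with hcy
  have hcyapp : ∀ x : E, ι ((cy : MulAut E) x) = y * ι x * y⁻¹ := fun x => normConj_apply_incl hES _ x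
  set N0 : Module.End (ZMod p) (Additive V) := (ρ cy : Module.End (ZMod p) (Additive V)) - 1 with hN0
  have hN0app : ∀ (x : E) (hx : π (ι x) ∈ V),
      ∃ (hx' : π (ι ((cy : MulAut E) x * x⁻¹)) ∈ V), N0 (Additive.ofMul ⟨π (ι x), hx⟩) = Additive.ofMul ⟨_, hx'⟩ := by
    intro x hx
    have h1' : π (ι ((cy : MulAut E) x * x⁻¹)) ∈ V := by
      rw [map_mul, map_mul, map_inv, map_inv]
      exact mul_mem (omega_invariant cy.2 hx) (inv_mem hx)
    refine ⟨h1', ?_⟩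
    rw [hN0, LinearMap.sub_apply, Module.End.one_apply, hρ, sub_eq_add_neg]
    refine congrArg Additive.ofMul (Subtype.ext ?_)
    show π (ι ((cy : MulAut E) x)) * (π (ι x))⁻¹ = π (ι ((cy : MulAut E) x * x⁻¹))
    rw [map_mul, map_mul, map_inv, map_inv]
  have hN0sq : N0 * N0 = 0 := LinearMap.ext fun v => by
    obtain ⟨x, hx, rfl⟩ := hsec v
    obtain ⟨hx', e1⟩ := hN0app x hx
    obtain ⟨hx'', e2⟩ := hN0app _ hx'
    rw [Module.End.mul_apply, e1, e2]
    refine congrArg Additive.ofMul (Subtype.ext ?_)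
    have e : ι ((cy : MulAut E) x * x⁻¹) = ⁅y, ι x⁆ := by rw [map_mul, map_inv, hcyapp, commutatorElement_def]
    show π (ι ((cy : MulAut E) ((cy : MulAut E) x * x⁻¹) * ((cy : MulAut E) x * x⁻¹)⁻¹)) = 1
    rw [map_mul ι, map_inv ι, hcyapp, e]
    exact (QuotientGroup.eq_one_iff _).2 (hyq x hx)
  have hρcy : ρ cy = QuadRoot.ex N0 := Units.ext (by rw [QuadRoot.coe_ex hN0sq, hN0, add_sub_cancel])
  set G1 := ρ.range
  have hInG : QuadRoot.InG G1 N0 := ⟨hN0sq, fun c => ⟨cy ^ c.val, by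
    rw [map_pow, hρcy, ← ex_natCast hN0sq, ZMod.natCast_zmod_val]⟩⟩
  have hN0ne : N0 ≠ 0 := fun h0 => hyE (by
    have h := hρcy
    rw [h0, QuadRoot.ex_zero] at h
    obtain ⟨k, hk⟩ := isPGroup_autInducedBy hS ⟨_, (Resist.normConj_mem F hES ⟨y, hyN⟩).1⟩
    exact Resist.mem_of_inn o.hy.hE (hkerI cy h ⟨k, congrArg Subtype.val hk⟩))
  obtain ⟨a1, ha1⟩ := QuadRoot.Dmin.exists_of_ne_bot ⟨N0, hInG, hN0ne⟩
  -- conjugate into `Aut_S(E)`
  have ha1p : QuadRoot.ex a1 ^ p = 1 := by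
    rw [← ex_natCast ha1.inG.sq, ZMod.natCast_self, zero_smul, QuadRoot.ex_zero]
  obtain ⟨x1, hx1, k1, hk1⟩ := HallHigman.exists_pElement_preimage ρ.rangeRestrict ρ.rangeRestrict_surjective
    (x := ⟨QuadRoot.ex a1, ha1.inG.ex_mem⟩) ⟨1, Subtype.ext (by rw [pow_one]; exact ha1p)⟩
  have hxp : IsPGroup p (zpowers (x1 : MulAut E)) := by
    rintro ⟨z, hz⟩
    obtain ⟨i, rfl⟩ := mem_zpowers_iff.1 hz
    refine ⟨k1, Subtype.ext ?_⟩
    show ((x1 : MulAut E) ^ i) ^ p ^ k1 = 1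
    rw [← zpow_natCast, zpow_comm, zpow_natCast, show (x1 : MulAut E) ^ p ^ k1 = 1 from congrArg Subtype.val hk1,
      one_zpow]
  obtain ⟨q, hq, hqx⟩ := hTsyl.exists_conj_le hxp (zpowers_le.2 x1.2)
  obtain ⟨⟨t, htN⟩, hte⟩ := (range_normConj S E).ge (hqx _ (mem_zpowers _))
  set cT : K := ⟨normConj S E ⟨t, htN⟩, hTK (Resist.normConj_mem F hES _).1⟩ with hcT
  set d := QuadRoot.cj (ρ ⟨q, hq⟩) a1 with hd
  have hdm : QuadRoot.Dmin G1 d := ha1.conj ⟨_, rfl⟩
  have hρT : ρ cT = QuadRoot.ex d := by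
    rw [hd, ← QuadRoot.conj_ex _ ha1.inG.sq, show cT = ⟨q, hq⟩ * x1 * ⟨q, hq⟩⁻¹ from Subtype.ext hte, map_mul,
      map_mul, map_inv, show ρ x1 = QuadRoot.ex a1 from congrArg Subtype.val hx1]
  have hcTI : (cT : MulAut E) ∉ Cfsg.Inn E := fun h => hdm.ne
    (QuadRoot.ex_inj hdm.inG.sq (by simp) (by rw [← hρT, hinn _ h, QuadRoot.ex_zero]))
  obtain ⟨kT, hkT⟩ : ∃ k, (cT : MulAut E) ^ p ^ k = 1 := by
    obtain ⟨k, hk⟩ := isPGroup_autInducedBy hS ⟨_, (Resist.normConj_mem F hES ⟨t, htN⟩).1⟩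
    exact ⟨k, congrArg Subtype.val hk⟩
  have hcTM : (cT : MulAut E) ∈ M := o.se.autS (Resist.normConj_mem F hES _).1
  set ts : S := ⟨t, htN.1⟩
  have htG : ts ∈ twoStep S 1 := w.normalizer_le htN
  have htE : t ∉ E := fun h => hcTI ⟨⟨t, h⟩, MulEquiv.ext fun _ => Subtype.ext rfl⟩
  have hcTapp : ∀ x : E, ι ((cT : MulAut E) x) = ts * ι x * ts⁻¹ := fun x => normConj_apply_incl hES _ x
  set b := QuadRoot.cj (ρ ⟨g, hgK⟩) d with hb
  have hbm : QuadRoot.Dmin G1 b := hdm.conj ⟨_, rfl⟩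
  set cB : K := ⟨g, hgK⟩ * cT * ⟨g, hgK⟩⁻¹ with hcB
  have hρB : ρ cB = QuadRoot.ex b := by
    rw [hb, ← QuadRoot.conj_ex _ hdm.inG.sq, hcB, map_mul, map_mul, map_inv, hρT]
  have hcBM : (cB : MulAut E) ∉ M := fun h => w.not_mem (o.se.conj_mem _ hcTM hcTI ⟨kT, hkT⟩ g w.mem.1 h)
  have hlift : ∀ α : K, ρ α = QuadRoot.ex b → (α : MulAut E) ∉ M := by
    intro α hα hM
    have h' := hkerM (α⁻¹ * cB) (by rw [map_mul, map_inv, hα, hρB, inv_mul_cancel])
    exact hcBM (by simpa using mul_mem hM h')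
  have hk2 : ringChar (ZMod p) ≠ 2 := by rw [ZMod.ringChar_zmod_n]; omega
  have hk3 : Nat.card (ZMod p) ≠ 3 := by rw [Nat.card_zmod]; omega
  have hopp : QuadRoot.Opp d b := by
    by_contra hno
    have hQ := CoprimeZJ.isPGroup_of_unipotent (QuadRoot.unipotent_sup hk2 hk3 hdm hbm hno)
    set Q := sameActionSubgroup G1 (QuadRoot.ex d) ⊔ sameActionSubgroup G1 (QuadRoot.ex b)
    let Q' : Subgroup K := Q.comap ρ
    have hcTQ : cT ∈ Q' := mem_comap.2 (hρT ▸ mem_sup_left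
      (QuadRoot.ex_mem_sameActionSubgroup hdm (QuadRoot.SameClass.refl hdm)))
    have hcTp : IsPGroup p (zpowers (⟨cT, hcTQ⟩ : Q')) := by
      rintro ⟨z, hz⟩
      obtain ⟨i, rfl⟩ := mem_zpowers_iff.1 hz
      refine ⟨kT, Subtype.ext (Subtype.ext (Subtype.ext ?_))⟩
      show ((cT : MulAut E) ^ i) ^ p ^ kT = 1
      rw [← zpow_natCast, zpow_comm, zpow_natCast, hkT, one_zpow]
    obtain ⟨P, hP⟩ := hcTp.exists_le_sylow
    have hPM := o.se.pgroup_le (((P : Subgroup Q').map Q'.subtype).map K.subtype)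
      (fun x hx => by obtain ⟨x', -, rfl⟩ := hx; exact x'.2.1) ((P.isPGroup'.map _).map _) _
      (mem_map_of_mem _ (mem_map_of_mem _ (hP (mem_zpowers _)))) hcTM hcTI
    -- the Sylow subgroup covers the `p`-group
    let f : Q' →* Q := (ρ.comp Q'.subtype).codRestrict Q fun x => x.2
    have hf : Function.Surjective f := fun z => by
      have hzG : (z : LinearMap.GeneralLinearGroup (ZMod p) (Additive V)) ∈ G1 := sup_le
        (QuadRoot.sameActionSubgroup_le hdm) (QuadRoot.sameActionSubgroup_le hbm) z.2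
      obtain ⟨x, hx⟩ := hzG
      exact ⟨⟨x, mem_comap.2 (hx.symm ▸ z.2)⟩, Subtype.ext hx⟩
    have htop : (P : Subgroup Q').map f = ⊤ := by
      have h := (P.mapSurjective hf).is_maximal' (hQ.to_subgroup ⊤) le_top
      rw [Sylow.coe_mapSurjective] at h
      exact h.symm
    have hbQ : QuadRoot.ex b ∈ Q := mem_sup_right
      (QuadRoot.ex_mem_sameActionSubgroup hbm (QuadRoot.SameClass.refl hbm))
    obtain ⟨x, hx, hxe⟩ := (htop.ge (mem_top (⟨_, hbQ⟩ : Q)) : (⟨_, hbQ⟩ : Q) ∈ (P : Subgroup Q').map f)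
    exact hlift x (congrArg Subtype.val hxe) (hPM (mem_map_of_mem _ (mem_map_of_mem _ hx)))
  -- the eigenvalue
  obtain ⟨ωu, hωu⟩ := IsCyclic.exists_generator (α := (ZMod p)ˣ)
  set ω : ZMod p := (ωu : ZMod p) with hω
  have hω0 : ω ≠ 0 := ωu.ne_zero
  have hωord : orderOf ω = p - 1 := by
    rw [hω, orderOf_units, orderOf_eq_card_of_forall_mem_zpowers hωu, Nat.card_eq_fintype_card, ZMod.card_units]
  set lam := ω.val with hlam
  have hlamω : ((lam : ℕ) : ZMod p) = ω := ZMod.natCast_zmod_val ω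
  obtain ⟨H, eC, eO, eD, hT⟩ := exists_torusData hk2 hk3 hdm hbm hopp hω0
  obtain ⟨h0, hh0⟩ := hT.memG
  -- correct `h0` so that it normalises `Inn⟨c_t⟩`
  set Q : Subgroup (MulAut E) := ((zpowers (ρ cT)).comap ρ).map K.subtype with hQ
  have hQmem : ∀ α : K, (α : MulAut E) ∈ Q ↔ ρ α ∈ zpowers (ρ cT) := fun α =>
    mem_map_iff_mem K.subtype_injective
  set R := autInducedBy S E ⊓ Q with hR
  have hTp : IsPGroup p (autInducedBy S E) := isPGroup_autInducedBy hS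
  have hRsyl : IsSylowIn p R Q := by
    refine ⟨inf_le_right, hTp.to_le inf_le_left, fun C hRC hCQ hC => le_antisymm (fun x hx => ?_) hRC⟩
    refine ⟨?_, hCQ hx⟩
    have hxK : x ∈ K := map_subtype_le _ (hCQ hx)
    obtain ⟨i, hi⟩ := mem_zpowers_iff.1 ((hQmem ⟨x, hxK⟩).1 (hCQ hx))
    have hcC : (cT : MulAut E) ∈ C := hRC ⟨(Resist.normConj_mem F hES _).1, (hQmem cT).2 (mem_zpowers _)⟩
    have hx' : ((cT ^ i)⁻¹ * ⟨x, hxK⟩ : K).1 ∈ C := mul_mem (inv_mem (zpow_mem hcC i)) hx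
    have hI := hkerI ((cT ^ i)⁻¹ * ⟨x, hxK⟩) (by rw [map_mul, map_inv, map_zpow, hi, inv_mul_cancel]) (by
      obtain ⟨k, hk⟩ := hC ⟨_, hx'⟩
      exact ⟨k, congrArg Subtype.val hk⟩)
    have := mul_mem (zpow_mem (Resist.normConj_mem F hES ⟨t, htN⟩).1 i) (inn_le_autInducedBy hES hI)
    simpa [hcT] using this
  have hconjcT : ρ h0 * ρ cT * (ρ h0)⁻¹ ∈ zpowers (ρ cT) := by
    rw [hρT, QuadRoot.conj_ex _ hdm.inG.sq, hh0, hT.conj, ← ZMod.natCast_zmod_val (ω * ω), ex_natCast hdm.inG.sq]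
    exact pow_mem (mem_zpowers _) _
  have hQconj : ∀ x ∈ Q, (h0 : MulAut E) * x * (h0 : MulAut E)⁻¹ ∈ Q := by
    rintro _ ⟨x, hx, rfl⟩
    refine (hQmem (h0 * x * h0⁻¹)).2 ?_
    obtain ⟨i, hi⟩ := mem_zpowers_iff.1 hx
    rw [map_mul, map_mul, map_inv, ← hi, ← conj_zpow]
    exact zpow_mem hconjcT i
  obtain ⟨q2, hq2, hq2c⟩ := hRsyl.exists_conj_le (H := R.map (MulAut.conj (h0 : MulAut E)).toMonoidHom)
    ((hTp.to_le inf_le_left).map _) (by rintro _ ⟨x, hx, rfl⟩; exact hQconj x hx.2)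
  have hq2K : q2 ∈ K := map_subtype_le _ hq2
  obtain ⟨i2, hi2⟩ := mem_zpowers_iff.1 ((hQmem ⟨q2, hq2K⟩).1 hq2)
  have hcR : ∀ i : ℤ, (cT : MulAut E) ^ i ∈ R := fun i =>
    zpow_mem (show (cT : MulAut E) ∈ R from ⟨(Resist.normConj_mem F hES _).1, (hQmem cT).2 (mem_zpowers _)⟩) i
  set hK' : K := (cT ^ i2)⁻¹ * ⟨q2, hq2K⟩ * h0 with hhK
  have hρh : ρ hK' = ρ h0 := by rw [hhK, map_mul, map_mul, map_inv, map_zpow, hi2, inv_mul_cancel, one_mul]
  have hnorm : ∀ x ∈ R, (hK' : MulAut E) * x * (hK' : MulAut E)⁻¹ ∈ R := by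
    intro x hx
    have h := hq2c _ (mem_map_of_mem _ hx)
    simp only [MulEquiv.coe_toMonoidHom, MulAut.conj_apply] at h
    have := mul_mem (mul_mem (inv_mem (hcR i2)) h) (hcR i2)
    have e : (hK' : MulAut E) * x * (hK' : MulAut E)⁻¹ =
        ((cT : MulAut E) ^ i2)⁻¹ * (q2 * ((h0 : MulAut E) * x * (h0 : MulAut E)⁻¹) * q2⁻¹) * (cT : MulAut E) ^ i2 := by
      simp only [hhK, Subgroup.coe_mul, Subgroup.coe_inv, Subgroup.coe_zpow]
      group
    rw [e]
    exact this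
  set h : MulAut E := (hK' : MulAut E) with hhdef
  -- the extension
  have hEG : E ≤ GammaOne S := subgroup_le_gamma o.hy.le hES
  have htN' : zpowers t ≤ normalizerIn S E := zpowers_le.2 htN
  obtain ⟨f, hf, hfe⟩ := FusionChain.exists_extension (receptive_of_fullyNormalized hS o.hy.hF o.hy.hE.2.1)
    hK'.2.1 htN' fun z hz => by
      obtain ⟨i, rfl⟩ := mem_zpowers_iff.1 hz
      have e : normConj S E ⟨t ^ i, htN' hz⟩ = (cT : MulAut E) ^ i := by
        rw [hcT, ← map_zpow]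
        congr 1
      rw [e]
      exact (hnorm _ (hcR i)).1
  have hlt : E < E ⊔ zpowers t := left_lt_sup.2 fun h => htE (h (mem_zpowers t))
  have hPG : E ⊔ zpowers t ≤ GammaOne S := sup_le hEG (zpowers_le.2 ((mem_gamma htN.1).2 htG))
  obtain ⟨γ, hγ, hγf⟩ := o.hy.ext_gamma hf hPG (by
    haveI := finite_of_le (S := S) (hPG.trans gamma_le)
    exact lt_of_le_of_ne (Subgroup.card_le_of_le hlt.le) fun e => hlt.ne (Subgroup.eq_of_le_of_card_ge hlt.le e.ge))
  have hagree : ∀ x : E, (γ ⟨x, hEG x.2⟩ : Ω) = h x := fun x => by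
    rw [← autFn_apply γ (hEG x.2), hγf x (mem_sup_left x.2), hfe x x.2, autFn_apply h x.2]
  have hγK : γ ∈ layerStab F gamma_le m := by
    refine ⟨hγ, fun i hi x hx => ?_⟩
    obtain ⟨y', hy'⟩ : ∃ y' : E, ι y' = incl gamma_le x := ⟨⟨_, o.layer (L_anti hi hx)⟩, rfl⟩
    have h' := hK'.2.2 i hi y' (hy'.symm ▸ hx)
    have e : incl gamma_le (x⁻¹ * γ x) = ι (y'⁻¹ * h y') := by
      have hx' : x = ⟨y', hEG y'.2⟩ := Subtype.ext (congrArg Subtype.val hy' : (y' : Ω) = x).symm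
      refine Subtype.ext ?_
      show ((x⁻¹ * γ x : GammaOne S) : Ω) = ((y'⁻¹ * h y' : E) : Ω)
      rw [Subgroup.coe_mul, Subgroup.coe_mul, Subgroup.coe_inv, Subgroup.coe_inv, hx', hagree]
    rw [e]
    exact h'
  -- eigenvectors
  set Hv : Module.End (ZMod p) (Additive V) := H.val with hHv0
  have hval : ∀ {x : E} (hx : π (ι x) ∈ V), Hv (Additive.ofMul ⟨_, hx⟩) =
      Additive.ofMul ⟨π (ι (h x)), omega_invariant hK'.2 hx⟩ := fun {x} hx => by
    rw [hHv0, ← hh0, ← hρh, hρ]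
  have hsmul : ∀ (k : ℕ) (v : V), ((k : ℕ) : ZMod p) • Additive.ofMul v = Additive.ofMul (v ^ k) := fun k v => by
    rw [Nat.cast_smul_eq_nsmul, ofMul_pow]
  have hmemL : ∀ x z : E, π (ι x) = π (ι z) → x⁻¹ * z ∈ (L S m).comap ι := fun x z e => by
    rw [mem_comap, map_mul, map_inv]; exact QuotientGroup.eq.1 e
  have hdrange : ∀ v : Additive V, ∀ (x : E) (hx : π (ι x) ∈ V), d v = Additive.ofMul ⟨_, hx⟩ →
      ∃ e ∈ twoStep S 1, ⁅ts, e⁆⁻¹ * ι x ∈ L S m := by
    intro v x hx e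
    obtain ⟨z, hz, rfl⟩ := hsec v
    refine ⟨ι z, o.hy.le z.2, ?_⟩
    have e' : d (Additive.ofMul ⟨π (ι z), hz⟩) =
        (ρ cT : Module.End (ZMod p) (Additive V)) (Additive.ofMul ⟨π (ι z), hz⟩) - Additive.ofMul ⟨π (ι z), hz⟩ := by
      rw [hρT, QuadRoot.coe_ex hdm.inG.sq, LinearMap.add_apply, Module.End.one_apply, add_sub_cancel_left]
    rw [e', hρ, sub_eq_add_neg] at e
    have e'' : π (ι ((cT : MulAut E) z)) * (π (ι z))⁻¹ = π (ι x) := congrArg (fun v => (Additive.toMul v).1) e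
    rw [hcTapp, ← map_inv, ← map_mul, ← commutatorElement_def] at e''
    exact QuotientGroup.eq.1 e''
  have hker : ∀ x : E, ∀ hx : ι x ∈ L S r, d (Additive.ofMul ⟨π (ι x), hWV x hx⟩) = 0 := by
    intro x hx
    have e : d (Additive.ofMul ⟨π (ι x), hWV x hx⟩) = (ρ cT : Module.End (ZMod p) (Additive V))
        (Additive.ofMul ⟨π (ι x), hWV x hx⟩) - Additive.ofMul ⟨π (ι x), hWV x hx⟩ := by
      rw [hρT, QuadRoot.coe_ex hdm.inG.sq, LinearMap.add_apply, Module.End.one_apply, add_sub_cancel_left]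
    rw [e, hρ, sub_eq_zero]
    refine congrArg Additive.ofMul (Subtype.ext ?_)
    show π (ι ((cT : MulAut E) x)) = π (ι x)
    rw [hcTapp, map_mul, map_mul, map_inv]
    exact mul_inv_eq_iff_eq_mul.2 (hcm.1 (((ly.centre _).1 hx).2.2 ts htG)).eq
  refine ⟨lam, h, γ, ly, by rw [hlamω, hωord], hK'.2, hγK, hagree, ?_, ?_, ?_, ?_⟩
  · intro x hx
    set v := Additive.ofMul (⟨π (ι x), hx⟩ : V)
    obtain ⟨x1, hx1, e1⟩ := hsec (eC v)
    obtain ⟨x2, hx2, e2⟩ := hsec (eO v)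
    obtain ⟨x3, hx3, e3⟩ := hsec (eD v)
    refine ⟨x1, x2, x3, hmemL _ _ ?_, hmemL _ _ ?_, hmemL _ _ ?_, hmemL _ _ ?_, ?_⟩
    · have e := hT.sum v
      rw [e1, e2, e3] at e
      rw [map_mul, map_mul, map_mul, map_mul]
      exact congrArg (fun v => (Additive.toMul v).1) e
    · have e := hT.hC v
      rw [e1, hval, ← hlamω, hsmul] at e
      rw [map_pow, map_pow]
      exact (congrArg (fun v => (Additive.toMul v).1) e).symm
    · have e := hT.hO v
      rw [e2, hval] at e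
      exact (congrArg (fun v => (Additive.toMul v).1) e).symm
    · have e := hT.hD v
      rw [e3, hval, ← hlamω, hsmul] at e
      rw [map_pow, map_pow]
      exact (congrArg (fun v => (Additive.toMul v).1) e).symm
    · obtain ⟨z, hz⟩ := hT.range v
      obtain ⟨e, he, hee⟩ := hdrange z x1 hx1 (hz.trans e1)
      exact ⟨ts, htG, e, he, hee⟩
  · intro x hx
    set v := Additive.ofMul (⟨π (ι x), hWV x hx⟩ : V)
    have hD := hT.kerD v (hker x hx)
    have hC : eC v + eO v = v := by simpa [hD] using hT.sum v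
    have hHv : Hv v = ω • eC v + eO v := by
      conv_lhs => rw [← hC]
      rw [map_add, hT.hC, hT.hO]
    have hHH : Hv (Hv v) + ω • v = (ω + 1) • Hv v := by
      rw [hHv, map_add, map_smul, hT.hC, hT.hO, show ω • v = ω • (eC v + eO v) by rw [hC]]
      module
    refine hmemL _ _ ?_
    rw [hval, hval, ← hlamω, hsmul, ← Nat.cast_one, ← Nat.cast_add, hsmul] at hHH
    rw [map_mul, map_mul, map_pow, map_pow, map_pow, map_pow]
    exact (congrArg (fun v => (Additive.toMul v).1) hHH).symm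
  · intro x hx
    set v := Additive.ofMul (⟨π (ι x), hWV x hx⟩ : V)
    have hD := hT.kerD v (hker x hx)
    obtain ⟨z, hz⟩ := hT.range v
    have hdiff : π (ι (x⁻¹ * h x)) ∈ V := by
      rw [map_mul, map_mul, map_inv, map_inv]
      exact mul_mem (inv_mem (hWV x hx)) (omega_invariant hK'.2 (hWV x hx))
    have e : d ((ω - 1) • z) = Additive.ofMul ⟨π (ι (x⁻¹ * h x)), hdiff⟩ := by
      have e1 : (ω - 1) • eC v = Hv v - v := by
        have hC : eC v + eO v = v := by simpa [hD] using hT.sum v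
        have hHv : Hv v = ω • eC v + eO v := by
          conv_lhs => rw [← hC]
          rw [map_add, hT.hC, hT.hO]
        rw [show Hv v - v = Hv v - (eC v + eO v) by rw [hC], hHv]
        module
      rw [map_smul, hz, e1, hval, sub_eq_add_neg, add_comm]
      refine congrArg Additive.ofMul (Subtype.ext ?_)
      show (π (ι x))⁻¹ * π (ι (h x)) = π (ι (x⁻¹ * h x))
      rw [map_mul, map_mul, map_inv, map_inv]
    obtain ⟨e', he', hee⟩ := hdrange _ _ hdiff e
    exact ⟨ts, htG, e', he', hee⟩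
  · intro hz
    have hzr : ι zz ∈ L S r := L_anti (by omega) w.ex.1
    have hfz : Hv vz = vz := by
      rw [hvz, hval]
      refine congrArg Additive.ofMul (Subtype.ext ?_)
      rw [map_mul, map_inv] at hz
      exact (QuotientGroup.eq.2 hz).symm
    have hne : ω ≠ 1 := fun h' => by rw [h', orderOf_one] at hωord; omega
    refine hlift cB hρB (hfix cB ?_)
    rw [hρB, QuadRoot.coe_ex hbm.inG.sq, LinearMap.add_apply, Module.End.one_apply,
      hT.fix hne vz (hker zz hzr) hfz, add_zero]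

end Layers

end Cfsg.Agent.MaxClassEss
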