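import Cfsg.Agent.Lib.MaxClassEss.Basic

/-!
# Exceptional groups: preparations for the case that the centre is moved

* `pair_level` : elements in complementary layers of `Γ₁` do not commute;
* `secondCenter` : the centre of `Γ₁` modulo `L_{n-2}`;
* `exists_torus` : two opposite transvections give an involution;
* `false_of_inverts` : no automorphism of an exceptional group is trivial on `L_{n-4} / L_{n-2}` and inverts `L_{n-2}`.
-/

set_option autoImplicit false
set_option linter.unusedSectionVars false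

open Subgroup
open scoped commutatorElement

universe u

namespace Cfsg.Agent.MaxClassEss

open MaxClassPower PearlRank
open PearlRank.Pc (D D_mem)

/-- Two opposite transvections generate an element inverting the moved plane. -/
theorem exists_torus {H : Type*} [Group H] {A B : MulAut H} {z u : H} (hzc : ∀ h, Commute z h)
    (huc : ∀ h, Commute u h) (hAz : A z = z) (hAu : A u = z * u) (hBu : B u = u) (hBz : B z = u * z)
    (hA : ∀ e, ∃ m : ℤ, A e = z ^ m * e) (hB : ∀ e, ∃ m : ℤ, B e = u ^ m * e) :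
    ∃ h ∈ Subgroup.closure ({A, B} : Set (MulAut H)), h z = z⁻¹ ∧ h u = u⁻¹ ∧ h * h = 1 ∧ h * A = A * h ∧
      ∀ e, ∃ m l : ℤ, h e = z ^ m * (u ^ l * e) := by
  set R := A * B⁻¹ * A
  have hBi : ∀ {a b : H}, B a = b → B⁻¹ b = a := fun {a b} e => by rw [← e, MulAut.inv_apply_self]
  have hBiu : B⁻¹ u = u := hBi hBu
  have hBiz : B⁻¹ z = u⁻¹ * z := hBi (by rw [map_mul, map_inv, hBu, hBz, inv_mul_cancel_left])
  have hRu : R u = z := by
    show A (B⁻¹ (A u)) = z
    rw [hAu, map_mul, hBiz, hBiu, (huc z).inv_left.eq, inv_mul_cancel_right, hAz]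
  have hRz : R z = u⁻¹ := by
    show A (B⁻¹ (A z)) = u⁻¹
    rw [hAz, hBiz, map_mul, map_inv, hAu, hAz, mul_inv_rev, mul_assoc, inv_mul_cancel, mul_one]
  have hhu : (R * R) u = u⁻¹ := by rw [MulAut.mul_apply, hRu, hRz]
  have hhz : (R * R) z = z⁻¹ := by rw [MulAut.mul_apply, hRz, map_inv, hRu]
  have hzl : ∀ (i : ℤ) (a b : H), z ^ i * (a * b) = a * (z ^ i * b) := fun i a b =>
    ((hzc a).zpow_left i).left_comm b
  -- every element is a product of powers of `z`, `u` and a fixed point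
  have hdec : ∀ e, ∃ (α β : ℤ) (k : H), A k = k ∧ B k = k ∧ e = z ^ α * (u ^ β * k) := by
    intro e
    obtain ⟨β, hβ⟩ := hA e
    obtain ⟨α, hα⟩ := hB e
    refine ⟨α, β, u ^ (-β) * (z ^ (-α) * e), ?_, ?_, ?_⟩
    · rw [map_mul, map_mul, map_zpow, map_zpow, hAu, hAz, hβ, (hzc u).mul_zpow, mul_assoc (z ^ (-β)),
        hzl (-β) (u ^ (-β)), hzl (-β) (z ^ (-α)), zpow_neg z β, inv_mul_cancel_left]
    · rw [map_mul, map_mul, map_zpow, map_zpow, hBu, hBz, hα, (huc z).mul_zpow, mul_assoc (u ^ (-α)),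
        hzl (-α) (u ^ α), zpow_neg u α, inv_mul_cancel_left]
    · rw [zpow_neg u β, mul_inv_cancel_left, zpow_neg, mul_inv_cancel_left]
  have hfix : ∀ k, A k = k → B k = k → (R * R) k = k := fun k h1 h2 => by
    have : R k = k := by simp only [R, MulAut.mul_apply, h1, hBi h2]
    rw [MulAut.mul_apply, this, this]
  have hmem : R ∈ Subgroup.closure ({A, B} : Set (MulAut H)) :=
    mul_mem (mul_mem (subset_closure (Or.inl rfl)) (inv_mem (subset_closure (Or.inr rfl))))
      (subset_closure (Or.inl rfl))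
  refine ⟨R * R, mul_mem hmem hmem, hhz, hhu, MulEquiv.ext fun e => ?_, MulEquiv.ext fun e => ?_, fun e => ?_⟩
  · obtain ⟨α, β, k, h1, h2, rfl⟩ := hdec e
    rw [MulAut.mul_apply, MulAut.one_apply]
    simp only [map_mul (R * R), map_zpow (R * R), map_inv (R * R), hhz, hhu, hfix k h1 h2, inv_inv]
  · obtain ⟨α, β, k, h1, h2, rfl⟩ := hdec e
    show (R * R) (A _) = A ((R * R) _)
    simp only [map_mul (R * R), map_zpow (R * R), map_mul A, map_zpow A, map_inv A, hAz, hAu,
      hhz, hhu, hfix k h1 h2, h1, mul_inv_rev]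
    rw [((hzc u).inv_inv).eq]
  · obtain ⟨α, β, k, h1, h2, rfl⟩ := hdec e
    refine ⟨-α + -α, -β + -β, ?_⟩
    simp only [map_mul (R * R), map_zpow (R * R), hhz, hhu, hfix k h1 h2]
    rw [← hzl α (u ^ (-β + -β)), zpow_add, zpow_add, inv_zpow', inv_zpow']
    group

variable {X : Type u} [Group X]

/-- The elements of `Γ₁` central in it modulo `L_{n-2}`. -/
def secondCenter (X : Type u) [Group X] (n : ℕ) : Subgroup X :=
  twoStep X 1 ⊓ (centralizer (((twoStep X 1).map (QuotientGroup.mk' (L X (n - 2)))) :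
    Set (X ⧸ L X (n - 2)))).comap (QuotientGroup.mk' (L X (n - 2)))

theorem mem_secondCenter {n : ℕ} {w : X} :
    w ∈ secondCenter X n ↔ w ∈ twoStep X 1 ∧ ∀ y ∈ twoStep X 1, ⁅w, y⁆ ∈ L X (n - 2) := by
  rw [secondCenter, mem_inf, mem_comap, mem_centralizer_iff]
  refine and_congr_right fun _ => ⟨fun h y hy => ?_, ?_⟩
  · rw [← QuotientGroup.eq_one_iff]
    change QuotientGroup.mk' (L X (n - 2)) ⁅w, y⁆ = 1
    rw [map_commutatorElement, commutatorElement_eq_one_iff_mul_comm]
    exact (h _ (mem_map_of_mem _ hy)).symm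
  · rintro h _ ⟨y, hy, rfl⟩
    symm
    rw [← commutatorElement_eq_one_iff_mul_comm, ← map_commutatorElement]
    exact (QuotientGroup.eq_one_iff _).2 (h y hy)

variable [Finite X] {p n : ℕ} [hp : Fact p.Prime]

theorem zpowers_pow_eq {g : X} (hg : g ^ p = 1) {l : ℕ} (hl : g ^ l ≠ 1) :
    zpowers (g ^ l) = zpowers g := by
  have h1 : g ≠ 1 := fun h => hl (by rw [h, one_pow])
  refine Subgroup.eq_of_le_of_card_ge (zpowers_le.2 (pow_mem (mem_zpowers g) l)) ?_
  rw [Nat.card_zpowers, Nat.card_zpowers, orderOf_eq_prime hg h1,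
    orderOf_eq_prime (by rw [← pow_mul, mul_comm, pow_mul, hg, one_pow]) hl]

/-- A subgroup containing a non-trivial power of an element of order `p` contains the element. -/
theorem mem_of_zpow_mem {g : X} (hg : g ^ p = 1) {H : Subgroup X} {m : ℤ} (h : g ^ m ∈ H)
    (hne : g ^ m ≠ 1) : g ∈ H := by
  obtain ⟨q, hq⟩ : ∃ q : ℕ, g ^ q = g ^ m := mem_powers_iff_mem_zpowers.2 (⟨m, rfl⟩ : g ^ m ∈ zpowers g)
  rw [← hq] at h hne
  exact ((zpowers_pow_eq hg hne).ge.trans (zpowers_le.2 h)) (mem_zpowers g)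

variable (c : Mc X p n)

include c

theorem secondCenter_normal : (secondCenter X n).Normal := ⟨fun w hw g => by
  rw [mem_secondCenter] at hw ⊢
  refine ⟨(twoStep_normal 1).conj_mem w hw.1 g, fun y hy => ?_⟩
  have h := (inferInstance : (L X (n - 2)).Normal).conj_mem _ (hw.2 _ ((twoStep_normal 1).conj_mem' y hy g)) g
  rw [conjugate_commutatorElement] at h
  simpa [mul_assoc] using h⟩

theorem L_le_secondCenter (hn : 5 ≤ n) : L X (n - 4) ≤ secondCenter X n := fun w hw => by
  have hw1 : w ∈ twoStep X 1 := L_one_le_twoStep 1 (L_anti (by omega) hw)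
  exact mem_secondCenter.2 ⟨hw1, fun y hy =>
    L_anti (by omega) (comm_deep c (by omega) (i := n - 4) (j := 0) (by omega) hw hw1 (mem_L_zero y) hy (by omega))⟩

theorem L_le_of_mem {z : X} (hz : z ∈ L X (n - 2)) (h1 : z ≠ 1) : L X (n - 2) = zpowers z := by
  have h := gen_L' c (i := n - 2) (by have := c.three_le; omega) (u := z) ⟨hz, by
    rw [c.L_bot (by omega), mem_bot]; exact h1⟩
  rw [c.L_bot (by omega), bot_sup_eq] at h
  exact h.symm

theorem exists_level_gamma {u : X} (hu : u ∈ twoStep X 1) (hz : u ∉ L X (n - 2)) :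
    ∃ i, i ≤ n - 3 ∧ Ex X i u := by
  by_cases h1 : u ∈ L X 1
  · obtain ⟨i, -, hi, hiu⟩ := exists_level c h1 fun h => hz (h ▸ one_mem _)
    refine ⟨i, ?_, hiu⟩
    rcases Nat.lt_or_ge (n - 3) i with h | h
    · exact absurd (L_anti (by omega) hiu.1) hz
    · exact h
  · exact ⟨0, Nat.zero_le _, mem_L_zero u, by simpa using h1⟩

theorem pair_level (hn : 4 ≤ n) (hx : twoStep X (n - 3) ≠ twoStep X 1) {i : ℕ} (hi : i ≤ n - 4) {a b : X}
    (hag : a ∈ twoStep X 1) (ha : Ex X i a) (hb : Ex X (n - 3 - i) b) : ⁅b, a⁆ ≠ 1 := by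
  intro h
  rcases Nat.eq_zero_or_pos i with rfl | hpos
  · rw [Nat.sub_zero] at hb
    refine hx (c.twoStep_eq_of_mem (by omega) le_rfl le_rfl (by omega)
      (c.mem_twoStep_of (by omega) hb.1 hb.2 ?_) hag (by simpa using ha.2))
    rw [← commutatorElement_inv, h, inv_one]
    exact one_mem _
  · exact pair_exact c hn hx (i := n - 3 - i) (j := i) (by omega) (by omega) hpos hb ha h

/-- No automorphism of an exceptional group is trivial on `L_{n-4} / L_{n-2}` and inverts `L_{n-2}`. -/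
theorem false_of_inverts (h4 : 4 ≤ n) (hx : twoStep X (n - 3) ≠ twoStep X 1) (σ : X ≃* X)
    (h : ∀ w ∈ L X (n - 4), w⁻¹ * σ w ∈ L X (n - 2))
    (hinv : ∀ z ∈ L X (n - 2), σ z = z⁻¹) : False := by
  obtain ⟨-, h6, -, hp2⟩ := exceptional_facts c h4 hx
  obtain ⟨s, hs⟩ := c.exists_good
  -- `σ` fixes `s` modulo `Γ₁`
  obtain ⟨g, hsg⟩ : ∃ g, σ s = s * g := ⟨s⁻¹ * σ s, (mul_inv_cancel_left _ _).symm⟩
  have hg : g ∈ twoStep X 1 := by
    obtain ⟨w, hw, hw'⟩ := exists_ex c (i := n - 4) (by omega) (by omega)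
    have hv : ⁅s, w⁆ ∈ L X (n - 4) := L_anti (by omega) (comm_L_mem (k := n - 3) (by omega) (mem_L_zero s) hw)
    have e1 : σ ⁅s, w⁆ = ⁅σ s, w⁆ := by
      have hc := c.commute_of_mem (h w hw)
      rw [map_commutatorElement, show σ w = w * (w⁻¹ * σ w) by rw [mul_inv_cancel_left],
        commutatorElement_mul_right_eq_mul_conj, commutatorElement_eq_one_iff_mul_comm.2 (hc (σ s)).eq,
        mul_one, mul_inv_cancel_right]
    have e2 : ⁅g, w⁆ = s⁻¹ * (σ ⁅s, w⁆ * ⁅s, w⁆⁻¹) * s⁻¹⁻¹ := by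
      rw [e1, hsg, commutatorElement_mul_left_eq_conj_mul]
      group
    have e3 : ⁅g, w⁆ ∈ L X (n - 2) := by
      rw [e2]
      refine (inferInstance : (L X (n - 2)).Normal).conj_mem _ ?_ _
      have := (inferInstance : (L X (n - 2)).Normal).conj_mem _ (h _ hv) ⁅s, w⁆
      rwa [mul_inv_cancel_left] at this
    exact twoStep_low c (i := n - 4) (by omega) le_rfl ▸
      c.mem_twoStep_of (by omega) hw hw' (L_anti (by omega) e3)
  -- `σ` is trivial on every layer below the first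
  have key : ∀ d i, i + d = n - 3 → 1 ≤ i → ∀ w ∈ L X i, w⁻¹ * σ w ∈ L X (i + 1) := by
    intro d
    induction d with
    | zero =>
      intro i hid _ w hw
      exact L_anti (by omega) (h w (L_anti (by omega) hw))
    | succ d ih =>
      intro i hid hi w hw
      rcases Nat.eq_zero_or_pos d with rfl | hd
      · exact L_anti (by omega) (h w (L_anti (by omega) hw))
      by_contra hd'
      set v := w⁻¹ * σ w with hv
      have hvL : v ∈ L X i := mul_mem (inv_mem hw) (map_L_mem σ hw)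
      refine hs.D_sharp hi (by omega) hvL hd' ?_
      have hnorm := (inferInstance : (L X (i + 2)).Normal)
      have hsv : pairR i s ⟨v, hvL⟩ = 1 := by
        have h1 : pairR i s (⟨w, hw⟩ * ⟨v, hvL⟩) = pairR i s ⟨w, hw⟩ := by
          have e : (⟨w, hw⟩ * ⟨v, hvL⟩ : L X i) = ⟨σ w, map_L_mem σ hw⟩ :=
            Subtype.ext (mul_inv_cancel_left w (σ w))
          rw [e, pairR_apply, pairR_apply]
          have h2 := ih (i + 1) (by omega) (by omega) ⁅s, w⁆ (comm_L_mem (by omega) (mem_L_zero s) hw)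
          have h3 : pairL i ⟨σ w, map_L_mem σ hw⟩ g = 1 := (QuotientGroup.eq_one_iff _).2
            (mem_twoStep.1 ((twoStep_low c hi (by omega)).symm ▸ hg) _ (map_L_mem σ hw))
          have h4 : pairL i ⟨σ w, map_L_mem σ hw⟩ (σ s) = pairL i ⟨σ w, map_L_mem σ hw⟩ s := by
            rw [hsg, map_mul, h3, mul_one]
          rw [pairL_apply, pairL_apply] at h4
          rw [← h4, ← map_commutatorElement]
          have h5 : QuotientGroup.mk' (L X (i + 2)) (⁅s, w⁆⁻¹ * σ ⁅s, w⁆) = 1 :=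
            (QuotientGroup.eq_one_iff _).2 h2
          rwa [map_mul, map_inv, inv_mul_eq_one, eq_comm] at h5
        rw [map_mul] at h1
        exact mul_left_cancel (h1.trans (mul_one _).symm)
      have h6' := hnorm.conj_mem' _ ((QuotientGroup.eq_one_iff _).1 hsv) v
      have e : D s v = v⁻¹ * ⁅s, v⁆ * v := by simp [D, commutatorElement_def]; group
      rw [e]
      exact h6'
  obtain ⟨a, ha⟩ := exists_ex c (i := 1) le_rfl (by omega)
  obtain ⟨b, hb⟩ := exists_ex c (i := n - 4) (by omega) (by omega)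
  have hne : ⁅a, b⁆ ≠ 1 := pair_exact c h4 hx (by omega) le_rfl (by omega) ha hb
  have hab : ⁅a, b⁆ ∈ L X (n - 2) := comm_L_mem (by omega) ha.1 hb.1
  have ha' := key (n - 4) 1 (by omega) le_rfl a ha.1
  have hb' := key 1 (n - 4) (by omega) (by omega) b hb.1
  have hcm : ∀ {i j : ℕ}, n - 1 ≤ i + j + 1 → ∀ {y y' : X}, y ∈ L X i → y' ∈ L X j → Commute y y' := by
    intro i j hij y y' hy hy'
    have h := comm_L_mem (k := n - 1) hij hy hy'
    rw [c.L_bot le_rfl, mem_bot] at h
    exact commutatorElement_eq_one_iff_mul_comm.1 h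
  have e : σ ⁅a, b⁆ = ⁅a, b⁆ := by
    set a' := a⁻¹ * σ a with hadef
    set b' := b⁻¹ * σ b with hbdef
    have ea : σ a = a * a' := by rw [hadef, mul_inv_cancel_left]
    have eb : σ b = b * b' := by rw [hbdef, mul_inv_cancel_left]
    rw [map_commutatorElement, ea, eb, commutatorElement_mul_left_eq_conj_mul,
      commutatorElement_eq_one_iff_mul_comm.2 ((hcm (by omega) ha' hb.1).mul_right (hcm (by omega) ha' hb')).eq,
      mul_one, mul_inv_cancel, one_mul, commutatorElement_mul_right_eq_mul_conj,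
      commutatorElement_eq_one_iff_mul_comm.2 (hcm (by omega) ha.1 hb').eq, mul_one, mul_inv_cancel_right]
  rw [hinv _ hab, inv_eq_iff_mul_eq_one] at e
  exact hne (Subgroup.mem_bot.1 (mem_of_sq_mem c.pGroup hp2 (Subgroup.mem_bot.2 e)))

end Cfsg.Agent.MaxClassEss
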