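import Cfsg.Agent.Lib.MaxClassEss.Alperin
import Cfsg.Agent.Lib.MaxClassEss.CaseTwoBase
import Cfsg.Agent.Lib.FusionChain.Alperin

/-!
# Essential subgroups whose automizer moves the centre, exceptional case

`caseTwo` : in an exceptional group of maximal class, an essential `E < Γ₁` cannot have an automizer in which the
stabiliser of `Z = L_{n-2}` lies in the strongly `p`-embedded subgroup.

An automorphism moving `Z` gives `u` with `C_S(u) = E` and two opposite transvections on `⟨z, u⟩`; the involution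
in the group they generate extends to `Γ₁`, is trivial on `Z(Γ₁/Z)` after taking a power, normalises `Aut_S(Γ₁)` after
a Frattini argument, so extends to `S`; there it must fix `Z`.
-/

set_option autoImplicit false
set_option linter.unusedSectionVars false
set_option linter.style.haveILetI false

open Subgroup
open scoped commutatorElement Pointwise

universe u

namespace Cfsg.Agent.MaxClassEss

open Cfsg Cfsg.FusionSystem Cfsg.Agent.Fusion MaxClassPower PearlRank

variable {p n : ℕ} [hp : Fact p.Prime] {Ω : Type u} [Group Ω] {S : Subgroup Ω} [Finite S]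
  {F : FusionSystem S} {E : Subgroup Ω}

theorem incl_gamma_mem (y : GammaOne S) : incl gamma_le y ∈ twoStep S 1 := (mem_gamma (gamma_le y.2)).1 y.2

theorem exists_gamma {w : S} (hw : w ∈ twoStep S 1) : ∃ y : GammaOne S, incl gamma_le y = w :=
  ⟨⟨w, (mem_gamma w.2).2 hw⟩, rfl⟩

theorem normalizerIn_gamma {g : Ω} (hg : g ∈ S) : g ∈ normalizerIn S (GammaOne S) := by
  haveI := finite_of_le (S := S) (gamma_le (S := S))
  refine mem_normalizerIn_of_conj hg fun x hx => (mem_gamma (S.mul_mem (S.mul_mem hg (gamma_le hx))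
    (S.inv_mem hg))).2 ?_
  exact (twoStep_normal (X := S) 1).conj_mem ⟨x, gamma_le hx⟩ ((mem_gamma (gamma_le hx)).1 hx) ⟨g, hg⟩

theorem fullyNormalized_gamma : F.IsFullyNormalized (GammaOne S) := by
  refine ⟨gamma_le, fun Q _ => ?_⟩
  haveI : Finite (normalizerIn S (GammaOne S)) := finite_of_le (S := S) inf_le_left
  exact Subgroup.card_le_of_le fun g hg => normalizerIn_gamma hg.1

variable {M : Subgroup (MulAut E)}

/-- The automorphism moving `Z`, the moved element `u` and a `t` in the complementary layer. -/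
theorem exists_frame (hy : Hyp p n F E) (hx : twoStep S (n - 3) ≠ twoStep S 1) (se : Sep p F E M)
    (hC : layerStab F hy.hES (n - 2) ≤ M) :
    ∃ g ∈ F.autGroup E, g ∉ M ∧ ∃ (z u : E) (t : S), g z = u ∧ incl hy.hES z ∈ L S (n - 2) ∧ z ≠ 1 ∧
      incl hy.hES u ∉ secondCenter S n ∧ (∀ y : S, Commute y (incl hy.hES u) → y ∈ E.subgroupOf S) ∧
      ⁅t, incl hy.hES u⁆ ≠ 1 ∧ t ∈ twoStep S 1 ∧ t ∉ E.subgroupOf S ∧
      ∀ e ∈ E.subgroupOf S, ⁅t, e⁆ ∈ L S (n - 2) := by
  have hES := hy.hES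
  have c := hy.c
  have h4 := hy.h4
  obtain ⟨hev, h6, -, hp2⟩ := exceptional_facts c h4 hx
  haveI := finite_of_le (S := S) hES
  haveI := finite_mulAut (S := S) hES
  obtain ⟨g, hg, hgM⟩ := SetLike.not_le_iff_exists.1 se.ne
  refine ⟨g, hg, hgM, ?_⟩
  -- a generator of the centre, inside `E`
  obtain ⟨z₀, hz₀, hz₀'⟩ := exists_ex c (i := n - 2) (by omega) le_rfl
  have hzE : z₀ ∈ E.subgroupOf S := by
    refine FusionChain.centralizerIn_le_of_centric hy.hE.1 ⟨z₀.2, mem_centralizer_iff.2 fun v hv => ?_⟩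
    exact congrArg Subtype.val (c.commute_of_mem hz₀ ⟨v, hES hv⟩).eq
  obtain ⟨z, hz⟩ : ∃ z : E, incl hES z = z₀ := ⟨⟨z₀, hzE⟩, rfl⟩
  subst hz
  have hzne : z ≠ 1 := fun h => hz₀' (by rw [h, map_one]; exact one_mem _)
  have hzne' : incl hES z ≠ 1 := fun h => hz₀' (h ▸ one_mem _)
  have hZ : L S (n - 2) = zpowers (incl hES z) := L_le_of_mem c hz₀ hzne'
  have hZpow : ∀ e : E, incl hES e ∈ L S (n - 2) → ∃ m : ℤ, e = z ^ m := fun e he => by
    obtain ⟨m, hm⟩ := mem_zpowers_iff.1 (hZ ▸ he)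
    exact ⟨m, Subgroup.inclusion_injective hES (by rw [map_zpow]; exact hm.symm)⟩
  have hfix : ∀ a ∈ F.autGroup E, a z = z → a ∈ M := fun a ha haz => hC ⟨ha, fun i hi e he => by
    obtain ⟨m, rfl⟩ := hZpow e (L_anti hi he)
    rw [map_zpow, haz, inv_mul_cancel, map_one]
    exact one_mem _⟩
  have hzc : ∀ e : E, Commute z e := fun e => Subgroup.inclusion_injective hES
    (by rw [map_mul, map_mul]; exact (c.commute_of_mem hz₀ (incl hES e)).symm.eq)
  set u := g z with hu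
  have huc : ∀ e : E, Commute u e := fun e => by
    have h := (hzc (g⁻¹ e)).map g.toMonoidHom
    simpa using h
  -- `t ∈ N_S(E) ∖ E` fixing `u` forces `g ∈ M`
  have hmove : ∀ t : Ω, ∀ ht : t ∈ normalizerIn S E, t ∉ E →
      (g⁻¹ * normConj S E ⟨t, ht⟩ * g⁻¹⁻¹) z = z ∨ (g * normConj S E ⟨t, ht⟩ * g⁻¹) z = z → False := by
    intro t ht htE h
    have hm := Resist.normConj_mem F hES ⟨t, ht⟩
    obtain ⟨k, hk⟩ := isPGroup_autInducedBy hy.hS ⟨_, hm.1⟩
    have key : ∀ a ∈ F.autGroup E, (a * normConj S E ⟨t, ht⟩ * a⁻¹) z = z → a ∈ M := fun a ha haz =>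
      se.conj_mem _ (se.autS hm.1) (fun hi => htE (Resist.mem_of_inn hy.hE hi))
        ⟨k, congrArg Subtype.val hk⟩ a ha (hfix _ (mul_mem (mul_mem ha hm.2) (inv_mem ha)) haz)
    rcases h with h | h
    · exact hgM (inv_mem_iff.1 (key _ (inv_mem hg) h))
    · exact hgM (key _ hg h)
  have huZ : incl hES u ∉ L S (n - 2) := by
    intro h
    obtain ⟨t, ht, htE⟩ := SetLike.exists_of_lt
      (lt_normalizerIn hy.hS le_rfl (Resist.lt_of_essential hy.hS hy.hF hy.hE))
    obtain ⟨m, hm⟩ := hZpow u h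
    refine hmove t ht htE (Or.inr ?_)
    have hti : g⁻¹ z = g⁻¹ z ∧ normConj S E ⟨t, ht⟩ z = z := ⟨rfl, Subgroup.inclusion_injective hES (by
      rw [normConj_apply_incl, (c.commute_of_mem hz₀ _).eq, mul_inv_cancel_right])⟩
    have hgz : ∃ l : ℤ, g⁻¹ z = z ^ l := by
      have hle : (zpowers z).map g.toMonoidHom = zpowers z := by
        refine Subgroup.eq_of_le_of_card_ge ?_ (card_map_of_injective g.injective).ge
        rw [MonoidHom.map_zpowers, zpowers_le]
        exact ⟨m, hm.symm⟩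
      obtain ⟨y, ⟨l, rfl⟩, hy'⟩ := hle.ge (mem_zpowers z)
      refine ⟨l, ?_⟩
      conv_lhs => rw [← hy']
      simp
    obtain ⟨l, hl⟩ := hgz
    rw [MulAut.mul_apply, MulAut.mul_apply, hl, map_zpow (normConj S E ⟨t, ht⟩), hti.2, ← hl,
      MulAut.apply_inv_self]
  have hcu : ∀ y : S, Commute y (incl hES u) → y ∈ E.subgroupOf S := by
    intro y hy'
    by_contra hyE
    have hlt : E < S ⊓ centralizer {(u : Ω)} := by
      refine lt_of_le_of_ne (fun v hv => ⟨hES hv, mem_centralizer_singleton_iff.2 ?_⟩) fun h => hyE ?_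
      · exact (congrArg Subtype.val (huc ⟨v, hv⟩).eq).symm
      · show (y : Ω) ∈ E
        rw [h]
        exact ⟨y.2, mem_centralizer_singleton_iff.2 (congrArg Subtype.val hy'.eq)⟩
    obtain ⟨t, ht, htE⟩ := SetLike.exists_of_lt (lt_normalizerIn hy.hS inf_le_left hlt)
    have hN : t ∈ normalizerIn S E := ⟨ht.1.1, ht.2⟩
    refine hmove t hN htE (Or.inl ?_)
    have htu : normConj S E ⟨t, hN⟩ u = u := Subgroup.inclusion_injective hES (by
      rw [normConj_apply_incl]
      refine Subtype.ext ?_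
      show t * (u : Ω) * t⁻¹ = u
      rw [mem_centralizer_singleton_iff.1 ht.1.2, mul_inv_cancel_right])
    rw [inv_inv, MulAut.mul_apply, MulAut.mul_apply, ← hu, htu, hu, MulAut.inv_apply_self]
  have hgam : ∀ e : E, incl hES e ∈ twoStep S 1 := fun e => hy.le e.2
  obtain ⟨j, hj, hju⟩ := exists_level_gamma c (hgam u) huZ
  have hj4 : j ≤ n - 4 := by
    by_contra h
    obtain rfl : j = n - 3 := by omega
    refine hx (PGroup.eq_of_le_of_card_le (fun y hy' => hy.le (hcu y ?_))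
      (by rw [c.card_twoStep le_rfl (by omega), c.card_twoStep (by omega) le_rfl]))
    have h := mem_twoStep.1 hy' _ hju.1
    rw [c.L_bot (by omega), mem_bot] at h
    exact commutatorElement_eq_one_iff_mul_comm.1 h
  obtain ⟨t, ht⟩ := exists_ex c (i := n - 3 - j) (by omega) (by omega)
  have hdeep : L S (n - 3 - j + 1) ≤ E.subgroupOf S := fun y hy' => hcu y (by
    have h := comm_L_mem (k := n - 1) (by omega) hy' hju.1
    rw [c.L_bot le_rfl, mem_bot] at h
    exact commutatorElement_eq_one_iff_mul_comm.1 h)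
  have hgE : ∀ e e' : E, incl hES ⁅e, e'⁆ ∈ L S (n - 2) → ∃ m : ℤ, ⁅g e, g e'⁆ = u ^ m := fun e e' h => by
    obtain ⟨m, hm⟩ := hZpow _ h
    exact ⟨m, by rw [← map_commutatorElement, hm, map_zpow]⟩
  have hup : incl hES u ^ p = 1 := by
    rw [← map_pow, hu, ← map_pow g, show z ^ p = 1 from Subgroup.inclusion_injective hES (by
      rw [map_pow, map_one]; exact c.pow_eq_one_of_mem hz₀), map_one, map_one]
  have hupow : ∀ (m : ℤ) {H : Subgroup S}, incl hES (u ^ m) ∈ H → incl hES u ∉ H → u ^ m = 1 := fun m H h hnot =>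
    Subgroup.inclusion_injective hES (by
      by_contra hne
      rw [map_one, map_zpow] at hne
      exact hnot (mem_of_zpow_mem hup (map_zpow (incl hES) u m ▸ h) hne))
  -- `E` lies in the layer of `u`
  have hEj : ∀ e : E, incl hES e ∈ L S j := by
    classical
    by_contra hne
    obtain ⟨e₀, he₀⟩ := not_forall.1 hne
    have hex : ∃ i, ∃ e : E, incl hES e ∉ L S (i + 1) := by
      rcases Nat.eq_zero_or_pos j with hj0 | hj0
      · exact absurd (hj0 ▸ mem_L_zero _) he₀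
      · exact ⟨j - 1, e₀, by rwa [Nat.sub_add_cancel hj0]⟩
    obtain ⟨e, he⟩ := Nat.find_spec hex
    set i₀ := Nat.find hex with hi₀
    have hEi : ∀ e' : E, incl hES e' ∈ L S i₀ := fun e' => by
      by_contra h
      rcases Nat.eq_zero_or_pos i₀ with h0 | h0
      · exact h (h0 ▸ mem_L_zero _)
      · exact Nat.find_min hex (show i₀ - 1 < i₀ by omega) ⟨e', by rwa [Nat.sub_add_cancel h0]⟩
    have hij : i₀ < j := by
      rcases Nat.eq_zero_or_pos j with hj0 | hj0
      · exact absurd (hj0 ▸ mem_L_zero _) he₀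
      · have : i₀ ≤ j - 1 := Nat.find_min' hex ⟨e₀, by rwa [Nat.sub_add_cancel hj0]⟩
        omega
    obtain ⟨x, hx'⟩ := exists_ex c (i := n - 3 - i₀) (by omega) (by omega)
    obtain ⟨x, rfl⟩ : ∃ x' : E, incl hES x' = x := ⟨⟨x, hdeep (L_anti (by omega) hx'.1)⟩, rfl⟩
    have hxE : ∀ e' : E, incl hES ⁅x, e'⁆ ∈ L S (n - 2) := fun e' => by
      rw [map_commutatorElement]
      exact comm_L_mem (by omega) hx'.1 (hEi e')
    have hne' : ⁅incl hES x, incl hES e⁆ ≠ 1 :=
      pair_level c h4 hx (by omega) (hgam e) ⟨hEi e, he⟩ hx'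
    obtain ⟨m, hm⟩ := hgE x e (hxE e)
    by_cases hxj : incl hES (g x) ∈ L S j
    · refine hne' ?_
      have h1 : incl hES (u ^ m) ∈ L S (j + 1) := by
        rw [← hm, map_commutatorElement]
        exact comm_L_mem (by omega) hxj (mem_L_zero _)
      have h2 : u ^ m = 1 := hupow m h1 hju.2
      rw [h2, ← map_commutatorElement g, map_eq_one_iff g g.injective] at hm
      rw [← map_commutatorElement, hm, map_one]
    · obtain ⟨i, -, hi⟩ := exists_level_gamma c (hgam (g x)) fun h => hxj (L_anti (by omega) h)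
      have hilt : i < j := by
        by_contra h
        exact hxj (L_anti (by omega) hi.1)
      obtain ⟨w, hw⟩ := exists_ex c (i := n - 3 - i) (by omega) (by omega)
      obtain ⟨w, rfl⟩ : ∃ w' : E, incl hES w' = w := ⟨⟨w, hdeep (L_anti (by omega) hw.1)⟩, rfl⟩
      refine pair_level c h4 hx (by omega) (hgam (g x)) hi hw ?_
      obtain ⟨m', hm'⟩ := hgE x (g⁻¹ w) (hxE _)
      rw [MulAut.apply_inv_self] at hm'
      have h1 : incl hES ⁅g x, w⁆ ∈ L S (n - 2) := by
        rw [map_commutatorElement]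
        exact comm_L_mem (by omega) hi.1 hw.1
      rw [hm'] at h1
      rw [← map_commutatorElement, ← commutatorElement_inv, hm', hupow m' h1 huZ, inv_one, map_one]
  have htu : ⁅t, incl hES u⁆ ≠ 1 := pair_level c h4 hx hj4 (hgam u) hju ht
  have htg : t ∈ twoStep S 1 := L_one_le_twoStep 1 (L_anti (by omega) ht.1)
  have htE : t ∉ E.subgroupOf S := fun h => htu (by
    have hc := (huc ⟨(t : Ω), h⟩).symm
    exact commutatorElement_eq_one_iff_mul_comm.2 (Subtype.ext (congrArg Subtype.val hc.eq :)))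
  have htEZ : ∀ e ∈ E.subgroupOf S, ⁅t, e⁆ ∈ L S (n - 2) := fun e he =>
    comm_L_mem (by omega) ht.1 (hEj ⟨(e : Ω), he⟩)
  refine ⟨z, u, t, hu.symm, hz₀, hzne, fun hW => ?_, hcu, htu, htg, htE, htEZ⟩
  -- otherwise `Γ₁ ≤ E ⟨t⟩`
  have htZ : L S (n - 2) = zpowers ⁅t, incl hES u⁆ :=
    L_le_of_mem c (htEZ (incl hES u) u.2) htu
  have hsup : twoStep S 1 ≤ E.subgroupOf S ⊔ L S (n - 3 - j) := by
    intro y hy'
    have h := inv_mem ((mem_secondCenter.1 hW).2 y hy')
    rw [commutatorElement_inv, htZ] at h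
    obtain ⟨m, hm⟩ := mem_powers_iff_mem_zpowers.2 h
    have hpow : ∀ k : ℕ, ⁅t ^ k, incl hES u⁆ = ⁅t, incl hES u⁆ ^ k := by
      intro k
      induction k with
      | zero => simp
      | succ k ih =>
        rw [pow_succ, commutatorElement_mul_left_eq_conj_mul, ih,
          (c.commute_of_mem (htEZ (incl hES u) u.2) (t ^ k)).eq, mul_inv_cancel_right, ← pow_succ']
    have e : ⁅t ^ m, incl hES u⁆ = ⁅y, incl hES u⁆ := (hpow m).trans hm
    have hyE : (t ^ m)⁻¹ * y ∈ E.subgroupOf S := hcu _ (by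
      rw [commutatorElement_def, commutatorElement_def, mul_left_inj, mul_inv_eq_iff_eq_mul] at e
      show (t ^ m)⁻¹ * y * incl hES u = incl hES u * ((t ^ m)⁻¹ * y)
      have e' : t ^ m * incl hES u * (t ^ m)⁻¹ = y * incl hES u * y⁻¹ := by
        rw [mul_inv_eq_iff_eq_mul, e]
      calc (t ^ m)⁻¹ * y * incl hES u = (t ^ m)⁻¹ * (y * incl hES u * y⁻¹) * y := by group
        _ = incl hES u * ((t ^ m)⁻¹ * y) := by rw [← e']; group)
    have := mul_mem (mem_sup_right (pow_mem ht.1 m) : t ^ m ∈ E.subgroupOf S ⊔ L S (n - 3 - j))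
      (mem_sup_left hyE)
    rwa [mul_inv_cancel_left] at this
  rcases Nat.eq_zero_or_pos j with hj0 | hj0
  · subst hj0
    have hin : ∀ i, 1 ≤ i → i ≤ n - 4 → ∃ e : E, Ex S i (incl hES e) := fun i h1 h2 => by
      obtain ⟨y, hy'⟩ := exists_ex c (i := i) h1 (by omega)
      obtain ⟨e, he, l, hl, rfl⟩ :=
        Subgroup.mem_sup_of_normal_right.1 (hsup (L_one_le_twoStep 1 (L_anti h1 hy'.1)))
      have hl' : l ∈ L S (i + 1) := L_anti (by omega) hl
      exact ⟨⟨(e : Ω), he⟩, (Subgroup.mul_mem_cancel_right _ (L_anti (Nat.le_succ i) hl')).1 hy'.1,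
        fun h => hy'.2 (mul_mem h hl')⟩
    obtain ⟨a, ha⟩ := hin 1 le_rfl (by omega)
    obtain ⟨b, hb⟩ := hin (n - 4) (by omega) le_rfl
    have hne := pair_level c h4 hx (i := n - 4) le_rfl (hgam b) hb (b := incl hES a)
      (by rwa [show n - 3 - (n - 4) = 1 by omega])
    have hab : incl hES ⁅a, b⁆ ∈ L S (n - 2) := by
      rw [map_commutatorElement]; exact comm_L_mem (by omega) ha.1 hb.1
    obtain ⟨m, hm⟩ := hgE a b hab
    refine hne ?_
    have h1 : incl hES (u ^ m) ∈ L S 1 := by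
      rw [← hm, map_commutatorElement]; exact comm_L_mem (by omega) (mem_L_zero _) (mem_L_zero _)
    have h2 : u ^ m = 1 := hupow m h1 hju.2
    rw [h2, ← map_commutatorElement g, map_eq_one_iff g g.injective] at hm
    rw [← map_commutatorElement, hm, map_one]
  · obtain ⟨y, hy', hy1⟩ := c.exists_mem_twoStep (i := 1) le_rfl (by omega)
    refine hy1 (sup_le ?_ (L_anti (by omega)) (hsup hy'))
    exact fun e he => L_anti hj0 (hEj ⟨(e : Ω), he⟩)

/-- The stabiliser of the centre is not inside the strongly embedded subgroup. -/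
theorem caseTwo (hy : Hyp p n F E) (hx : twoStep S (n - 3) ≠ twoStep S 1) (se : Sep p F E M)
    (hC : layerStab F hy.hES (n - 2) ≤ M) : False := by
  have hES := hy.hES
  have c := hy.c
  have h4 := hy.h4
  obtain ⟨hev, h6, -, hp2⟩ := exceptional_facts c h4 hx
  haveI := finite_of_le (S := S) hES
  haveI := finite_mulAut (S := S) hES
  obtain ⟨g, hg, hgM, z₀, u, t, hgu, hz₀, hz₀1, huW, hcu, htu, htg, htE, htEZ⟩ := exists_frame hy hx se hC
  have hincl : Function.Injective (incl hES) := Subgroup.inclusion_injective hES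
  -- the commutator `z`
  obtain ⟨z, hz⟩ : ∃ z : E, incl hES z = ⁅t, incl hES u⁆ := by
    have h := htEZ (incl hES u) u.2
    rw [L_le_of_mem c hz₀ fun e => hz₀1 (hincl (e.trans (map_one _).symm))] at h
    obtain ⟨m, hm⟩ := mem_zpowers_iff.1 h
    exact ⟨z₀ ^ m, by rw [map_zpow]; exact hm⟩
  have hzZ : incl hES z ∈ L S (n - 2) := hz ▸ htEZ (incl hES u) u.2
  have hz1 : incl hES z ≠ 1 := hz ▸ htu
  have hZ := L_le_of_mem c hzZ hz1
  have hZpow : ∀ e : E, incl hES e ∈ L S (n - 2) → ∃ m : ℤ, e = z ^ m := fun e he => by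
    obtain ⟨m, hm⟩ := mem_zpowers_iff.1 (hZ ▸ he)
    exact ⟨m, hincl (by rw [map_zpow]; exact hm.symm)⟩
  have hzc : ∀ e : E, Commute z e := fun e => hincl
    (by rw [map_mul, map_mul]; exact (c.commute_of_mem hzZ (incl hES e)).symm.eq)
  have hup : u ^ p = 1 := by
    rw [← hgu, ← map_pow, show z₀ ^ p = 1 from hincl (by
      rw [map_pow, map_one]; exact c.pow_eq_one_of_mem hz₀), map_one]
  have huc : ∀ e : E, Commute u e := fun e => by
    have h0 : Commute z₀ (g⁻¹ e) := hincl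
      (by rw [map_mul, map_mul]; exact (c.commute_of_mem hz₀ (incl hES (g⁻¹ e))).symm.eq)
    have h := h0.map g.toMonoidHom
    simpa [hgu] using h
  have huW' : ∀ l : ℤ, incl hES (u ^ l) ∈ secondCenter S n → u ^ l = 1 := fun l h => hincl (by
    by_contra hne
    rw [map_one, map_zpow] at hne
    exact huW (mem_of_zpow_mem (by rw [← map_pow, hup, map_one]) (map_zpow (incl hES) u l ▸ h) hne))
  -- the first transvection
  have htN : (t : Ω) ∈ normalizerIn S E := by
    refine mem_normalizerIn_of_conj t.2 fun v hv => ?_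
    obtain ⟨m, hm⟩ := mem_zpowers_iff.1 (hZ ▸ htEZ ⟨v, hES hv⟩ hv)
    have e : t * ⟨v, hES hv⟩ * t⁻¹ = incl hES (z ^ m * ⟨v, hv⟩) := by
      rw [map_mul, map_zpow, hm, commutatorElement_def]
      exact (inv_mul_cancel_right _ _).symm
    rw [show (t : Ω) * v * (t : Ω)⁻¹ = ((z ^ m * ⟨v, hv⟩ : E) : Ω) from congrArg Subtype.val e]
    exact SetLike.coe_mem _
  set A := normConj S E ⟨t, htN⟩ with hAdef
  have hA : ∀ e : E, ∃ m : ℤ, A e = z ^ m * e := fun e => by
    obtain ⟨m, hm⟩ := mem_zpowers_iff.1 (hZ ▸ htEZ (incl hES e) e.2)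
    refine ⟨m, hincl ?_⟩
    rw [normConj_apply_incl, map_mul, map_zpow, hm, commutatorElement_def]
    exact (inv_mul_cancel_right _ _).symm
  have hAz : A z = z := hincl (by
    rw [normConj_apply_incl, (c.commute_of_mem hzZ _).eq, mul_inv_cancel_right])
  have hAz₀ : A z₀ = z₀ := hincl (by
    rw [normConj_apply_incl, (c.commute_of_mem hz₀ _).eq, mul_inv_cancel_right])
  have hAu : A u = z * u := hincl (by
    rw [normConj_apply_incl, map_mul, hz, commutatorElement_def]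
    exact (inv_mul_cancel_right _ _).symm)
  have hAm := Resist.normConj_mem F hES ⟨(t : Ω), htN⟩
  -- the opposite one
  set T₀ := g * A * g⁻¹ with hT₀
  obtain ⟨k, hk⟩ : ∃ k : ℤ, z = z₀ ^ k := by
    have h := hzZ
    rw [L_le_of_mem c hz₀ fun e => hz₀1 (hincl (e.trans (map_one _).symm))] at h
    obtain ⟨m, hm⟩ := mem_zpowers_iff.1 h
    exact ⟨m, hincl (by rw [map_zpow]; exact hm.symm)⟩
  have hgz : g z = u ^ k := by rw [hk, map_zpow, hgu]
  have hT₀e : ∀ e : E, ∃ m : ℤ, T₀ e = u ^ m * e := fun e => by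
    obtain ⟨m, hm⟩ := hA (g⁻¹ e)
    refine ⟨k * m, ?_⟩
    rw [hT₀, MulAut.mul_apply, MulAut.mul_apply, hm, map_mul, map_zpow g, hgz, ← zpow_mul, MulAut.apply_inv_self]
  have hT₀u : T₀ u = u := by
    rw [hT₀, MulAut.mul_apply, MulAut.mul_apply, ← hgu, MulAut.inv_apply_self, hAz₀]
  have hT₀A : T₀ ∈ F.autGroup E := mul_mem (mul_mem hg hAm.2) (inv_mem hg)
  obtain ⟨l, hl⟩ := hT₀e z
  have hl1 : u ^ l ≠ 1 := by
    intro h
    rw [h, one_mul] at hl
    obtain ⟨q, hq⟩ := isPGroup_autInducedBy hy.hS ⟨_, hAm.1⟩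
    refine hgM (se.conj_mem A (se.autS hAm.1) (fun hi => htE (Resist.mem_of_inn hy.hE hi))
      ⟨q, congrArg Subtype.val hq⟩ g hg (hC ⟨hT₀A, fun i hi e he => ?_⟩))
    obtain ⟨m, rfl⟩ := hZpow e (L_anti hi he)
    rw [map_zpow, hl, inv_mul_cancel, map_one]
    exact one_mem _
  obtain ⟨r, hr⟩ : ∃ r : ℕ, (u ^ l) ^ r = u := by
    obtain ⟨q, hq⟩ : ∃ q : ℕ, u ^ q = u ^ l := mem_powers_iff_mem_zpowers.2 (⟨l, rfl⟩ : u ^ l ∈ zpowers u)
    rw [← hq] at hl1 ⊢
    exact mem_powers_iff_mem_zpowers.2 ((zpowers_pow_eq hup hl1).ge (mem_zpowers u))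
  have hTpow : ∀ {e : E} {m : ℤ}, T₀ e = u ^ m * e → ∀ i : ℕ, (T₀ ^ i) e = (u ^ m) ^ i * e := by
    intro e m he i
    induction i with
    | zero => simp
    | succ i ih =>
      rw [pow_succ', MulAut.mul_apply, ih, map_mul, map_pow T₀, map_zpow T₀, hT₀u, he, pow_succ, mul_assoc]
  set B := T₀ ^ r with hBdef
  have hBz : B z = u * z := by rw [hBdef, hTpow hl r, hr]
  have hBu : B u = u := by
    rw [hBdef, hTpow (m := 0) (by rw [zpow_zero, one_mul]; exact hT₀u) r, zpow_zero, one_pow, one_mul]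
  have hB : ∀ e : E, ∃ m : ℤ, B e = u ^ m * e := fun e => by
    obtain ⟨m, hm⟩ := hT₀e e
    exact ⟨m * r, by rw [hBdef, hTpow hm r, zpow_mul, zpow_natCast]⟩
  obtain ⟨h, hhc, hhz, hhu, hh2, hhA, hhe⟩ := exists_torus hzc huc hAz hAu hBu hBz hA hB
  have hhF : h ∈ F.autGroup E := by
    refine (closure_le _).2 ?_ hhc
    rintro a (rfl | rfl)
    · exact hAm.2
    · exact pow_mem hT₀A r
  -- extend to `E ⟨t⟩` and then to `Γ₁`
  have hconjA : h * A * h⁻¹ = A := by rw [hhA, mul_inv_cancel_right]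
  obtain ⟨f, hf, hfe⟩ := FusionChain.exists_extension (receptive_of_fullyNormalized hy.hS hy.hF hy.hE.2.1) hhF
    (M := zpowers (t : Ω)) (zpowers_le.2 htN) fun a ha => by
      obtain ⟨i, rfl⟩ := mem_zpowers_iff.1 ha
      rw [show (⟨(t : Ω) ^ i, _⟩ : normalizerIn S E) = ⟨(t : Ω), htN⟩ ^ i from Subtype.ext (by simp),
        map_zpow, ← conj_zpow, ← hAdef, hconjA]
      exact zpow_mem hAm.1 i
  have hPG : E ⊔ zpowers (t : Ω) ≤ GammaOne S :=
    sup_le (fun v hv => (mem_gamma (hES hv)).2 (hy.le (x := ⟨v, hES hv⟩) hv))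
      (zpowers_le.2 ((mem_gamma t.2).2 htg))
  have hcard : Nat.card E < Nat.card ↥(E ⊔ zpowers (t : Ω)) := by
    haveI := finite_of_le (S := S) (hPG.trans gamma_le)
    refine lt_of_le_of_ne (Subgroup.card_le_of_le le_sup_left) fun e => htE ?_
    show (t : Ω) ∈ E
    rw [Subgroup.eq_of_le_of_card_ge le_sup_left e.ge]
    exact mem_sup_right (mem_zpowers _)
  obtain ⟨γ, hγ, hγf⟩ := hy.ext_gamma hf hPG hcard
  set τ := incl (gamma_le (S := S)) with hτ
  have hτi : Function.Injective τ := Subgroup.inclusion_injective _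
  have hγE : ∀ (y : GammaOne S) (e : E), τ y = incl hES e → τ (γ y) = incl hES (h e) := by
    intro y e hye
    have hye' : (y : Ω) = e := congrArg Subtype.val hye
    refine Subtype.ext ?_
    show ((γ y : GammaOne S) : Ω) = (h e : E)
    rw [← autFn_apply h e.2, ← hfe _ e.2, ← hγf _ (mem_sup_left e.2), ← hye', autFn_apply γ y.2]
  have hγt : ∀ (y : GammaOne S) (m : ℕ), τ y = t ^ m → (t ^ m)⁻¹ * τ (γ y) ∈ E.subgroupOf S := by
    intro y m hym
    have hm : (t : Ω) ^ m ∈ E ⊔ zpowers (t : Ω) := mem_sup_right (pow_mem (mem_zpowers _) m)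
    obtain ⟨hN, hconj⟩ := Resist.map_conj_eq hf le_sup_left hfe
      (g := ⟨(t : Ω), htN⟩ ^ m) (by simpa using hm)
    rw [map_pow, ← hAdef, ← conj_pow, hconjA, hAdef, ← map_pow] at hconj
    have h1 : normConj S E ((⟨(t : Ω), htN⟩ ^ m)⁻¹ * ⟨_, hN⟩) ∈ Cfsg.Inn E := by
      rw [map_mul, hconj, map_inv, inv_mul_cancel]
      exact one_mem _
    have h2 := Resist.mem_of_inn hy.hE h1
    show ((t ^ m)⁻¹ * τ (γ y) : Ω) ∈ E
    have hy' : (y : Ω) = (t : Ω) ^ m := (congrArg Subtype.val hym).trans (by simp)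
    have e : ((γ y : GammaOne S) : Ω) = f ((t : Ω) ^ m) := by
      rw [← hγf _ hm, ← hy', autFn_apply γ y.2]
    simpa [hτ, e] using h2
  obtain ⟨zG, hzG⟩ := exists_gamma (hy.le (x := incl hES z) z.2)
  replace hzG : τ zG = incl hES z := hzG
  have hγz : γ zG = zG⁻¹ := hτi (by rw [hγE zG z hzG, hhz, map_inv, map_inv, hzG])
  have hτZ : ∀ y, τ y ∈ L S (n - 2) → ∃ m : ℤ, y = zG ^ m := fun y hy' => by
    obtain ⟨m, hm⟩ := mem_zpowers_iff.1 (hZ ▸ hy')
    exact ⟨m, hτi (by rw [map_zpow, hzG]; exact hm.symm)⟩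
  have hγZ : ∀ y, τ y ∈ L S (n - 2) → τ (γ y) ∈ L S (n - 2) := fun y hy' => by
    obtain ⟨m, rfl⟩ := hτZ y hy'
    rw [map_zpow, hγz, map_zpow, map_inv, hzG]
    exact zpow_mem (inv_mem hzZ) m
  haveI hWn := secondCenter_normal c
  have hγW : ∀ y, τ y ∈ secondCenter S n → τ (γ y) ∈ secondCenter S n := fun y hy' => by
    refine mem_secondCenter.2 ⟨incl_gamma_mem _, fun v hv => ?_⟩
    obtain ⟨v, rfl⟩ := exists_gamma hv
    obtain ⟨v, rfl⟩ := γ.surjective v
    show ⁅τ (γ y), τ (γ v)⁆ ∈ _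
    rw [← map_commutatorElement, ← map_commutatorElement]
    exact hγZ _ (by rw [map_commutatorElement]; exact (mem_secondCenter.1 hy').2 _ (incl_gamma_mem v))
  -- `γ` stabilises `Z ≤ W ∩ E ≤ W`
  set π := QuotientGroup.mk' (L S (n - 2))
  have hπ : ∀ a b : S, π a = π b → a⁻¹ * b ∈ L S (n - 2) := fun a b e => QuotientGroup.eq.1 e
  have hstep1 : ∀ y, τ y ∈ secondCenter S n → τ y ∈ E.subgroupOf S → π (τ (γ y)) = π (τ y) := by
    intro y hyW hyE
    obtain ⟨e, he⟩ : ∃ e : E, incl hES e = τ y := ⟨⟨_, hyE⟩, rfl⟩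
    obtain ⟨m, l, hml⟩ := hhe e
    have h1 : τ (γ y) = incl hES z ^ m * (incl hES (u ^ l) * τ y) := by
      rw [hγE y e he.symm, hml, map_mul, map_mul, map_zpow, he]
    have hzW : incl hES z ∈ secondCenter S n := L_le_secondCenter c (by omega) (L_anti (by omega) hzZ)
    have h2 : incl hES (u ^ l) ∈ secondCenter S n := by
      have := mul_mem (mul_mem (inv_mem (zpow_mem hzW m)) (h1 ▸ hγW y hyW)) (inv_mem hyW)
      rwa [inv_mul_cancel_left, mul_inv_cancel_right] at this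
    rw [h1, huW' l h2, map_one, one_mul, map_mul, show π (incl hES z ^ m) = 1 from
      (QuotientGroup.eq_one_iff _).2 (zpow_mem hzZ m), one_mul]
  have hiter1 : ∀ (i : ℕ) y, τ y ∈ secondCenter S n → τ y ∈ E.subgroupOf S → π (τ ((γ ^ i) y)) = π (τ y) := by
    intro i
    induction i with
    | zero => simp
    | succ i ih =>
      intro y hyW hyE
      obtain ⟨ζ, hζ, hζe⟩ : ∃ ζ, τ ζ ∈ L S (n - 2) ∧ (γ ^ i) y = y * ζ :=
        ⟨y⁻¹ * (γ ^ i) y, by rw [map_mul, map_inv]; exact hπ _ _ (ih y hyW hyE).symm,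
          (mul_inv_cancel_left _ _).symm⟩
      rw [pow_succ', MulAut.mul_apply, hζe, map_mul γ, map_mul τ, map_mul π, hstep1 y hyW hyE,
        show π (τ (γ ζ)) = 1 from (QuotientGroup.eq_one_iff _).2 (hγZ ζ hζ), mul_one]
  have hWdec : ∀ y, τ y ∈ secondCenter S n → τ y⁻¹ * τ (γ y) ∈ E.subgroupOf S := by
    intro y hyW
    have h1 : ⁅τ y, incl hES u⁆ ∈ L S (n - 2) := (mem_secondCenter.1 hyW).2 _ (hy.le (x := incl hES u) u.2)
    rw [hZ, hz] at h1
    obtain ⟨m, hm⟩ := mem_powers_iff_mem_zpowers.2 h1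
    have hpow : ∀ k : ℕ, t ^ k * incl hES u * (t ^ k)⁻¹ = incl hES z ^ k * incl hES u := by
      intro k
      induction k with
      | zero => simp
      | succ k ih =>
        have e : t * incl hES u * t⁻¹ = incl hES z * incl hES u := by
          rw [hz, commutatorElement_def, inv_mul_cancel_right]
        calc t ^ (k + 1) * incl hES u * (t ^ (k + 1))⁻¹
            = t ^ k * (t * incl hES u * t⁻¹) * (t ^ k)⁻¹ := by rw [pow_succ]; group
          _ = t ^ k * incl hES z * (t ^ k)⁻¹ * (t ^ k * incl hES u * (t ^ k)⁻¹) := by rw [e]; group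
          _ = incl hES z ^ (k + 1) * incl hES u := by
            rw [(c.commute_of_mem hzZ (t ^ k)).eq, mul_inv_cancel_right, ih, pow_succ', mul_assoc]
    have hyE : (t ^ m)⁻¹ * τ y ∈ E.subgroupOf S := hcu _ (by
      show (t ^ m)⁻¹ * τ y * incl hES u = incl hES u * ((t ^ m)⁻¹ * τ y)
      have e : τ y * incl hES u * (τ y)⁻¹ = t ^ m * incl hES u * (t ^ m)⁻¹ := by
        rw [hpow, hz, show ⁅t, incl hES u⁆ ^ m = ⁅τ y, incl hES u⁆ from hm, commutatorElement_def,
          inv_mul_cancel_right]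
      calc (t ^ m)⁻¹ * τ y * incl hES u = (t ^ m)⁻¹ * (τ y * incl hES u * (τ y)⁻¹) * τ y := by group
        _ = incl hES u * ((t ^ m)⁻¹ * τ y) := by rw [e]; group)
    obtain ⟨ym, hym⟩ := exists_gamma (pow_mem htg m)
    replace hym : τ ym = t ^ m := hym
    obtain ⟨e, he⟩ : ∃ e : E, incl hES e = (t ^ m)⁻¹ * τ y := ⟨⟨_, hyE⟩, rfl⟩
    have h2 : τ (γ (ym⁻¹ * y)) = incl hES (h e) := hγE _ e (by rw [map_mul, map_inv, hym, he])
    have h3 := mul_mem (mul_mem (inv_mem hyE) (hγt ym m hym)) (show incl hES (h e) ∈ E.subgroupOf S from (h e).2)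
    rw [← h2] at h3
    simpa [map_mul, map_inv, hym, mul_assoc] using h3
  have hiter2 : ∀ (i : ℕ) y, τ y ∈ secondCenter S n →
      π (τ ((γ ^ i) y)) = π (τ y) * π (τ (y⁻¹ * γ y)) ^ i := by
    intro i
    induction i with
    | zero => simp
    | succ i ih =>
      intro y hyW
      have hcW : τ (y⁻¹ * γ y) ∈ secondCenter S n := by
        rw [map_mul, map_inv]; exact mul_mem (inv_mem hyW) (hγW y hyW)
      have hcE : τ (y⁻¹ * γ y) ∈ E.subgroupOf S := by rw [map_mul]; exact hWdec y hyW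
      rw [pow_succ, MulAut.mul_apply, show γ y = y * (y⁻¹ * γ y) by rw [mul_inv_cancel_left], map_mul (γ ^ i),
        map_mul τ, map_mul π, ih y hyW, hiter1 i _ hcW hcE, mul_inv_cancel_left, pow_succ, mul_assoc]
  set N := Nat.card S with hN
  have hNodd : Odd N := by rw [hN, c.card]; exact (hp.out.odd_of_ne_two hp2).pow
  haveI := finite_mulAut (S := S) (gamma_le (S := S))
  -- the kernel on `W / Z`
  let K₀ : Submonoid (MulAut (GammaOne S)) :=
    { carrier := {κ | κ ∈ F.autGroup (GammaOne S) ∧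
        ∀ y, τ y ∈ secondCenter S n → π (τ (κ y)) = π (τ y)}
      one_mem' := ⟨one_mem _, fun _ _ => rfl⟩
      mul_mem' := fun {a b} ha hb => ⟨mul_mem ha.1 hb.1, fun y hyW => by
        have h1 := hπ _ _ (hb.2 y hyW).symm
        have hbW : τ (b y) ∈ secondCenter S n := by
          have := mul_mem hyW (L_le_secondCenter c (by omega) (L_anti (by omega) h1))
          rwa [mul_inv_cancel_left] at this
        rw [MulAut.mul_apply, ha.2 _ hbW, hb.2 y hyW]⟩ }
  let K : Subgroup (MulAut (GammaOne S)) :=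
    { K₀ with
      inv_mem' := fun {a} ha => by
        have h : a⁻¹ = a ^ (orderOf a - 1) := inv_eq_of_mul_eq_one_right (by
          rw [← pow_succ', Nat.sub_add_cancel (orderOf_pos a), pow_orderOf_eq_one])
        rw [h]
        exact K₀.pow_mem ha _ }
  have hδK : γ ^ N ∈ K := ⟨pow_mem hγ N, fun y hyW => by
    rw [hiter2 N y hyW, hN, ← map_pow π, pow_card_eq_one', map_one, mul_one]⟩
  have hδz : (γ ^ N) zG = zG⁻¹ := by
    obtain ⟨q, hq⟩ := hNodd
    have h2 : ∀ i : ℕ, (γ ^ (2 * i)) zG = zG := by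
      intro i
      induction i with
      | zero => simp
      | succ i ih =>
        rw [Nat.mul_succ, pow_add, MulAut.mul_apply, pow_two, MulAut.mul_apply, hγz, map_inv γ, hγz, inv_inv, ih]
    rw [hq, pow_succ, MulAut.mul_apply, hγz, map_inv, h2]
  -- `Aut_S(Γ₁)` normalises `K`
  set I := autInducedBy S (GammaOne S)
  have hIA : I ≤ F.autGroup (GammaOne S) := autInducedBy_le_autGroup F le_rfl gamma_le
  have hIK : I ≤ normalizer (K : Set (MulAut (GammaOne S))) := by
    have key : ∀ a ∈ I, ∀ κ ∈ K, a * κ * a⁻¹ ∈ K := by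
      intro a ha κ hκ
      obtain ⟨r, rfl⟩ := (range_normConj S (GammaOne S)).ge ha
      refine ⟨mul_mem (mul_mem (hIA ha) hκ.1) (inv_mem (hIA ha)), fun y hyW => ?_⟩
      set rS : S := ⟨r, r.2.1⟩ with hrS
      set y' := (normConj S (GammaOne S) r)⁻¹ y with hy'def
      have ey : τ y = rS * τ y' * rS⁻¹ := by
        rw [← normConj_apply_incl gamma_le r y', hy'def, MulAut.apply_inv_self]
      have hy'W : τ y' ∈ secondCenter S n := by
        have := hWn.conj_mem' _ hyW rS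
        rwa [ey, show rS⁻¹ * (rS * τ y' * rS⁻¹) * rS = τ y' by group] at this
      rw [MulAut.mul_apply, MulAut.mul_apply, normConj_apply_incl, map_mul, map_mul, map_inv,
        show π (τ (κ y')) = π (τ y') from hκ.2 y' hy'W, ← map_inv, ← map_mul, ← map_mul, ← ey]
    intro a ha
    refine mem_normalizer_iff.2 fun κ => ⟨key a ha κ, fun h => ?_⟩
    have := key _ (inv_mem ha) _ h
    simpa [mul_assoc] using this
  have hIz : ∀ a ∈ I, a zG = zG := by
    intro a ha
    obtain ⟨r, rfl⟩ := (range_normConj S (GammaOne S)).ge ha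
    exact hτi (by rw [normConj_apply_incl, hzG, (c.commute_of_mem hzZ _).eq, mul_inv_cancel_right])
  -- Frattini argument
  have hsyl : IsSylowIn p I (F.autGroup (GammaOne S)) :=
    (isFullyAutomized_iff.1 (fullyAutomized_of_fullyNormalized hy.hS hy.hF fullyNormalized_gamma)).2
  set H₀ := (K ⊔ I) ⊓ MulAction.stabilizer (MulAut (GammaOne S)) zG
  have hH₀ : I ≤ H₀ := fun a ha => ⟨mem_sup_right ha, hIz a ha⟩
  have hH₀A : H₀ ≤ F.autGroup (GammaOne S) := inf_le_left.trans (sup_le (fun a ha => ha.1) hIA)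
  obtain ⟨k₁, hk₁, hk₁'⟩ := (hsyl.mono hH₀ hH₀A).exists_conj_le
    (H := I.map (MulAut.conj (γ ^ N)).toMonoidHom) (hsyl.isPGroup.map _) (by
      rintro _ ⟨a, ha, rfl⟩
      refine ⟨(K ⊔ I).mul_mem ((K ⊔ I).mul_mem (mem_sup_left hδK) (mem_sup_right ha))
        ((K ⊔ I).inv_mem (mem_sup_left hδK)), ?_⟩
      show (γ ^ N * a * (γ ^ N)⁻¹) zG = zG
      have e : (γ ^ N)⁻¹ zG = zG⁻¹ := by
        conv_lhs => rw [← inv_inv zG, ← hδz, ← map_inv (γ ^ N)]
        exact MulAut.inv_apply_self _ _ _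
      rw [MulAut.mul_apply, MulAut.mul_apply, e, map_inv a, hIz a ha, map_inv (γ ^ N), hδz, inv_inv])
  set ν := k₁ * γ ^ N with hν
  have hνz : ν zG = zG⁻¹ := by
    rw [hν, MulAut.mul_apply, hδz, map_inv]
    exact congrArg Inv.inv hk₁.2
  have hνI : ∀ a ∈ I, ν * a * ν⁻¹ ∈ I := fun a ha => by
    have := hk₁' _ (mem_map_of_mem _ ha)
    rw [show ν * a * ν⁻¹ = k₁ * (MulAut.conj (γ ^ N) a) * k₁⁻¹ by rw [hν, MulAut.conj_apply]; group]
    exact this
  obtain ⟨κ, hκ, a, ha, hκa⟩ : ν ∈ (K : Set (MulAut (GammaOne S))) * (I : Set (MulAut (GammaOne S))) := by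
    rw [← Subgroup.coe_mul_of_right_le_normalizer_left K I hIK]
    exact mul_mem hk₁.1 (mem_sup_left hδK)
  replace hκa : κ * a = ν := hκa
  have hκz : κ zG = zG⁻¹ := by rw [← hνz, ← hκa, MulAut.mul_apply, hIz a ha]
  have hκI : ∀ b ∈ I, κ * b * κ⁻¹ ∈ I := fun b hb => by
    have h := hνI _ (mul_mem (mul_mem (inv_mem ha) hb) ha)
    simpa [← hκa, mul_assoc] using h
  -- the extension to `S`
  obtain ⟨f', hf', hfκ⟩ := FusionChain.exists_extension
    (receptive_of_fullyNormalized hy.hS hy.hF fullyNormalized_gamma) hκ.1 (M := S)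
    (fun r hr => normalizerIn_gamma hr) fun r hr => hκI _ ((range_normConj S (GammaOne S)).le ⟨_, rfl⟩)
  obtain ⟨σ, -, hσ⟩ := exists_restrict (hf'.mono le_sup_right) le_rfl fun v hv => hf'.mem (mem_sup_right hv)
  have hσG : ∀ y : GammaOne S, σ (τ y) = τ (κ y) := fun y => Subtype.ext (by
    have h1 := autFn_apply σ (τ y).2
    exact h1.symm.trans ((hσ _ (τ y).2).trans ((hfκ _ y.2).trans (autFn_apply κ y.2))))
  refine false_of_inverts c h4 hx σ (fun w hw => ?_) (fun v hv => ?_)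
  · obtain ⟨y, rfl⟩ := exists_gamma (L_one_le_twoStep 1 (L_anti (by omega) hw))
    rw [show σ (incl gamma_le y) = τ (κ y) from hσG y]
    exact hπ _ _ (hκ.2 y (L_le_secondCenter c (by omega) hw)).symm
  · obtain ⟨y, rfl⟩ := exists_gamma (L_one_le_twoStep 1 (L_anti (by omega) hv))
    obtain ⟨m, rfl⟩ := hτZ y hv
    rw [show σ (incl gamma_le (zG ^ m)) = τ (κ (zG ^ m)) from hσG _, map_zpow κ, hκz, inv_zpow, map_inv]

end Cfsg.Agent.MaxClassEss
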