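import Mathlib
import Cfsg.Agent.EqLemmas

/-!
# The invariant flag of a regular nilpotent endomorphism (for S5267 piece A; owner: helper96)

* `RegNil N w` : `N` is nilpotent with one Jordan block, `w = dim V`
* `RegNil.finrank_ker`, `RegNil.exists_sub_smul`, `RegNil.eq_ker_of_stable`, `RegNil.pow_eq_zero_of_kills`
* `stab W` : the stabiliser of a subspace in `GL(V)`
-/

set_option autoImplicit false
set_option linter.unusedSectionVars false

open Module

namespace Cfsg.Agent.MaxClassEss

variable {F : Type*} [Field F] {V : Type*} [AddCommGroup V] [Module F V] [FiniteDimensional F V]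

/-- A single nilpotent Jordan block of size `w`. -/
structure RegNil (N : Module.End F V) (w : ℕ) : Prop where
  dim : Module.finrank F V = w
  nil : N ^ w = 0
  reg : N ^ (w - 1) ≠ 0

theorem mem_ker_pow {N : Module.End F V} {j : ℕ} {v : V} :
    v ∈ LinearMap.ker (N ^ j) ↔ (N ^ j) v = 0 := Iff.rfl

theorem ker_pow_mono (N : Module.End F V) {i j : ℕ} (h : i ≤ j) :
    LinearMap.ker (N ^ i) ≤ LinearMap.ker (N ^ j) := fun v hv => by
  obtain ⟨k, rfl⟩ := Nat.exists_eq_add_of_le h
  rw [mem_ker_pow, Nat.add_comm, pow_add, Module.End.mul_apply, mem_ker_pow.1 hv, map_zero]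

theorem apply_mem_ker_pow (N : Module.End F V) {j : ℕ} {v : V} (hv : v ∈ LinearMap.ker (N ^ (j + 1))) :
    N v ∈ LinearMap.ker (N ^ j) := by
  rw [mem_ker_pow, ← Module.End.mul_apply, ← pow_succ]
  exact hv

/-- Endomorphisms commuting with `N` preserve the flag. -/
theorem commute_mem_ker_pow {N f : Module.End F V} (h : Commute f N) {j : ℕ} {v : V}
    (hv : v ∈ LinearMap.ker (N ^ j)) : f v ∈ LinearMap.ker (N ^ j) := by
  rw [mem_ker_pow, ← Module.End.mul_apply, ← (h.pow_right j).eq, Module.End.mul_apply, mem_ker_pow.1 hv,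
    map_zero]

namespace RegNil

variable {N : Module.End F V} {w : ℕ} (h : RegNil N w)
include h

theorem ker_lt {j : ℕ} (hj : j < w) : LinearMap.ker (N ^ j) < LinearMap.ker (N ^ (j + 1)) := by
  refine lt_of_le_of_ne (ker_pow_mono N j.le_succ) fun e => h.reg ?_
  have hst : ∀ m, ∀ v, (N ^ (j + m)) v = 0 → (N ^ j) v = 0 := by
    intro m
    induction m with
    | zero => exact fun v hv => hv
    | succ m ih =>
      intro v hv
      have h1 : (N ^ (j + m)) (N v) = 0 := by
        rw [← Module.End.mul_apply, ← pow_succ]; exact hv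
      have h2 : v ∈ LinearMap.ker (N ^ (j + 1)) := by
        rw [mem_ker_pow, pow_succ, Module.End.mul_apply]; exact ih _ h1
      rw [← e] at h2
      exact h2
  refine LinearMap.ext fun v => ?_
  have h3 : v ∈ LinearMap.ker (N ^ j) := by
    refine hst (w - j) v ?_
    rw [Nat.add_sub_cancel' hj.le, h.nil]
    rfl
  exact ker_pow_mono N (by omega : j ≤ w - 1) h3

theorem finrank_ker {j : ℕ} (hj : j ≤ w) : finrank F (LinearMap.ker (N ^ j)) = j := by
  have up : ∀ m i, i + m ≤ w →
      finrank F (LinearMap.ker (N ^ i)) + m ≤ finrank F (LinearMap.ker (N ^ (i + m))) := by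
    intro m
    induction m with
    | zero => intro i _; simp
    | succ m ih =>
      intro i hi
      have h1 := ih i (by omega)
      have h2 := Submodule.finrank_lt_finrank_of_lt (h.ker_lt (j := i + m) (by omega))
      rw [show i + (m + 1) = i + m + 1 from rfl]
      omega
  have h1 := up j 0 (by omega)
  have h2 := up (w - j) j (by omega)
  rw [Nat.zero_add] at h1
  rw [Nat.add_sub_cancel' hj] at h2
  have h3 := Submodule.finrank_le (LinearMap.ker (N ^ w))
  rw [h.dim] at h3
  omega

theorem ker_top : LinearMap.ker (N ^ w) = ⊤ := by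
  rw [h.nil]; exact LinearMap.ker_zero

/-- Each step of the flag has codimension one. -/
theorem exists_sub_smul {j : ℕ} (hj : j < w) {x y : V} (hx : x ∈ LinearMap.ker (N ^ (j + 1)))
    (hx' : x ∉ LinearMap.ker (N ^ j)) (hy : y ∈ LinearMap.ker (N ^ (j + 1))) :
    ∃ c : F, y - c • x ∈ LinearMap.ker (N ^ j) := by
  have heq : Submodule.span F {x} ⊔ LinearMap.ker (N ^ j) = LinearMap.ker (N ^ (j + 1)) := by
    refine Submodule.eq_of_le_of_finrank_le
      (sup_le (by simpa using hx) (ker_pow_mono N j.le_succ)) ?_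
    have hlt : LinearMap.ker (N ^ j) < Submodule.span F {x} ⊔ LinearMap.ker (N ^ j) :=
      lt_of_le_of_ne le_sup_right fun e =>
        hx' (e ▸ Submodule.mem_sup_left (Submodule.mem_span_singleton_self x))
    have h1 := Submodule.finrank_lt_finrank_of_lt hlt
    rw [h.finrank_ker hj.le] at h1
    rw [h.finrank_ker hj]
    omega
  rw [← heq] at hy
  obtain ⟨a, ha, b, hb, hab⟩ := Submodule.mem_sup.1 hy
  obtain ⟨c, rfl⟩ := Submodule.mem_span_singleton.1 ha
  exact ⟨c, by rw [← hab, add_sub_cancel_left]; exact hb⟩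

/-- A subspace stable under `N` is a member of the flag. -/
theorem eq_ker_of_stable {X : Submodule F V} (hX : ∀ x ∈ X, N x ∈ X) :
    ∃ j ≤ w, X = LinearMap.ker (N ^ j) := by
  classical
  have hex : ∃ j, X ≤ LinearMap.ker (N ^ j) := ⟨w, by rw [h.ker_top]; exact le_top⟩
  refine ⟨Nat.find hex, Nat.find_le (by rw [h.ker_top]; exact le_top), le_antisymm (Nat.find_spec hex) ?_⟩
  have hjw : Nat.find hex ≤ w := Nat.find_le (by rw [h.ker_top]; exact le_top)
  set j := Nat.find hex with hj
  have hwit : ∀ i, i < j → ∃ x ∈ X, x ∈ LinearMap.ker (N ^ (i + 1)) ∧ x ∉ LinearMap.ker (N ^ i) := by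
    intro i hi
    obtain ⟨x, hxX, hx⟩ : ∃ x ∈ X, x ∉ LinearMap.ker (N ^ (j - 1)) :=
      SetLike.not_le_iff_exists.1 (Nat.find_min hex (show j - 1 < Nat.find hex by omega))
    refine ⟨(N ^ (j - 1 - i)) x, ?_, ?_, fun hc => hx ?_⟩
    · have : ∀ m, (N ^ m) x ∈ X := by
        intro m
        induction m with
        | zero => simpa using hxX
        | succ m ih => rw [pow_succ', Module.End.mul_apply]; exact hX _ ih
      exact this _
    · rw [mem_ker_pow, ← Module.End.mul_apply, ← pow_add, show i + 1 + (j - 1 - i) = j by omega]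
      exact Nat.find_spec hex hxX
    · rw [mem_ker_pow, ← Module.End.mul_apply, ← pow_add, show i + (j - 1 - i) = j - 1 by omega] at hc
      exact hc
  have hle : ∀ i, i ≤ j → LinearMap.ker (N ^ i) ≤ X := by
    intro i
    induction i with
    | zero =>
      intro _ v hv
      rw [mem_ker_pow, pow_zero, Module.End.one_apply] at hv
      rw [hv]; exact X.zero_mem
    | succ i ih =>
      intro hi y hy
      obtain ⟨x, hxX, hx1, hx2⟩ := hwit i (by omega)
      obtain ⟨c, hc⟩ := h.exists_sub_smul (by omega) hx1 hx2 hy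
      have := X.add_mem (ih (by omega) hc) (X.smul_mem c hxX)
      simpa using this
  exact hle j le_rfl

/-- An endomorphism commuting with `N` and killing the bottom of the flag is nilpotent. -/
theorem pow_eq_zero_of_kills {f : Module.End F V} (hf : Commute f N)
    (h1 : ∀ v ∈ LinearMap.ker (N ^ 1), f v = 0) :
    (∀ j, ∀ v ∈ LinearMap.ker (N ^ (j + 1)), f v ∈ LinearMap.ker (N ^ j)) ∧ f ^ w = 0 := by
  have step : ∀ j, ∀ v ∈ LinearMap.ker (N ^ (j + 1)), f v ∈ LinearMap.ker (N ^ j) := by
    intro j v hv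
    rw [mem_ker_pow, ← Module.End.mul_apply, ← (hf.pow_right j).eq, Module.End.mul_apply]
    refine h1 _ ?_
    rw [mem_ker_pow, ← Module.End.mul_apply, ← pow_add, Nat.add_comm]
    exact hv
  refine ⟨step, ?_⟩
  have : ∀ j, ∀ v ∈ LinearMap.ker (N ^ j), (f ^ j) v = 0 := by
    intro j
    induction j with
    | zero => intro v hv; simpa using hv
    | succ j ih =>
      intro v hv
      rw [pow_succ, Module.End.mul_apply]
      exact ih _ (step j v hv)
  exact LinearMap.ext fun v => this w v (by rw [h.ker_top]; trivial)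

end RegNil

/-- The stabiliser of a subspace. -/
def stab (W : Submodule F V) : Subgroup (LinearMap.GeneralLinearGroup F V) where
  carrier := {g | ∀ v, (g : Module.End F V) v ∈ W ↔ v ∈ W}
  one_mem' := fun v => by simp
  mul_mem' := fun {a b} ha hb v => by
    rw [Units.val_mul, Module.End.mul_apply, ha, hb]
  inv_mem' := fun {a} ha v => by
    conv_rhs => rw [show v = (a : Module.End F V) ((↑a⁻¹ : Module.End F V) v) by
      rw [← Module.End.mul_apply, Units.mul_inv]; rfl]
    rw [ha]

theorem mem_stab_iff {W : Submodule F V} {g : LinearMap.GeneralLinearGroup F V} :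
    g ∈ stab W ↔ ∀ v, (g : Module.End F V) v ∈ W ↔ v ∈ W := Iff.rfl

theorem mem_stab {W : Submodule F V} {g : LinearMap.GeneralLinearGroup F V}
    (h : ∀ v ∈ W, (g : Module.End F V) v ∈ W) : g ∈ stab W := by
  have hinj : Function.Injective (g : Module.End F V) :=
    Function.LeftInverse.injective (g := (↑g⁻¹ : Module.End F V)) fun v => by
      rw [← Module.End.mul_apply, Units.inv_mul]; rfl
  intro v
  refine ⟨fun hv => ?_, h v⟩
  have hle : W.map (g : Module.End F V) ≤ W := Submodule.map_le_iff_le_comap.2 h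
  have heq : W.map (g : Module.End F V) = W := Submodule.eq_of_le_of_finrank_le hle
    (le_of_eq (Submodule.equivMapOfInjective _ hinj W).finrank_eq)
  rw [← heq] at hv
  obtain ⟨u, hu, e⟩ := Submodule.mem_map.1 hv
  exact hinj e ▸ hu

end Cfsg.Agent.MaxClassEss
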