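import Cfsg.Agent.Lib.MaxClassEss.Alperin
import Cfsg.Agent.Lib.MaxClassEss.Window
import Cfsg.Agent.Lib.HallHigman.TheoremB
import Cfsg.Agent.Lib.HHShult.Perfect.Restrict
import Cfsg.Agent.Lib.FpfAutomizer.Shult

/-!
# Automorphism groups of the first two-step centralizer with small invariant gaps (owner: helper59)

* `commute_of_nil` : a unipotent element of degree at most `p - 2` centralises the `p'`-group it normalises;
* `normalizes_autS` : if the gaps between the `K`-invariant layers are at most `p - 2`, `Aut_S(Γ₁)` is normal in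
  `K ⊔ Aut_S(Γ₁)`, so an automorphism normalising that group normalises `Aut_S(Γ₁)`;
* `extends_to_S` : such automorphisms extend to `S`;
* `exists_level_step` : the gaps from two invariant layers less than `p - 1` apart.
-/

set_option autoImplicit false
set_option linter.unusedSectionVars false
set_option linter.style.haveILetI false

open Subgroup
open scoped commutatorElement

universe u

namespace Cfsg.Agent.MaxClassEss

open Cfsg Cfsg.FusionSystem Cfsg.Agent.Fusion MaxClassPower PearlRank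

section Linear

variable {p : ℕ} [hp : Fact p.Prime]

/-- An element of order `p` with `(x - 1) ^ (p - 2) = 0` centralises the `p'`-group it normalises. -/
theorem commute_of_nil {G : Type*} [Group G] [Finite G] {V : Type*} [AddCommGroup V] [Module (ZMod p) V]
    [Finite V] (ρ : G →* Module.End (ZMod p) V) (hρ : Function.Injective ρ) (K : Subgroup G) [K.Normal]
    (hK : ¬ p ∣ Nat.card K) {t : G} (htp : t ^ p = 1) (hgen : K ⊔ zpowers t = ⊤)
    (hr : (ρ t - 1) ^ (p - 2) = 0) : ∀ k ∈ K, Commute t k := by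
  classical
  have hp2 := hp.out.two_le
  haveI : FiniteDimensional (ZMod p) V := Module.Finite.of_finite
  have hcop : ∀ {m : ℕ}, (Nat.card K).Coprime (p ^ m) := fun {m} =>
    (Nat.Coprime.pow_right m ((hp.out.coprime_iff_not_dvd.2 hK).symm))
  have hzt : IsPGroup p (zpowers t) := by
    rintro ⟨y, hy⟩
    obtain ⟨k, rfl⟩ := mem_zpowers_iff.1 hy
    refine ⟨1, Subtype.ext ?_⟩
    simp only [pow_one, SubmonoidClass.coe_pow, OneMemClass.coe_one]
    rw [← zpow_natCast, ← zpow_mul, mul_comm, zpow_mul, zpow_natCast, htp, one_zpow]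
  -- the quotient by `K` is generated by the image of `t`
  have hq : ∀ g : G, ∃ j : ℤ, g * (t ^ j)⁻¹ ∈ K := fun g => by
    have hg : g ∈ K ⊔ zpowers t := hgen.symm ▸ mem_top g
    rw [Subgroup.mem_sup_of_normal_left] at hg
    obtain ⟨k, hk, y, hy, rfl⟩ := hg
    obtain ⟨j, rfl⟩ := mem_zpowers_iff.1 hy
    exact ⟨j, by rwa [mul_inv_cancel_right]⟩
  have hidx : K.index ∣ p := by
    have htop : zpowers (QuotientGroup.mk' K t) = ⊤ := by
      refine eq_top_iff.2 fun y _ => ?_
      obtain ⟨g, rfl⟩ := QuotientGroup.mk'_surjective K y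
      obtain ⟨j, hj⟩ := hq g
      refine mem_zpowers_iff.2 ⟨j, ?_⟩
      rw [← map_zpow, eq_comm, ← mul_inv_eq_one, ← map_inv, ← map_mul]
      exact (QuotientGroup.eq_one_iff _).2 hj
    rw [index_eq_card, ← card_top (G := G ⧸ K), ← htop, Nat.card_zpowers]
    exact orderOf_dvd_of_pow_eq_one (by rw [← map_pow, htp, map_one])
  intro k hk
  by_cases hO : Cfsg.pCore p G = ⊥
  · -- no normal `p`-subgroup
    by_cases ht1 : t = 1
    · rw [ht1]; exact Commute.one_left k
    exfalso
    have hsep : Solvable.IsPiSeparable {p} G := by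
      refine Solvable.isPiSeparable_of_chain (n := 2) ![⊥, K, ⊤] rfl rfl ?_ ?_
      · intro i
        fin_cases i <;> simp <;> infer_instance
      · intro i
        fin_cases i
        · refine Or.inr fun q hq' hqd hqp => hK ?_
          obtain rfl : q = p := hqp
          simpa [Subgroup.relIndex_bot_left] using hqd
        · refine Or.inl fun q hq' hqd => ?_
          have : q ∣ p := (show q ∣ K.index by simpa [Subgroup.relIndex_top_right] using hqd).trans hidx
          exact (Nat.prime_dvd_prime_iff_eq hq' hp.out).1 this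
    have hord : orderOf t = p ^ (0 + 1) := by rw [zero_add, pow_one]; exact orderOf_eq_prime htp ht1
    rcases HallHigman.theorem_b ρ hρ hsep hO t hord hr with h | ⟨n₀, q, m, h1, h2, -, -, -, -, h3, -⟩
    · simp only [zero_add, pow_one] at h; omega
    · obtain rfl : n₀ = 1 := by omega
      simp only [zero_add, Nat.sub_self, pow_zero, pow_one, one_mul] at h3
      omega
  · -- `t` lies in the normal `p`-subgroup
    set N := Cfsg.pCore p G with hN
    haveI hNn : N.Normal := Subgroup.sSup_normal _ fun _ h => h.1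
    have hNp : IsPGroup p N := Sylow.sSup_of_normal {M : Subgroup G | M.Normal ∧ IsPGroup p M}
      (fun _ h => h.2) (fun _ h => h.1)
    have hdisj : ∀ P : Subgroup G, IsPGroup p P → ∀ g ∈ P, g ∈ K → g = 1 := by
      intro P hP g hg hgK
      obtain ⟨j, hj⟩ := hP ⟨g, hg⟩
      have h1 : g ^ p ^ j = 1 := congrArg Subtype.val hj
      have h2 : g ^ Nat.card K = 1 := by
        exact congrArg Subtype.val (pow_card_eq_one' (x := (⟨g, hgK⟩ : K)))
      simpa [hcop.gcd_eq_one] using pow_gcd_eq_one.2 ⟨h2, h1⟩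
    set P := zpowers t ⊔ N with hPdef
    have hP : IsPGroup p P := hzt.to_sup_of_normal_right hNp
    have hcard : Nat.card P ≤ p := by
      have hinj : Function.Injective ((QuotientGroup.mk' K).comp P.subtype) := by
        rw [injective_iff_map_eq_one]
        intro x hx
        exact Subtype.ext (hdisj P hP x x.2 ((QuotientGroup.eq_one_iff _).1 hx))
      refine (Nat.card_le_card_of_injective _ hinj).trans ?_
      rw [← index_eq_card]
      exact Nat.le_of_dvd hp.out.pos hidx
    have htN : t ∈ N := by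
      have hpN : p ≤ Nat.card N := by
        obtain ⟨j, hj⟩ := IsPGroup.iff_card.1 hNp
        rcases j with _ | j
        · exact absurd (Subgroup.eq_bot_of_card_eq N (by simpa using hj)) hO
        · rw [hj, pow_succ]; exact Nat.le_mul_of_pos_left _ (pow_pos hp.out.pos _)
      rw [Subgroup.eq_of_le_of_card_ge (le_sup_right : N ≤ P) (hcard.trans hpN)]
      exact mem_sup_left (mem_zpowers t)
    have h1 : ⁅t, k⁆ ∈ N ⊓ K := commutator_le_inf N K (commutator_mem_commutator htN hk)
    exact commutatorElement_eq_one_iff_commute.1 (hdisj N hNp _ h1.1 h1.2)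

/-- `commute_of_nil` for automorphisms of an abelian group of exponent `p`. -/
theorem commute_of_nil_mulAut {W : Type*} [CommGroup W] [Finite W] (hW : ∀ w : W, w ^ p = 1)
    (G : Subgroup (MulAut W)) [Finite G] (K : Subgroup G) [K.Normal] (hK : ¬ p ∣ Nat.card K) {t : G}
    (htp : t ^ p = 1) (hgen : K ⊔ zpowers t = ⊤)
    (hr : ∀ w, (fun w : W => w⁻¹ * (t : MulAut W) w)^[p - 2] w = 1) : ∀ k ∈ K, Commute t k := by
  let _ : Module (ZMod p) (Additive W) := AddCommGroup.zmodModule (n := p) fun v => hW (Additive.toMul v)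
  haveI : Finite (Additive W) := inferInstanceAs (Finite W)
  let ρ : G →* Module.End (ZMod p) (Additive W) := (FpfAutomizer.toEnd (p := p) W).comp G.subtype
  refine commute_of_nil ρ ((FpfAutomizer.toEnd_injective W).comp G.subtype_injective) K hK htp hgen ?_
  have h : ∀ d, ∀ w : W, ((ρ t - 1) ^ d) (Additive.ofMul w) =
      Additive.ofMul ((fun w : W => w⁻¹ * (t : MulAut W) w)^[d] w) := by
    intro d
    induction d with
    | zero => exact fun w => rfl
    | succ d ih =>
      intro w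
      rw [pow_succ, Module.End.mul_apply, Function.iterate_succ_apply, ← ih]
      congr 1
      show Additive.ofMul ((t : MulAut W) w) - Additive.ofMul w = _
      rw [← ofMul_div, div_eq_inv_mul]
  refine LinearMap.ext fun v => ?_
  exact (h (p - 2) (Additive.toMul v)).trans (congrArg Additive.ofMul (hr _))

end Linear

variable {p n : ℕ} [hp : Fact p.Prime] {Ω : Type u} [Group Ω] {S : Subgroup Ω} [Finite S]
  {F : FusionSystem S}

/-- `K` leaves the layer `L r` of `Γ₁` invariant. -/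
def Inv (K : Subgroup (MulAut (GammaOne S))) (r : ℕ) : Prop :=
  ∀ κ ∈ K, ∀ x : GammaOne S, incl gamma_le x ∈ L S r → incl gamma_le (κ x) ∈ L S r

theorem inv_zero (K : Subgroup (MulAut (GammaOne S))) : Inv K 0 := fun _ _ _ _ => mem_L_zero _

theorem inv_top (c : Mc S p n) (K : Subgroup (MulAut (GammaOne S))) {r : ℕ} (hr : n - 1 ≤ r) : Inv K r := by
  intro κ _ x hx
  rw [c.L_bot hr, mem_bot] at hx ⊢
  rw [(map_eq_one_iff _ (Subgroup.inclusion_injective gamma_le)).1 hx, map_one, map_one]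

theorem incl_mem_twoStep (x : GammaOne S) : incl gamma_le x ∈ twoStep S 1 := (mem_gamma (gamma_le x.2)).1 x.2

theorem conj_mem_gamma {g : Ω} (hg : g ∈ S) {x : Ω} (hx : x ∈ GammaOne S) : g * x * g⁻¹ ∈ GammaOne S := by
  obtain ⟨y, hy, rfl⟩ := hx
  exact ⟨⟨g, hg⟩ * y * ⟨g, hg⟩⁻¹, (twoStep_normal 1).conj_mem y hy _, rfl⟩

theorem normalizerIn_gamma : normalizerIn S (GammaOne S) = S := by
  haveI := finite_of_le (S := S) (gamma_le (S := S))
  exact le_antisymm inf_le_left fun _ hg => mem_normalizerIn_of_conj hg fun _ hx => conj_mem_gamma hg hx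

theorem fullyNormalized_gamma : F.IsFullyNormalized (GammaOne S) :=
  ⟨gamma_le, fun Q _ => by
    rw [normalizerIn_gamma]
    exact Nat.card_le_card_of_injective _ (Subgroup.inclusion_injective (inf_le_left : normalizerIn S Q ≤ S))⟩

/-- The automorphisms in `Aut_S(Γ₁)` are conjugations by elements of `S`. -/
theorem exists_conj_autS {a : MulAut (GammaOne S)} (ha : a ∈ autInducedBy S (GammaOne S)) :
    ∃ g : S, ∀ x : GammaOne S, incl gamma_le (a x) = g * incl gamma_le x * g⁻¹ := by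
  obtain ⟨g, hg, h⟩ := mem_autInducedBy_iff.1 ha
  exact ⟨⟨g, hg⟩, fun x => Subtype.ext (h x)⟩

theorem inv_autS (r : ℕ) {a : MulAut (GammaOne S)} (ha : a ∈ autInducedBy S (GammaOne S)) {x : GammaOne S}
    (hx : incl gamma_le x ∈ L S r) : incl gamma_le (a x) ∈ L S r := by
  obtain ⟨g, hg⟩ := exists_conj_autS ha
  rw [hg]
  exact (inferInstance : (L S r).Normal).conj_mem _ hx g

theorem sub_autS {r : ℕ} {a : MulAut (GammaOne S)} (ha : a ∈ autInducedBy S (GammaOne S)) {x : GammaOne S}
    (hx : incl gamma_le x ∈ L S r) : incl gamma_le (x⁻¹ * a x) ∈ L S (r + 1) := by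
  obtain ⟨g, hg⟩ := exists_conj_autS ha
  rw [map_mul, map_inv, hg]
  set y := incl gamma_le x
  have : y⁻¹ * (g * y * g⁻¹) = ⁅y⁻¹, g⁆ := by rw [commutatorElement_def]; group
  rw [this]
  exact commutator_mem_commutator (inv_mem hx) (mem_top g)

theorem pow_mem_succ (c : Mc S p n) (h4 : 4 ≤ n) {r : ℕ} {x : GammaOne S} (hx : incl gamma_le x ∈ L S r) :
    incl gamma_le (x ^ p) ∈ L S (r + 1) := by
  have hp2 := hp.out.two_le
  rw [map_pow]
  rcases Nat.eq_zero_or_pos r with rfl | hr
  · haveI : ((L S 1).subgroupOf (twoStep S 1)).Normal := inferInstance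
    have hidx : ((L S 1).subgroupOf (twoStep S 1)).index = p := by
      have h := ((L S 1).subgroupOf (twoStep S 1)).card_mul_index
      rw [Nat.card_congr (subgroupOfEquivOfLe (L_one_le_twoStep (X := S) 1)).toEquiv, c.card_L le_rfl,
        c.card_twoStep le_rfl (by omega), show n - 1 = n - 1 - 1 + 1 by omega, pow_succ] at h
      exact Nat.eq_of_mul_eq_mul_left (pow_pos hp.out.pos _) h
    have h := Subgroup.pow_index_mem ((L S 1).subgroupOf (twoStep S 1)) ⟨_, incl_mem_twoStep x⟩
    rw [hidx] at h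
    exact h
  · obtain ⟨s, hs⟩ := c.exists_good
    exact L_anti (by omega) (hs.pow_mem hr _ hx)

/-- Between two invariant layers without another one, the section is elementary abelian and central. -/
theorem layer_central (c : Mc S p n) (h4 : 4 ≤ n) {K : Subgroup (MulAut (GammaOne S))} {r q : ℕ} (hrq : r < q)
    (hr : Inv K r) (hmin : ∀ j, r < j → j < q → ¬ Inv K j) {x : GammaOne S}
    (hx : incl gamma_le x ∈ L S r) :
    incl gamma_le (x ^ p) ∈ L S q ∧ ∀ g : GammaOne S, incl gamma_le ⁅g, x⁆ ∈ L S q := by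
  classical
  haveI := finite_of_le (S := S) (gamma_le (S := S))
  let gen : Set (GammaOne S) :=
    {y | ∃ z : GammaOne S, incl gamma_le z ∈ L S r ∧ (y = z ^ p ∨ ∃ g : GammaOne S, y = ⁅g, z⁆)}
  let H : Subgroup (GammaOne S) := closure gen
  suffices hH : H ≤ (L S q).comap (incl gamma_le) by
    exact ⟨hH (subset_closure ⟨x, hx, Or.inl rfl⟩), fun g => hH (subset_closure ⟨x, hx, Or.inr ⟨g, rfl⟩⟩)⟩
  -- automorphisms preserving the layer preserve `H`
  have hinv : ∀ a : MulAut (GammaOne S), (∀ z, incl gamma_le z ∈ L S r → incl gamma_le (a z) ∈ L S r) →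
      ∀ y ∈ H, a y ∈ H := by
    intro a ha y hy
    have : H ≤ H.comap a.toMonoidHom := (closure_le _).2 fun y hy => by
      obtain ⟨z, hz, rfl | ⟨g, rfl⟩⟩ := hy
      · exact subset_closure ⟨a z, ha z hz, Or.inl (map_pow a z p)⟩
      · exact subset_closure ⟨a z, ha z hz, Or.inr ⟨a g, map_commutatorElement a g z⟩⟩
    exact this hy
  have hsucc : H ≤ (L S (r + 1)).comap (incl gamma_le) := (closure_le _).2 fun y hy => by
    obtain ⟨z, hz, rfl | ⟨g, rfl⟩⟩ := hy
    · exact pow_mem_succ c h4 hz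
    · rw [SetLike.mem_coe, mem_comap, map_commutatorElement, ← commutatorElement_inv]
      exact inv_mem (commutator_mem_commutator hz (mem_top _))
  suffices hstep : ∀ j, r < j → j ≤ q → H ≤ (L S j).comap (incl gamma_le) from hstep q hrq le_rfl
  intro j hj
  induction j, hj using Nat.le_induction with
  | base => exact fun _ => hsucc
  | succ j hj ih =>
    intro hjq
    have hHj := ih (by omega)
    by_contra hle
    obtain ⟨y, hy, hyj⟩ := SetLike.not_le_iff_exists.1 hle
    have hlow : j ≤ n - 2 := by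
      by_contra h
      exact hyj (mem_comap.2 (by
        have h1 := hHj hy
        rw [mem_comap, c.L_bot (by omega), mem_bot] at h1
        rw [h1]; exact one_mem _))
    obtain ⟨s, hs⟩ := c.exists_good
    have hconj : ∀ h ∈ H.map (incl gamma_le), s * h * s⁻¹ ∈ H.map (incl gamma_le) := by
      rintro _ ⟨w, hw, rfl⟩
      have hsN : (s : Ω) ∈ normalizerIn S (GammaOne S) := by rw [normalizerIn_gamma]; exact s.2
      have hm : normConj S (GammaOne S) ⟨s, hsN⟩ ∈ autInducedBy S (GammaOne S) := range_normConj S _ ▸ ⟨_, rfl⟩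
      refine ⟨normConj S (GammaOne S) ⟨s, hsN⟩ w, hinv _ (fun z hz => inv_autS r hm hz) w hw, ?_⟩
      rw [normConj_apply_incl]
    have hL : L S j ≤ H.map (incl gamma_le) :=
      invariant_le c hs hconj (show 1 ≤ j by omega) (mem_map_of_mem _ hy) ⟨hHj hy, hyj⟩
    refine hmin j (by omega) (by omega) fun κ hκ z hz => ?_
    obtain ⟨w, hw, hwz⟩ := hL hz
    rw [Subgroup.inclusion_injective gamma_le hwz] at hw
    exact hHj (hinv κ (fun u hu => hr κ hκ u hu) z hw)

/-- The automorphisms leaving the layer `L r` invariant. -/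
def levelStab (S : Subgroup Ω) [Finite S] (r : ℕ) : Subgroup (MulAut (GammaOne S)) :=
  haveI := finite_mulAut (S := S) (gamma_le (S := S))
  let M : Submonoid (MulAut (GammaOne S)) :=
    { carrier := {a | ∀ x : GammaOne S, incl gamma_le x ∈ L S r → incl gamma_le (a x) ∈ L S r}
      one_mem' := fun _ h => h
      mul_mem' := fun ha hb x hx => ha _ (hb x hx) }
  { M with
    inv_mem' := fun {a} ha => by
      have h : a⁻¹ = a ^ (orderOf a - 1) := inv_eq_of_mul_eq_one_right (by
        rw [← pow_succ', Nat.sub_add_cancel (orderOf_pos a), pow_orderOf_eq_one])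
      rw [h]
      exact M.pow_mem ha _ }

/-- The action of `S` on `Γ₁`. -/
noncomputable def conjS (S : Subgroup Ω) [Finite S] : S →* MulAut (GammaOne S) :=
  (normConj S (GammaOne S)).comp (Subgroup.inclusion (normalizerIn_gamma (S := S)).ge)

theorem conjS_mem (g : S) : conjS S g ∈ autInducedBy S (GammaOne S) :=
  range_normConj S (GammaOne S) ▸ ⟨_, rfl⟩

theorem range_conjS : (conjS S).range = autInducedBy S (GammaOne S) := by
  refine le_antisymm (by rintro _ ⟨g, rfl⟩; exact conjS_mem g) fun a ha => ?_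
  obtain ⟨g, hg⟩ := exists_conj_autS ha
  exact ⟨g, MulEquiv.ext fun x => Subgroup.inclusion_injective gamma_le (by
    rw [hg]; exact Subtype.ext rfl)⟩

theorem conjS_mem_inn {g : S} (hg : g ∈ twoStep S 1) : conjS S g ∈ Cfsg.Inn (GammaOne S) :=
  ⟨⟨g, (mem_gamma g.2).2 hg⟩, MulEquiv.ext fun _ => Subtype.ext rfl⟩

variable {K : Subgroup (MulAut (GammaOne S))}

/-- On a minimal invariant section of length at most `p - 2` the group `K` commutes with `Aut_S(Γ₁)`. -/
theorem layer_commute (c : Mc S p n) (h4 : 4 ≤ n)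
    (hKn : ∀ a ∈ autInducedBy S (GammaOne S), ∀ κ ∈ K, a * κ * a⁻¹ ∈ K)
    (hel : ∀ κ ∈ K, (∃ k, κ ^ p ^ k = 1) → κ ∈ Cfsg.Inn (GammaOne S)) {cs : MulAut (GammaOne S)}
    (hcs : cs ∈ autInducedBy S (GammaOne S)) (hcsp : cs ^ p ∈ Cfsg.Inn (GammaOne S))
    {r q : ℕ} (hrq : r < q) (hqr : q ≤ r + (p - 2)) (hr : Inv K r) (hq : Inv K q)
    (hmin : ∀ j, r < j → j < q → ¬ Inv K j) {κ : MulAut (GammaOne S)} (hκ : κ ∈ K) {x : GammaOne S}
    (hx : incl gamma_le x ∈ L S r) : incl gamma_le (x⁻¹ * (κ * cs * κ⁻¹ * cs⁻¹) x) ∈ L S q := by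
  classical
  haveI := finite_of_le (S := S) (gamma_le (S := S))
  haveI := finite_mulAut (S := S) (gamma_le (S := S))
  let V : Subgroup (GammaOne S) := (L S r).comap (incl gamma_le)
  let U : Subgroup V := ((L S q).comap (incl gamma_le)).subgroupOf V
  let E : Subgroup (MulAut (GammaOne S)) := K ⊔ zpowers cs
  have hstab : ∀ j, Inv K j → E ≤ levelStab S j := fun j hj =>
    sup_le (fun a ha => hj a ha) (zpowers_le.2 fun z hz => inv_autS j hcs hz)
  let Φ₀ : E →* MulAut V := HHShult.Perfect.restrictHom E.subtype V fun e z hz => hstab r hr e.2 z hz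
  haveI : U.Normal := inferInstance
  let Φ : E →* MulAut (V ⧸ U) := HHShult.Perfect.quotHom U Φ₀ fun e z hz => hstab q hq e.2 z.1 hz
  have hΦ : ∀ (e : E) (z : V), Φ e (z : V ⧸ U) = ((Φ₀ e z : V) : V ⧸ U) := fun _ _ => rfl
  have hlay : ∀ z : V, incl gamma_le ((z : GammaOne S) ^ p) ∈ L S q ∧
      ∀ g : GammaOne S, incl gamma_le ⁅g, (z : GammaOne S)⁆ ∈ L S q :=
    fun z => layer_central c h4 hrq hr hmin z.2
  let _ : CommGroup (V ⧸ U) :=
    { (inferInstance : Group (V ⧸ U)) with
      mul_comm := by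
        intro a b
        induction a using QuotientGroup.induction_on with
        | H a =>
          induction b using QuotientGroup.induction_on with
          | H b =>
            refine (QuotientGroup.eq).2 ?_
            have h := (hlay a⁻¹).2 ((b : GammaOne S))⁻¹
            have e : ((a * b)⁻¹ * (b * a) : V) = ⁅b⁻¹, a⁻¹⁆ := by rw [commutatorElement_def]; group
            rw [e]
            exact h }
  have hexp : ∀ w : V ⧸ U, w ^ p = 1 := fun w => by
    induction w using QuotientGroup.induction_on with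
    | H z => exact (QuotientGroup.eq_one_iff (z ^ p : V)).2 (hlay z).1
  -- inner automorphisms act trivially
  have hinn : ∀ e : E, (e : MulAut (GammaOne S)) ∈ Cfsg.Inn (GammaOne S) → Φ e = 1 := by
    rintro e ⟨g, hg⟩
    refine MulEquiv.ext fun w => QuotientGroup.induction_on w fun z => ?_
    rw [hΦ, MulAut.one_apply, eq_comm, QuotientGroup.eq]
    show incl gamma_le ((z : GammaOne S)⁻¹ * (e : MulAut (GammaOne S)) z) ∈ L S q
    rw [← hg, MulAut.conj_apply]
    have e1 : (z : GammaOne S)⁻¹ * (g * z * g⁻¹) = ⁅g, ((z⁻¹ : V) : GammaOne S)⁆⁻¹ := by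
      rw [InvMemClass.coe_inv, commutatorElement_def]; group
    rw [e1, map_inv]
    exact inv_mem ((hlay z⁻¹).2 g)
  let G : Subgroup (MulAut (V ⧸ U)) := Φ.range
  let π : E →* G := Φ.rangeRestrict
  have hπ : Function.Surjective π := Φ.rangeRestrict_surjective
  haveI : Finite G := Finite.of_surjective _ hπ
  have hKE : K ≤ E := le_sup_left
  have hcE : cs ∈ E := mem_sup_right (mem_zpowers cs)
  haveI hKnE : (K.subgroupOf E).Normal := by
    refine (Subgroup.normal_subgroupOf_iff_le_normalizer hKE).2 (sup_le le_normalizer (zpowers_le.2 ?_))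
    have hc' := (autInducedBy S (GammaOne S)).inv_mem hcs
    refine Subgroup.mem_normalizer_iff.2 fun a => ⟨fun ha => hKn cs hcs a ha, fun ha => ?_⟩
    have h := hKn _ hc' _ ha
    rwa [show cs⁻¹ * (cs * a * cs⁻¹) * cs⁻¹⁻¹ = a by group] at h
  let Kg : Subgroup G := (K.subgroupOf E).map π
  haveI : Kg.Normal := Subgroup.Normal.map hKnE π hπ
  have hKp : ¬ p ∣ Nat.card Kg := by
    intro hdvd
    obtain ⟨⟨y, e, he, rfl⟩, hy⟩ := exists_prime_orderOf_dvd_card' p hdvd
    obtain ⟨a, m, hm, ho⟩ := Nat.exists_eq_pow_mul_and_not_dvd (orderOf_pos (e : MulAut (GammaOne S))).ne' p hp.out.ne_one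
    have h1 : ((e : MulAut (GammaOne S)) ^ m) ^ p ^ a = 1 := by
      rw [← pow_mul, mul_comm, ← ho, pow_orderOf_eq_one]
    have h2 : π (e ^ m) = 1 := Subtype.ext (hinn (e ^ m) (hel _ (pow_mem he m) ⟨a, h1⟩))
    refine hm (hy ▸ orderOf_dvd_of_pow_eq_one (Subtype.ext ?_))
    show π e ^ m = 1
    rw [← map_pow, h2]
  let t : G := π ⟨cs, hcE⟩
  have htp : t ^ p = 1 := by
    rw [← map_pow]
    exact Subtype.ext (hinn _ hcsp)
  have hgen : Kg ⊔ zpowers t = ⊤ := by
    refine eq_top_iff.2 fun y _ => ?_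
    obtain ⟨e, rfl⟩ := hπ y
    have h : (⊤ : Subgroup E) ≤ K.subgroupOf E ⊔ zpowers (⟨cs, hcE⟩ : E) := by
      intro w _
      have hw : (w : MulAut (GammaOne S)) ∈
          (K.subgroupOf E ⊔ zpowers (⟨cs, hcE⟩ : E)).map E.subtype := by
        rw [Subgroup.map_sup, map_subgroupOf_eq_of_le hKE, MonoidHom.map_zpowers]
        exact w.2
      exact (Subgroup.mem_map_iff_mem E.subtype_injective).1 hw
    have h' := Subgroup.mem_map_of_mem π (h (mem_top e))
    rwa [Subgroup.map_sup, MonoidHom.map_zpowers] at h'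
  -- the conjugation lowers one level
  have hnil : ∀ d, ∀ z : V, incl gamma_le (z : GammaOne S) ∈ L S (q - d) →
      (fun w : V ⧸ U => w⁻¹ * (t : MulAut (V ⧸ U)) w)^[d] (z : V ⧸ U) = 1 := by
    intro d
    induction d with
    | zero => exact fun z hz => (QuotientGroup.eq_one_iff z).2 hz
    | succ d ih =>
      intro z hz
      rw [Function.iterate_succ_apply]
      exact ih (z⁻¹ * Φ₀ ⟨cs, hcE⟩ z) (L_anti (by omega) (sub_autS hcs hz))
  have hr0 : ∀ w, (fun w : V ⧸ U => w⁻¹ * (t : MulAut (V ⧸ U)) w)^[p - 2] w = 1 := fun w => by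
    induction w using QuotientGroup.induction_on with
    | H z => exact hnil (p - 2) z (L_anti (by omega) z.2)
  have hcomm : Φ ⟨cs, hcE⟩ * Φ ⟨κ, hKE hκ⟩ = Φ ⟨κ, hKE hκ⟩ * Φ ⟨cs, hcE⟩ :=
    congrArg Subtype.val (commute_of_nil_mulAut hexp G Kg hKp htp hgen hr0 (π ⟨κ, hKE hκ⟩)
      (mem_map_of_mem π (show (⟨κ, hKE hκ⟩ : E) ∈ K.subgroupOf E from hκ))).eq
  have h1 : Φ (⟨κ, hKE hκ⟩ * ⟨cs, hcE⟩ * (⟨κ, hKE hκ⟩ : E)⁻¹ * (⟨cs, hcE⟩ : E)⁻¹) = 1 := by
    simp only [map_mul, map_inv]
    rw [← hcomm]; group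
  have h2 := DFunLike.congr_fun h1 ((⟨x, hx⟩ : V) : V ⧸ U)
  rw [hΦ, MulAut.one_apply, eq_comm, QuotientGroup.eq] at h2
  exact h2

/-- If the gaps between invariant layers are at most `p - 2`, an automorphism moving `Aut_S(Γ₁)` inside
`K ⊔ Aut_S(Γ₁)` normalises it; in particular the elements of `K` do. -/
theorem normalizes_autS (c : Mc S p n) (h4 : 4 ≤ n)
    (hKn : ∀ a ∈ autInducedBy S (GammaOne S), ∀ κ ∈ K, a * κ * a⁻¹ ∈ K)
    (hel : ∀ κ ∈ K, (∃ k, κ ^ p ^ k = 1) → κ ∈ Cfsg.Inn (GammaOne S))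
    (hlev : ∀ r, r < n - 1 → ∃ q, r < q ∧ q ≤ r + (p - 2) ∧ q ≤ n - 1 ∧ Inv K q)
    {γ : MulAut (GammaOne S)}
    (hγ : ∀ a ∈ autInducedBy S (GammaOne S), γ * a * γ⁻¹ ∈ K ⊔ autInducedBy S (GammaOne S)) :
    ∀ a ∈ autInducedBy S (GammaOne S), γ * a * γ⁻¹ ∈ autInducedBy S (GammaOne S) := by
  classical
  have hS : IsPGroup p S := c.pGroup
  haveI := finite_of_le (S := S) (gamma_le (S := S))
  haveI := finite_mulAut (S := S) (gamma_le (S := S))
  set A := autInducedBy S (GammaOne S) with hA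
  obtain ⟨s, hs⟩ := c.exists_good
  set cs := conjS S s with hcsdef
  have hsp : s ^ p ∈ twoStep S 1 := by
    have hidx : (twoStep S 1).index = p := by
      have h := (twoStep S 1).card_mul_index
      rw [c.card, c.card_twoStep le_rfl (by omega)] at h
      conv_rhs at h => rw [show n = n - 1 + 1 by omega, pow_succ]
      exact Nat.eq_of_mul_eq_mul_left (pow_pos hp.out.pos _) h
    have h := Subgroup.pow_index_mem (twoStep S 1) s
    rwa [hidx] at h
  have hcsp : cs ^ p ∈ Cfsg.Inn (GammaOne S) := by rw [hcsdef, ← map_pow]; exact conjS_mem_inn hsp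
  -- `Aut_S(Γ₁)` is generated by `cs` and inner automorphisms
  have hAgen : A ≤ Cfsg.Inn (GammaOne S) ⊔ zpowers cs := by
    rw [hA, ← range_conjS, MonoidHom.range_eq_map,
      ← sup_good_eq_top c (i := 1) le_rfl (by omega) (c.not_mem_twoStep hs le_rfl (by omega)),
      Subgroup.map_sup, MonoidHom.map_zpowers]
    refine sup_le_sup_right ?_ _
    rintro _ ⟨g, hg, rfl⟩
    exact conjS_mem_inn hg
  -- the least invariant level above a given one
  have hex : ∀ j, ∃ q, j ≤ q ∧ Inv K q := fun j => ⟨max j (n - 1), le_max_left .., inv_top c K (le_max_right ..)⟩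
  let f : ℕ → ℕ := fun j => Nat.find (hex j)
  have hf : ∀ j, j ≤ f j ∧ Inv K (f j) := fun j => Nat.find_spec (hex j)
  have hfle : ∀ j q, j ≤ q → Inv K q → f j ≤ q := fun j q h1 h2 => Nat.find_min' (hex j) ⟨h1, h2⟩
  let U : ℕ → Subgroup (GammaOne S) := fun i => (L S (f (n - 1 - i))).comap (incl gamma_le)
  have hmono : ∀ i < n - 1, U i ≤ U (i + 1) := fun i _ =>
    comap_mono (L_anti (hfle _ _ ((by omega : n - 1 - (i + 1) ≤ n - 1 - i).trans (hf _).1) (hf _).2))
  have hpst : IsPGroup p (stabSub (n - 1) U hmono) := by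
    refine isPGroup_stabSub (hS.to_le gamma_le) ?_ ?_ _
    · refine eq_bot_iff.2 fun x hx => ?_
      have hx' : incl gamma_le x ∈ L S (f (n - 1 - 0)) := hx
      rw [c.L_bot ((hf (n - 1 - 0)).1.trans' (by omega)), mem_bot] at hx'
      exact mem_bot.2 ((map_eq_one_iff _ (Subgroup.inclusion_injective gamma_le)).1 hx')
    · refine eq_top_iff.2 fun x _ => ?_
      show incl gamma_le x ∈ L S (f (n - 1 - (n - 1)))
      rw [Nat.le_zero.1 ((hfle _ 0 (by omega) (inv_zero K)))]
      exact mem_L_zero _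
  have hcomm : ∀ κ ∈ K, κ * cs * κ⁻¹ * cs⁻¹ ∈ Cfsg.Inn (GammaOne S) := by
    intro κ hκ
    have hb : κ * cs * κ⁻¹ * cs⁻¹ ∈ K := by
      have h := K.mul_mem hκ (hKn cs (conjS_mem s) _ (K.inv_mem hκ))
      rwa [← mul_assoc, ← mul_assoc] at h
    refine hel _ hb ?_
    have hmem : κ * cs * κ⁻¹ * cs⁻¹ ∈ stabSub (n - 1) U hmono := by
      refine mem_stabSub.2 fun i hi x hx => ?_
      show incl gamma_le (x⁻¹ * (κ * cs * κ⁻¹ * cs⁻¹) x) ∈ L S (f (n - 1 - i))
      have hx' : incl gamma_le x ∈ L S (f (n - 1 - (i + 1))) := hx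
      set j := n - 1 - (i + 1) with hj
      rw [show n - 1 - i = j + 1 by omega]
      by_cases hjr : j + 1 ≤ f j
      · refine L_anti (hfle _ _ hjr (hf j).2) ?_
        rw [map_mul, map_inv]
        exact mul_mem (inv_mem hx') ((hf j).2 _ hb x hx')
      · have hfj : f j = j := by have := (hf j).1; omega
        rw [hfj] at hx'
        obtain ⟨q, hq1, hq2, -, hq3⟩ := hlev j (by omega)
        exact layer_commute c h4 hKn hel (conjS_mem s) hcsp (Nat.lt_of_succ_le (hf (j + 1)).1)
          ((hfle _ _ hq1 hq3).trans hq2) (hfj ▸ (hf j).2) (hf (j + 1)).2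
          (fun k h1 h2 hk => absurd (hfle (j + 1) k h1 hk) (not_le.2 h2)) hκ hx'
    obtain ⟨k, hk⟩ := hpst ⟨_, hmem⟩
    exact ⟨k, congrArg Subtype.val hk⟩
  have hIA : Cfsg.Inn (GammaOne S) ≤ A := inn_le_autInducedBy gamma_le
  have hKA : ∀ κ ∈ K, ∀ a ∈ A, κ * a * κ⁻¹ ∈ A := by
    intro κ hκ
    suffices h : A ≤ A.comap (MulAut.conj κ).toMonoidHom from fun a ha => h ha
    refine hAgen.trans (sup_le (fun a ha => hIA ((Cfsg.innNormal _).conj_mem a ha κ)) (zpowers_le.2 ?_))
    show κ * cs * κ⁻¹ ∈ A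
    have h := A.mul_mem (hIA (hcomm κ hκ)) (conjS_mem s)
    rwa [inv_mul_cancel_right] at h
  have hKN : K ≤ normalizer (A : Set (MulAut (GammaOne S))) := fun κ hκ => by
    refine Subgroup.mem_normalizer_iff.2 fun a => ⟨fun ha => hKA κ hκ a ha, fun ha => ?_⟩
    have h := hKA _ (K.inv_mem hκ) _ ha
    rwa [show κ⁻¹ * (κ * a * κ⁻¹) * κ⁻¹⁻¹ = a by group] at h
  intro a ha
  have hAp : IsPGroup p A := by
    rw [hA, ← range_conjS]
    exact hS.of_surjective _ (MonoidHom.rangeRestrict_surjective _)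
  have hx := hγ a ha
  set x := γ * a * γ⁻¹ with hxdef
  have hxp : ∃ k, x ^ p ^ k = 1 := by
    obtain ⟨k, hk⟩ := hAp ⟨a, ha⟩
    refine ⟨k, ?_⟩
    have hk' : a ^ p ^ k = 1 := congrArg Subtype.val hk
    rw [hxdef, conj_pow, hk', mul_one, mul_inv_cancel]
  have hxN : x ∈ normalizer (A : Set (MulAut (GammaOne S))) := (sup_le hKN le_normalizer) hx
  have hzx : IsPGroup p (zpowers x) := by
    obtain ⟨k, hk⟩ := hxp
    obtain ⟨j, -, hj⟩ := (Nat.dvd_prime_pow hp.out).1 (orderOf_dvd_of_pow_eq_one hk)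
    exact IsPGroup.of_card (n := j) (by rw [Nat.card_zpowers, hj])
  have hP : IsPGroup p ↥(zpowers x ⊔ A) := hzx.to_sup_of_normal_right' hAp (zpowers_le.2 hxN)
  rw [← SetLike.mem_coe, Subgroup.coe_mul_of_left_le_normalizer_right K A hKN, Set.mem_mul] at hx
  obtain ⟨κ, hκ, b, hb, hκb⟩ := hx
  have hκP : κ ∈ zpowers x ⊔ A := by
    rw [eq_mul_inv_of_mul_eq hκb]
    exact mul_mem (mem_sup_left (mem_zpowers x)) (mem_sup_right (inv_mem hb))
  obtain ⟨k, hk⟩ := hP ⟨κ, hκP⟩
  rw [← hκb]
  exact A.mul_mem (hIA (hel κ hκ ⟨k, congrArg Subtype.val hk⟩)) hb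

/-- An automorphism of `Γ₁` normalising `Aut_S(Γ₁)` extends to `S`. -/
theorem extends_to_S (hS : IsPGroup p S) (hF : F.IsSaturated p) {γ : MulAut (GammaOne S)}
    (hγ : γ ∈ F.autGroup (GammaOne S))
    (h : ∀ a ∈ autInducedBy S (GammaOne S), γ * a * γ⁻¹ ∈ autInducedBy S (GammaOne S)) :
    ∃ f ∈ F.autGroup S, ∀ x ∈ GammaOne S, autFn f x = autFn γ x := by
  obtain ⟨g, hg, hgγ⟩ := FusionChain.exists_extension
    (receptive_of_fullyNormalized hS hF (fullyNormalized_gamma (F := F))) hγ (M := S)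
    normalizerIn_gamma.ge fun x hx => h _ (range_normConj S (GammaOne S) ▸ ⟨_, rfl⟩)
  rw [sup_eq_right.2 gamma_le] at hg
  obtain ⟨f, hf, hfg⟩ := exists_restrict hg le_rfl fun x hx => hg.mem hx
  exact ⟨f, hf, fun x hx => (hfg x (gamma_le hx)).trans (hgγ x hx)⟩

/-- Invariance descends by `p - 1`. -/
theorem inv_descend (c : Mc S p n) (hn : p + 2 ≤ n) {k j : ℕ} (hk : 1 ≤ k) (hkj : k + j * (p - 1) ≤ n - 1)
    (h : Inv K (k + j * (p - 1))) : Inv K k := by
  induction j generalizing k with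
  | zero => simpa using h
  | succ j ih =>
    have hp2 := hp.out.two_le
    rw [Nat.add_mul, one_mul] at hkj h
    have h' : Inv K (k + p - 1) := by
      refine ih (by omega) (by omega) ?_
      rwa [show k + p - 1 + j * (p - 1) = k + (j * (p - 1) + (p - 1)) by omega]
    intro κ hκ x hx
    rw [mem_L_iff_pow c hn hk (by omega) (incl_mem_twoStep _), ← map_pow] at hx ⊢
    rw [← map_pow κ]
    exact h' κ hκ _ hx

/-- Two invariant layers at distance less than `p - 1` below the invariant tail give small gaps everywhere. -/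
theorem exists_level_step (c : Mc S p n) {q0 m : ℕ} (hm : m ≤ n - 1) (h1 : 1 ≤ q0) (hq : q0 < m)
    (hw : m - q0 ≤ p - 2) (hcase : p + 2 ≤ n ∨ q0 ≤ p - 2) (hhi : ∀ r, m ≤ r → Inv K r) (h0 : Inv K q0) :
    ∀ r, r < n - 1 → ∃ q, r < q ∧ q ≤ r + (p - 2) ∧ q ≤ n - 1 ∧ Inv K q := by
  intro r hr
  rcases le_or_gt m r with h | h
  · exact ⟨r + 1, by omega, by omega, by omega, hhi _ (by omega)⟩
  rcases le_or_gt q0 r with h' | h'
  · exact ⟨m, by omega, by omega, hm, hhi _ le_rfl⟩
  rcases le_or_gt q0 (r + (p - 2)) with h'' | h''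
  · exact ⟨q0, h', h'', by omega, h0⟩
  have hn : p + 2 ≤ n := by omega
  have hk := Nat.div_add_mod' (q0 - r - 1) (p - 1)
  have hlt := Nat.mod_lt (q0 - r - 1) (show 0 < p - 1 by omega)
  set j := (q0 - r - 1) / (p - 1)
  set t := (q0 - r - 1) % (p - 1)
  rcases Nat.lt_or_ge t (p - 2) with ht | ht
  · exact ⟨r + 1 + t, by omega, by omega, by omega,
      inv_descend c hn (j := j) (by omega) (by omega) (by rwa [show r + 1 + t + j * (p - 1) = q0 by omega])⟩
  · refine ⟨r + (m - q0), by omega, by omega, by omega,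
      inv_descend c hn (j := j + 1) (by omega) ?_ ?_⟩
    · rw [Nat.add_mul, one_mul]; omega
    · rw [Nat.add_mul, one_mul, show r + (m - q0) + (j * (p - 1) + (p - 1)) = m by omega]
      exact hhi m le_rfl

end Cfsg.Agent.MaxClassEss
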