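import Cfsg.Agent.Lib.MaxClassEss.Basic
import Cfsg.Agent.Lib.MaxClass.SmallEssential
import Cfsg.Agent.Lib.PGroup.UniqueOrderP
import Cfsg.Agent.Lib.Transfer.QuaternionFusion
import Cfsg.Agent.Lib.Resist.Fusion

/-!
# Essential subgroups outside the two-step centralizers

* `card_le_of_outside` : they have order at most `p ^ 3`;
* `pearl_of_outside` : they are pearls.
-/

set_option autoImplicit false
set_option linter.unusedSectionVars false
set_option linter.style.haveILetI false

open Subgroup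
open scoped commutatorElement

universe u

namespace Cfsg.Agent.MaxClassEss

open Cfsg Cfsg.FusionSystem Cfsg.Agent.Fusion MaxClassPower PearlRank
open PearlRank.Pc (D D_mem)

variable {p n : ℕ} [hp : Fact p.Prime]

/-- A group with the essential property has an automorphism group that is not a `p`-group. -/
theorem not_isPGroup_mulAut {H : Type*} [Group H] [Finite H] {A : Subgroup (MulAut H)}
    (s : EssentialSmall.Setting p A) : ¬ IsPGroup p (MulAut H) := by
  intro h
  obtain ⟨a, ha, hai, -, -⟩ := s.outer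
  exact hai (s.core ⟨⟨a, ha⟩, FusionChain.le_pCore_of_normal (⊤ : Subgroup A) inferInstance
    ((h.to_subgroup A).to_subgroup ⊤) (mem_top _), rfl⟩)

/-- The essential `2`-groups of order eight that are not abelian are quaternion. -/
theorem quaternion_of_eight {H : Type*} [Group H] [Finite H] {A : Subgroup (MulAut H)}
    (s : EssentialSmall.Setting 2 A) (hc : Nat.card H = 8) (hab : ¬ ∀ x y : H, x * y = y * x) :
    Nonempty (H ≃* QuaternionGroup 2) ∧ Cfsg.IsExtraspecial 2 H := by
  haveI : Fact (Nat.Prime 2) := ⟨Nat.prime_two⟩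
  have hZ2 : Nat.card (center H) = 2 ∧ ∀ x : H, x ^ 2 ∈ center H := by
    obtain ⟨h1, h2⟩ := EssentialSmall.card_center_mul_le (p := 2) (n := 3) (by rw [hc]; norm_num) hab
    obtain ⟨j, -, hj⟩ := (Nat.dvd_prime_pow Nat.prime_two).1
      (show Nat.card (center H) ∣ 2 ^ 3 by rw [show (2 : ℕ) ^ 3 = Nat.card H by rw [hc]; norm_num]; exact card_subgroup_dvd_card _)
    have hZ : Nat.card (center H) = 2 := by
      rw [hj, hc] at h2
      rw [hj] at h1
      rcases j with _ | _ | j
      · simp at h1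
      · exact hj
      · have : 2 ^ (j + 2) ≥ 4 := by
          calc 2 ^ (j + 2) ≥ 2 ^ 2 := Nat.pow_le_pow_right (by norm_num) (by omega)
            _ = 4 := rfl
        omega
    refine ⟨hZ, fun x => ?_⟩
    have hq : Nat.card (H ⧸ center H) = 2 ^ 2 := by
      have h := Subgroup.index_mul_card (center H)
      rw [hZ, hc, Subgroup.index_eq_card] at h
      norm_num
      omega
    rw [← QuotientGroup.eq_one_iff]
    by_contra hne
    have hcyc : IsCyclic (H ⧸ center H) := by
      refine isCyclic_of_orderOf_eq_card (x : H ⧸ center H) ?_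
      obtain ⟨i, hi, hix⟩ := (Nat.dvd_prime_pow Nat.prime_two).1 (hq ▸ orderOf_dvd_natCard (x : H ⧸ center H))
      rw [hix, hq]
      congr 1
      by_contra hi2
      apply hne
      rw [QuotientGroup.mk_pow, ← orderOf_dvd_iff_pow_eq_one, hix]
      exact (Nat.pow_dvd_pow 2 (show i ≤ 1 by omega)).trans (by norm_num)
    exact hab (commutative_of_cyclic_center_quotient (QuotientGroup.mk' (center H))
      (by rw [QuotientGroup.ker_mk']))
  obtain ⟨hZ, hsq⟩ := hZ2
  refine ⟨?_, ?_⟩
  swap
  · have hH : IsPGroup 2 H := IsPGroup.of_card (n := 3) (by rw [hc]; norm_num)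
    have hquot : IsMulCommutative (H ⧸ center H) :=
      IsPGroup.isMulCommutative_of_card_eq_prime_sq (p := 2) (by
        have h := Subgroup.index_mul_card (center H)
        rw [hZ, hc, Subgroup.index_eq_card] at h
        norm_num
        omega)
    have hcomm : _root_.commutator H ≤ center H := Subgroup.Normal.quotient_commutative_iff_commutator_le.1 hquot
    have hceq : _root_.commutator H = center H := by
      refine PGroup.eq_of_le_of_card_le hcomm ?_
      rw [hZ]
      by_contra hlt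
      apply hab
      have hb : _root_.commutator H = ⊥ := Subgroup.eq_bot_of_card_le _ (by omega)
      intro x y
      exact commutatorElement_eq_one_iff_mul_comm.1 (Subgroup.mem_bot.1
        (hb ▸ Subgroup.commutator_mem_commutator (mem_top x) (mem_top y)))
    refine ⟨⟨hH, le_antisymm (PGroup.frattini_le_of_quotient_elementary (p := 2) hcomm hsq) ?_, hceq⟩, hZ⟩
    rw [show center H = _root_.commutator H from hceq.symm]
    exact PGroup.commutator_le_frattini hH
  have hexp : ¬ ∀ x : H, x ^ 2 = 1 := fun h => hab fun x y => by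
    have h1 := h (x * y)
    have hx := h x
    have hy := h y
    rw [pow_two] at h1 hx hy
    calc x * y = x * ((x * y) * (x * y)) * y := by rw [h1, mul_one]
      _ = (x * x) * (y * x) * (y * y) := by group
      _ = y * x := by rw [hx, hy, one_mul, mul_one]
  obtain ⟨w, hw⟩ := not_forall.1 hexp
  set z := w ^ 2 with hz
  have hzZ : ∀ y ∈ center H, y = 1 ∨ y = z := by
    intro y hy
    obtain ⟨u, -, hu⟩ := (Nat.card_eq_two_iff' (1 : center H)).1 hZ
    rcases eq_or_ne y 1 with h | h
    · exact Or.inl h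
    · exact Or.inr (congrArg Subtype.val ((hu ⟨y, hy⟩ fun e => h (congrArg Subtype.val e)).trans
        (hu ⟨z, hsq w⟩ fun e => hw (congrArg Subtype.val e)).symm))
  have hsq' : ∀ x : H, x ^ 2 = 1 ∨ x ^ 2 = z := fun x => hzZ _ (hsq x)
  have hzc : ∀ g : H, Commute g z := fun g => mem_center_iff.1 (hsq w) g
  have hz2 : z ^ 2 = 1 := by
    have h := orderOf_dvd_natCard (⟨z, hsq w⟩ : center H)
    rw [hZ, orderOf_dvd_iff_pow_eq_one] at h
    exact congrArg Subtype.val h
  have hw4 : orderOf w = 4 := orderOf_eq_prime_pow (p := 2) (n := 1) hw (by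
    rw [show 2 ^ (1 + 1) = 2 * 2 by norm_num, pow_mul, ← hz, hz2])
  have hW : (zpowers w).index = 2 := by
    have h := Subgroup.card_mul_index (zpowers w)
    rw [Nat.card_zpowers, hw4, hc] at h
    omega
  haveI hWn : (zpowers w).Normal := Subgroup.normal_of_index_eq_two hW
  by_cases h2 : ∀ x : H, x ^ 2 ≠ 1 → x ∈ zpowers w
  · exfalso
    haveI : (zpowers z).Normal := PGroup.zpowers_normal_of_mem_center (hsq w)
    refine s.false_of_series (zpowers z) (zpowers w) ?_ ?_ ?_ ?_ ?_ ?_
    · exact zpowers_le.2 (pow_mem (mem_zpowers w) 2)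
    · rintro a - _ ⟨i, rfl⟩
      rw [map_zpow]
      refine zpow_mem (?_ : a z ∈ zpowers z) i
      rw [hz, map_pow, ← hz]
      rcases hsq' (a w) with e | e <;> rw [e]
      exacts [one_mem _, mem_zpowers z]
    · rintro a - _ ⟨i, rfl⟩
      rw [map_zpow]
      refine zpow_mem (h2 _ ?_) i
      rw [← map_pow]
      exact fun h => hw (a.injective (h.trans (map_one a).symm))
    · rw [Nat.card_zpowers, orderOf_eq_prime hz2 hw]
    · rw [Nat.card_zpowers, Nat.card_zpowers, hw4, orderOf_eq_prime hz2 hw]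
    · rw [Nat.card_zpowers, hw4, hc]
  push Not at h2
  obtain ⟨v, hv, hvW⟩ := h2
  have hv2 : v ^ 2 = z := (hsq' v).resolve_left hv
  have hvw : v * w * v⁻¹ = w⁻¹ := by
    obtain ⟨i, hi⟩ := mem_powers_iff_mem_zpowers.2 (hWn.conj_mem w (mem_zpowers w) v)
    have hne : v * w * v⁻¹ ≠ w := by
      intro h
      apply hab
      have hcl : ∀ g : H, g ∈ zpowers w ⊔ zpowers v := fun g => by
        have htop : zpowers w ⊔ zpowers v = ⊤ := by
          refine PGroup.eq_of_le_of_card_le le_top ?_
          have := PGroup.mul_card_le_of_lt (IsPGroup.of_card (p := 2) (n := 3) (by rw [hc]; norm_num))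
            (left_lt_sup.2 fun h => hvW (h (mem_zpowers v)) : zpowers w < zpowers w ⊔ zpowers v)
          rw [Nat.card_zpowers, hw4] at this
          rw [card_top, hc]
          omega
        rw [htop]; exact mem_top g
      have hcomm : Commute v w := mul_inv_eq_iff_eq_mul.1 h
      have key : ∀ g : H, Commute g w ∧ Commute g v := by
        intro g
        have : zpowers w ⊔ zpowers v ≤ centralizer ({w, v} : Set H) := by
          refine sup_le (zpowers_le.2 ?_) (zpowers_le.2 ?_) <;> rw [mem_centralizer_iff] <;> rintro x (rfl | rfl)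
          · rfl
          · exact hcomm.eq
          · exact hcomm.eq.symm
          · rfl
        have h2 := mem_centralizer_iff.1 (this (hcl g))
        exact ⟨(h2 _ (Or.inl rfl)).symm, (h2 _ (Or.inr rfl)).symm⟩
      intro x y
      have : zpowers w ⊔ zpowers v ≤ centralizer ({x} : Set H) :=
        sup_le (zpowers_le.2 (mem_centralizer_singleton_iff.2 (key x).1.eq.symm))
          (zpowers_le.2 (mem_centralizer_singleton_iff.2 (key x).2.eq.symm))
      exact (mem_centralizer_singleton_iff.1 (this (hcl y))).symm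
    have hi' : w ^ (i % 4) = v * w * v⁻¹ := by rw [← hw4, pow_mod_orderOf]; exact hi
    have hord : orderOf (v * w * v⁻¹) = 4 := by
      rw [← hw4]
      exact (MulAut.conj v).orderOf_eq w
    rcases (show i % 4 = 0 ∨ i % 4 = 1 ∨ i % 4 = 2 ∨ i % 4 = 3 by omega) with e | e | e | e <;> rw [e] at hi'
    · rw [← hi', pow_zero, orderOf_one] at hord; omega
    · exact absurd (by rw [← hi', pow_one]) hne
    · rw [← hi', ← hz, orderOf_eq_prime hz2 hw] at hord; omega
    · rw [← hi', eq_inv_iff_mul_eq_one, ← pow_succ, show 3 + 1 = 4 by rfl, ← hw4, pow_orderOf_eq_one]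
  have huniq : ∀ y : H, orderOf y = 2 → y = z := by
    intro y hy
    have hy2 : y ^ 2 = 1 := hy ▸ pow_orderOf_eq_one y
    have hy1 : y ≠ 1 := fun h => by rw [h, orderOf_one] at hy; omega
    by_cases hyW : y ∈ zpowers w
    · obtain ⟨i, hi⟩ := mem_powers_iff_mem_zpowers.2 hyW
      have hi' : w ^ (i % 4) = y := by rw [← hw4, pow_mod_orderOf]; exact hi
      rcases (show i % 4 = 0 ∨ i % 4 = 1 ∨ i % 4 = 2 ∨ i % 4 = 3 by omega) with e | e | e | e <;> rw [e] at hi'
      · exact absurd (by rw [← hi', pow_zero]) hy1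
      · exact absurd (by rw [← hy2, ← hi', pow_one]) hw
      · rw [← hi', hz]
      · exfalso
        apply hw
        rw [hz]
        calc w ^ 2 = w ^ 2 * (w ^ 4) := by rw [← hw4, pow_orderOf_eq_one, mul_one]
          _ = (w ^ 3) ^ 2 := by rw [← pow_mul, ← pow_add]
          _ = 1 := by rw [hi', hy2]
    · exfalso
      have hyv : y * v⁻¹ ∈ zpowers w := by
        rw [Subgroup.mul_mem_iff_of_index_two hW, inv_mem_iff]
        exact ⟨fun h => absurd h hyW, fun h => absurd h hvW⟩
      obtain ⟨i, hi⟩ := mem_powers_iff_mem_zpowers.2 hyv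
      have hi' : w ^ i = y * v⁻¹ := hi
      have e : y = w ^ i * v := by rw [hi', inv_mul_cancel_right]
      have h1 : y ^ 2 = z := by
        rw [e, pow_two]
        calc w ^ i * v * (w ^ i * v) = w ^ i * (v * w ^ i * v⁻¹) * (v * v) := by group
          _ = w ^ i * (v * w * v⁻¹) ^ i * z := by rw [conj_pow, ← pow_two, hv2]
          _ = z := by rw [hvw, inv_pow, mul_inv_cancel, one_mul]
      exact hw (h1 ▸ hy2)
  have hQ : IsPGroup 2 H := IsPGroup.of_card (n := 3) (by rw [hc]; norm_num)
  rcases PGroup.unique_order_p_cases hQ (fun a b ha hb => by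
      rcases eq_or_ne b 1 with rfl | hb1
      · exact one_mem _
      · rw [huniq a ha, ← huniq b (orderOf_eq_prime hb hb1)]
        exact mem_zpowers b) with h | ⟨-, m, ⟨e⟩⟩
  · haveI := h
    exact absurd (IsCyclic.commutative (α := H)).is_comm.comm hab
  rcases Transfer.quaternion_subgroup_cases rfl (⊤ : Subgroup (QuaternionGroup (2 ^ m))) with h | ⟨⟨f⟩⟩
  · exact absurd (Transfer.isPGroup_mulAut_of_equiv (e.trans Subgroup.topEquiv.symm) h) (not_isPGroup_mulAut s)
  · exact ⟨(e.trans Subgroup.topEquiv.symm).trans f⟩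

variable {Ω : Type u} [Group Ω] {S : Subgroup Ω} [Finite S] {F : FusionSystem S} {E : Subgroup Ω}

/-- The shape of an essential subgroup outside the two-step centralizers. -/
theorem outside_shape (hS : IsPGroup p S) (hF : F.IsSaturated p) (c : Mc S p n) (h4 : 4 ≤ n)
    (hE : F.IsEssential p E) (h1 : ¬ E.subgroupOf S ≤ twoStep S 1)
    (h2 : ¬ E.subgroupOf S ≤ twoStep S (n - 3)) :
    Nat.card E ≤ p ^ 3 ∧ ∃ s ∈ E.subgroupOf S, Gd S p n s := by
  have hES : E ≤ S := hE.1.1
  haveI := finite_of_le (S := S) hES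
  set E' := E.subgroupOf S with hE'
  obtain ⟨s, hsE, hs1, hs2⟩ : ∃ s ∈ E', s ∉ twoStep S 1 ∧ s ∉ twoStep S (n - 3) := by
    obtain ⟨a, ha, ha1⟩ := SetLike.not_le_iff_exists.1 h1
    obtain ⟨b, hb, hb2⟩ := SetLike.not_le_iff_exists.1 h2
    by_cases ha2 : a ∈ twoStep S (n - 3)
    · by_cases hb1 : b ∈ twoStep S 1
      · exact ⟨a * b, mul_mem ha hb, fun h => ha1 ((Subgroup.mul_mem_cancel_right _ hb1).1 h),
          fun h => hb2 ((Subgroup.mul_mem_cancel_left _ ha2).1 h)⟩
      · exact ⟨b, hb, hb1, hb2⟩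
    · exact ⟨a, ha, ha1, ha2⟩
  have hs : Gd S p n s := good_of c h4 hs1 hs2
  refine ⟨?_, s, hsE, hs⟩
  set ι : E →* S := Subgroup.inclusion hES with hι
  have hιi : Function.Injective ι := Subgroup.inclusion_injective hES
  have hιr : ι.range = E' := Subgroup.inclusion_range hES
  have hcE : Nat.card E = Nat.card E' := (Nat.card_congr (subgroupOfEquivOfLe hES).toEquiv).symm
  have hEinv : ∀ h ∈ E', s * h * s⁻¹ ∈ E' := fun h hh => mul_mem (mul_mem hsE hh) (inv_mem hsE)
  have htop := sup_good_eq_top c (i := 1) le_rfl (by omega) hs1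
  -- the intersection with the first two-step centralizer
  have hEG : E' ⊓ twoStep S 1 ≤ L S 1 := by
    intro g hg
    by_contra hg1
    have hL : L S 1 ≤ E' := L_one_le_of_invariant c hs h4 le_rfl (by omega) hEinv hg.2 hg1 hg.1
    have hle : (⊤ : Subgroup S) ≤ E' := by
      rw [← htop, ← c.gen_twoStep le_rfl (by omega) hg.2 hg1]
      exact sup_le (sup_le hL (zpowers_le.2 hg.1)) (zpowers_le.2 hsE)
    exact (Resist.lt_of_essential hS hF hE).ne
      (le_antisymm hES (Subgroup.subgroupOf_eq_top.1 (top_le_iff.1 hle)))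
  set H := E' ⊓ L S 1 with hH
  have hEH : ∀ g ∈ E', ∃ j : ℕ, g * (s ^ j)⁻¹ ∈ H := by
    intro g hg
    have hq : Nat.card (S ⧸ twoStep S 1) = p := by
      rw [← Subgroup.index_eq_card]
      have h := (twoStep S 1).card_mul_index
      rw [c.card_twoStep le_rfl (by omega), c.card] at h
      exact Nat.eq_of_mul_eq_mul_left (pow_pos hp.out.pos _) (by rw [h, ← pow_succ]; congr 1; omega)
    have hz := zpowers_eq_top_of_prime_card (g := (s : S ⧸ twoStep S 1)) hq
      fun h => hs1 ((QuotientGroup.eq_one_iff s).1 h)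
    obtain ⟨j, hj⟩ := mem_powers_iff_mem_zpowers.2 (hz ▸ mem_top (g : S ⧸ twoStep S 1))
    have hmem : g * (s ^ j)⁻¹ ∈ E' := mul_mem hg (inv_mem (pow_mem hsE j))
    refine ⟨j, hmem, hEG ⟨hmem, ?_⟩⟩
    show g * (s ^ j)⁻¹ ∈ twoStep S 1
    rw [← QuotientGroup.eq_one_iff, QuotientGroup.mk_mul, QuotientGroup.mk_inv, QuotientGroup.mk_pow]
    show (g : S ⧸ twoStep S 1) * ((s : S ⧸ twoStep S 1) ^ j)⁻¹ = 1
    rw [show ((s : S ⧸ twoStep S 1)) ^ j = g from hj, mul_inv_cancel]
  have hsp : s ^ p ∈ H := by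
    refine ⟨pow_mem hsE p, c.center_le hs.pow_mem_center⟩
  have hcard : Nat.card E' ≤ p * Nat.card H := by
    have hle : E' ≤ H ⊔ zpowers s := fun g hg => by
      obtain ⟨j, hj⟩ := hEH g hg
      have : g = g * (s ^ j)⁻¹ * s ^ j := by rw [inv_mul_cancel_right]
      rw [this]
      exact mul_mem (mem_sup_left hj) (mem_sup_right (pow_mem (mem_zpowers s) j))
    have hcov : ∀ g ∈ H ⊔ zpowers s, ∃ j : Fin p, g * (s ^ (j : ℕ))⁻¹ ∈ H := by
      intro g hg
      obtain ⟨j, hj⟩ := hEH g ((sup_le inf_le_left (zpowers_le.2 hsE) : H ⊔ zpowers s ≤ E') hg)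
      refine ⟨⟨j % p, Nat.mod_lt _ hp.out.pos⟩, ?_⟩
      have e : g * (s ^ (j % p))⁻¹ = g * (s ^ j)⁻¹ * (s ^ p) ^ (j / p) := by
        have e' : s ^ j = (s ^ p) ^ (j / p) * s ^ (j % p) := by
          rw [← pow_mul, ← pow_add, Nat.add_comm, Nat.mod_add_div]
        rw [e']
        group
      rw [e]
      exact mul_mem hj (pow_mem hsp _)
    let f : E' → Fin p × H := fun g =>
      ⟨(hcov g (hle g.2)).choose, ⟨_, (hcov g (hle g.2)).choose_spec⟩⟩
    have hf : Function.Injective f := fun a b e => by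
      have h1 := congrArg Prod.fst e
      have h2 := congrArg (fun q => ((q.2 : H) : S)) e
      simp only [f] at h1 h2
      rw [h1] at h2
      exact Subtype.ext (mul_right_cancel h2)
    exact (Nat.card_le_card_of_injective f hf).trans_eq (by rw [Nat.card_prod, Nat.card_fin])
  rcases eq_or_ne H ⊥ with hbot | hne
  · rw [hcE]
    refine hcard.trans ?_
    rw [hbot, card_bot, mul_one]
    exact Nat.le_self_pow (by norm_num) p
  -- `H` is a term of the series
  classical
  have hex : ∃ i, 1 ≤ i ∧ ∃ u ∈ H, Ex S i u := by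
    haveI := (Subgroup.nontrivial_iff_ne_bot H).2 hne
    obtain ⟨⟨u, hu⟩, hu1⟩ := exists_ne (1 : H)
    obtain ⟨i, hi, -, hiu⟩ := exists_level c hu.2 fun h => hu1 (Subtype.ext h)
    exact ⟨i, hi, u, hu, hiu⟩
  obtain ⟨hk, u, huH, hku⟩ := Nat.find_spec hex
  set k := Nat.find hex with hkdef
  have hLH : L S k ≤ H := invariant_le c hs (H := H) (fun h hh => ⟨hEinv h hh.1,
    (inferInstance : (L S 1).Normal).conj_mem h hh.2 s⟩) hk huH hku
  have hHL : H = L S k := by
    refine le_antisymm (fun v hv => ?_) hLH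
    rcases eq_or_ne v 1 with rfl | hv1
    · exact one_mem _
    obtain ⟨i, hi, -, hiv⟩ := exists_level c hv.2 hv1
    exact L_anti (Nat.find_min' hex ⟨hi, v, hv, hiv⟩) hiv.1
  have hkn : k ≤ n - 2 := by
    by_contra h
    refine hne (hHL.trans ?_)
    exact c.L_bot (by omega)
  by_contra hbig
  rw [hcE] at hbig
  have hk4 : k ≤ n - 4 := by
    by_contra h
    refine hbig (hcard.trans ?_)
    rw [hHL, c.card_L hk, ← pow_succ']
    exact Nat.pow_le_pow_right hp.out.pos (by omega)
  have hEcard : Nat.card E' ≤ p ^ (n - k) := by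
    refine hcard.trans_eq ?_
    rw [hHL, c.card_L hk, ← pow_succ']
    congr 1
    omega
  have hLE' : ∀ j, k ≤ j → L S j ≤ E' := fun j hj => (L_anti hj).trans (hLH.trans inf_le_left)
  have hdec : ∀ g ∈ E', ∃ l ∈ L S k, ∃ j : ℕ, g = l * s ^ j := fun g hg => by
    obtain ⟨j, hj⟩ := hEH g hg
    exact ⟨_, hHL ▸ hj, j, by rw [inv_mul_cancel_right]⟩
  -- the lower central series of `E`
  have hLE : ∀ j, 1 ≤ j → (L E j).map ι = L S (k + j) := by
    intro j hj
    induction j, hj using Nat.le_induction with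
    | base =>
      refine le_antisymm ?_ fun z hz => ?_
      · rw [L, Subgroup.top_lowerCentralSeries_one, _root_.commutator_def, Subgroup.map_commutator,
          ← MonoidHom.range_eq_map, hιr, Subgroup.commutator_le]
        intro x hx y hy
        obtain ⟨l, hl, i, rfl⟩ := hdec x hx
        obtain ⟨l', hl', i', rfl⟩ := hdec y hy
        have hcen : ∀ a ∈ L S k, ∀ g : S, Commute (QuotientGroup.mk' (L S (k + 1)) a)
            (QuotientGroup.mk' (L S (k + 1)) g) := fun a ha g => by
          rw [← commutatorElement_eq_one_iff_commute, ← map_commutatorElement]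
          exact (QuotientGroup.eq_one_iff _).2 (commutator_mem_commutator ha (mem_top g))
        rw [← QuotientGroup.eq_one_iff]
        show QuotientGroup.mk' (L S (k + 1)) ⁅l * s ^ i, l' * s ^ i'⁆ = 1
        rw [map_commutatorElement, commutatorElement_eq_one_iff_commute, map_mul, map_mul]
        exact ((hcen l hl l').mul_right (hcen l hl _)).mul_left
          ((hcen l' hl' _).symm.mul_right (((Commute.refl s).pow_pow i i').map _))
      · obtain ⟨a, ha, rfl⟩ := hs.D_surj hk hz
        obtain ⟨a', ha'⟩ : a ∈ ι.range := hιr.symm ▸ hLE' k le_rfl ha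
        obtain ⟨g', hg'⟩ : s ∈ ι.range := hιr.symm ▸ hsE
        refine ⟨⁅a'⁻¹, g'⁆, Subgroup.commutator_mem_commutator (mem_top _) (mem_top _), ?_⟩
        rw [map_commutatorElement, map_inv, ha', hg', D, commutatorElement_def]; group
    | succ j hj ih =>
      refine le_antisymm ?_ fun z hz => ?_
      · show (⁅L E j, (⊤ : Subgroup E)⁆).map ι ≤ _
        rw [Subgroup.map_commutator, ih]
        exact Subgroup.commutator_mono le_rfl le_top
      · obtain ⟨a, ha, rfl⟩ := hs.D_surj (i := k + j) (by omega) hz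
        obtain ⟨a', ha', hae⟩ : a ∈ (L E j).map ι := ih.symm ▸ ha
        obtain ⟨g', hg'⟩ : s ∈ ι.range := hιr.symm ▸ hsE
        refine ⟨⁅a'⁻¹, g'⁆, Subgroup.commutator_mem_commutator (inv_mem ha') (mem_top _), ?_⟩
        rw [map_commutatorElement, map_inv, hae, hg', D, commutatorElement_def]; group
  let T : ℕ → Subgroup E := fun j => (L S j).comap ι
  have hTchar : ∀ j, k + 1 ≤ j → ∀ (a : MulAut E) (x : E), x ∈ T j → a x ∈ T j := by
    intro j hj a x hx
    obtain ⟨i, rfl⟩ : ∃ i, j = k + i := ⟨j - k, by omega⟩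
    have e : T (k + i) = L E i := by
      show (L S (k + i)).comap ι = _
      rw [← hLE i (by omega), comap_map_eq_self_of_injective hιi]
    rw [e] at hx ⊢
    exact (PGroup.aut_mem_iff a x).2 hx
  have hTk : ∀ x : E, x ∈ T k ↔ ∀ v ∈ T (k + 1), ⁅x, v⁆ ∈ T (k + 3) := by
    intro x
    constructor
    · intro hx v hv
      show ι ⁅x, v⁆ ∈ L S (k + 3)
      rw [map_commutatorElement]
      exact comm_L_mem (by omega) (show ι x ∈ L S k from hx) (show ι v ∈ L S (k + 1) from hv)
    · intro h
      have hxE : ι x ∈ E' := hιr ▸ ⟨x, rfl⟩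
      obtain ⟨l, hl, j, e⟩ := hdec _ hxE
      have hx2 : ι x ∈ twoStep S (k + 1) := mem_twoStep.2 fun w hw => by
        obtain ⟨v, rfl⟩ : w ∈ ι.range := hιr.symm ▸ hLE' _ (Nat.le_succ k) hw
        rw [← map_commutatorElement]
        exact h v hw
      have hsj : s ^ j ∈ twoStep S (k + 1) := by
        rw [e] at hx2
        exact (Subgroup.mul_mem_cancel_left _ (L_one_le_twoStep _ (L_anti hk hl))).1 hx2
      by_cases hdvd : p ∣ j
      · obtain ⟨q, rfl⟩ := hdvd
        show ι x ∈ L S k
        rw [e, pow_mul]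
        exact mul_mem hl (pow_mem (hHL ▸ hsp) q)
      · exfalso
        refine c.not_mem_twoStep hs (i := k + 1) (by omega) (by omega) ?_
        obtain ⟨o, ho⟩ := hS s
        have hco : Nat.Coprime j (p ^ o) := (((hp.out.coprime_iff_not_dvd).2 hdvd).symm).pow_right o
        have hz : zpowers s ≤ zpowers (s ^ j) := by
          rw [zpowers_le]
          refine ⟨Nat.gcdA j (p ^ o), ?_⟩
          show (s ^ j) ^ Nat.gcdA j (p ^ o) = s
          have hb := Nat.gcd_eq_gcd_ab j (p ^ o)
          rw [hco.gcd_eq_one, Nat.cast_one] at hb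
          calc (s ^ j) ^ Nat.gcdA j (p ^ o)
              = (s ^ j) ^ Nat.gcdA j (p ^ o) * (s ^ (p ^ o)) ^ Nat.gcdB j (p ^ o) := by
                rw [ho, one_zpow, mul_one]
            _ = s := by
                rw [← zpow_natCast s j, ← zpow_natCast s (p ^ o), ← zpow_mul, ← zpow_mul, ← zpow_add, ← hb,
                  zpow_one]
        exact (zpowers_le.2 hsj) (hz (mem_zpowers s))
  have hTinv : ∀ j, k ≤ j → ∀ (a : MulAut E) (x : E), x ∈ T j → a x ∈ T j := by
    intro j hj a x hx
    rcases eq_or_lt_of_le hj with rfl | h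
    · rw [hTk] at hx ⊢
      intro v hv
      have := hTchar (k + 3) (by omega) a _ (hx _ (hTchar (k + 1) le_rfl a⁻¹ v hv))
      rwa [map_commutatorElement, MulAut.apply_inv_self] at this
    · exact hTchar j h a x hx
  have hTcard : ∀ j, k ≤ j → Nat.card (T j) = p ^ (n - 1 - j) := fun j hj => by
    rw [← c.card_L (hk.trans hj), ← Subgroup.card_map_of_injective hιi,
      map_comap_eq, hιr, inf_eq_right.2 (hLE' j hj)]
  refine EssentialSmall.Setting.false_of_chain (EssentialSmall.setting_of_essential hS hF hE) (n - k)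
    (fun j => if j ≤ n - 1 - k then T (n - 1 - j) else ⊤) ?_ ?_ ?_ ?_ ?_ ?_
  · simp only [if_pos (Nat.zero_le _), Nat.sub_zero]
    exact Subgroup.eq_bot_of_card_eq _ (by rw [hTcard _ (by omega), Nat.sub_self, pow_zero])
  · rw [if_neg (by omega)]
  · intro j
    split_ifs with h
    · exact (inferInstance : (L S (n - 1 - j)).Normal).comap ι
    · infer_instance
  · intro j hj
    by_cases h : j + 1 ≤ n - 1 - k
    · rw [if_pos (by omega), if_pos h]
      exact Subgroup.comap_mono (L_anti (by omega))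
    · rw [if_neg h]; exact le_top
  · intro a _ j _ x hx
    by_cases h : j ≤ n - 1 - k
    · rw [if_pos h] at hx ⊢; exact hTinv _ (by omega) a x hx
    · rw [if_neg h]; exact mem_top _
  · intro j hj
    rw [if_pos (show j ≤ n - 1 - k by omega), hTcard _ (by omega)]
    by_cases h : j + 1 ≤ n - 1 - k
    · rw [if_pos h, hTcard _ (by omega), ← pow_succ']
      exact Nat.pow_le_pow_right hp.out.pos (by omega)
    · rw [if_neg h, card_top, hcE, ← pow_succ']
      exact hEcard.trans (Nat.pow_le_pow_right hp.out.pos (by omega))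

theorem card_le_of_outside (hS : IsPGroup p S) (hF : F.IsSaturated p) (c : Mc S p n) (h4 : 4 ≤ n)
    (hE : F.IsEssential p E) (h1 : ¬ E.subgroupOf S ≤ twoStep S 1)
    (h2 : ¬ E.subgroupOf S ≤ twoStep S (n - 3)) : Nat.card E ≤ p ^ 3 :=
  (outside_shape hS hF c h4 hE h1 h2).1

/-- An essential subgroup outside the two-step centralizers is a pearl. -/
theorem pearl_of_outside (hS : IsPGroup p S) (hF : F.IsSaturated p) (c : Mc S p n) (h4 : 4 ≤ n)
    (hE : F.IsEssential p E) (h1 : ¬ E.subgroupOf S ≤ twoStep S 1)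
    (h2 : ¬ E.subgroupOf S ≤ twoStep S (n - 3)) :
    (Nat.card E = p ^ 2 ∧ Cfsg.IsElementaryAbelian p E) ∨
      (Nat.card E = p ^ 3 ∧ Cfsg.IsExtraspecial p E ∧ (p ≠ 2 → Monoid.exponent E = p) ∧
        (p = 2 → Nonempty (E ≃* QuaternionGroup 2))) := by
  obtain ⟨hle, s, hsE, hs⟩ := outside_shape hS hF c h4 hE h1 h2
  have hES : E ≤ S := hE.1.1
  haveI := finite_of_le (S := S) hES
  have se := EssentialSmall.setting_of_essential hS hF hE
  have hnab : Nat.card E = p ^ 3 → ¬ ∀ x y : E, x * y = y * x := by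
    intro h3 hab
    have hle' : E.subgroupOf S ≤ centralizer ({s} : Set S) := fun g hg => by
      rw [mem_centralizer_singleton_iff]
      exact Subtype.ext (congrArg Subtype.val (hab ⟨g, hg⟩ ⟨s, hsE⟩) :)
    have := Subgroup.card_le_of_le hle'
    rw [hs.cent, Nat.card_congr (subgroupOfEquivOfLe hES).toEquiv, h3,
      Nat.pow_le_pow_iff_right hp.out.one_lt] at this
    omega
  have helem : (∀ x y : E, x * y = y * x) → (∀ x : E, x ^ p = 1) → Cfsg.IsElementaryAbelian p E :=
    fun hab hexp => ⟨⟨⟨hab⟩⟩, fun a ha => congrArg Subtype.val (hexp ⟨a, ha⟩)⟩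
  by_cases hp2 : p = 2
  · subst hp2
    obtain ⟨j, hj⟩ := IsPGroup.iff_card.mp se.pgroup
    have hj3 : j ≤ 3 := (Nat.pow_le_pow_iff_right one_lt_two).1 (hj ▸ hle)
    have hsmall : 2 ≤ j := by
      by_contra h
      refine se.false_of_series ⊤ ⊤ le_rfl (fun _ _ _ _ => mem_top _) (fun _ _ _ _ => mem_top _) ?_ ?_ ?_
      · rw [card_top, hj]; exact (Nat.pow_le_pow_right two_pos (show j ≤ 1 by omega))
      · exact Nat.le_mul_of_pos_left _ two_pos
      · rw [card_top]; exact Nat.le_mul_of_pos_left _ two_pos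
    rcases (show j = 2 ∨ j = 3 by omega) with rfl | rfl
    · refine Or.inl ⟨hj, helem (IsPGroup.isMulCommutative_of_card_eq_prime_sq hj).is_comm.comm fun x => ?_⟩
      by_contra hx
      have hcyc : IsCyclic E := isCyclic_of_orderOf_eq_card x (by
        obtain ⟨i, hi, hix⟩ := (Nat.dvd_prime_pow Nat.prime_two).1 (hj ▸ orderOf_dvd_natCard x)
        rw [hix, hj]
        congr 1
        by_contra hi2
        apply hx
        rw [← orderOf_dvd_iff_pow_eq_one, hix]
        exact (Nat.pow_dvd_pow 2 (show i ≤ 1 by omega)).trans (by norm_num))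
      haveI := hcyc
      exact not_isPGroup_mulAut se (Transfer.isPGroup_mulAut_of_isCyclic se.pgroup)
    · refine Or.inr ⟨hj, ?_, fun h => absurd rfl h, fun _ => (quaternion_of_eight se (by rw [hj]; norm_num) (hnab hj)).1⟩
      exact (quaternion_of_eight se (by rw [hj]; norm_num) (hnab hj)).2
  · rcases small_cases se hp2 hle with ⟨h, hab, hexp⟩ | ⟨h, hx, hexp⟩ | ⟨h, hab, -⟩
    · exact Or.inl ⟨h, helem hab hexp⟩
    · exact Or.inr ⟨h, hx, fun _ => hexp, fun e => absurd e hp2⟩
    · exact absurd hab (hnab h)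

end Cfsg.Agent.MaxClassEss
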