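import Cfsg.Agent.Lib.MaxClassEss.Chain
import Cfsg.Agent.Lib.MaxClassEss.Bracket
import Cfsg.Agent.Lib.HallHigman.TheoremB

/-!
# Homologies in a group with a regular unipotent element of order `p` (for S5267 piece A; owner: helper96)

* `commute_of_small` : short unipotent elements centralise the `p'`-groups they normalise
* `idem_trivial_of_normalizes` : a homology normalising a regular unipotent element is scalar
* `idem_trivial` : the same inside any group with Sylow `p`-subgroups of order at most `p`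
-/

set_option autoImplicit false
set_option linter.unusedSectionVars false

open Module

universe u


namespace Cfsg.Agent.MaxClassEss

variable {p : ℕ} [Fact p.Prime] {V : Type u} [AddCommGroup V] [Module (ZMod p) V] [Finite V]

local notation "GLV" => LinearMap.GeneralLinearGroup (ZMod p) V

theorem finite_end : Finite (Module.End (ZMod p) V) :=
  Finite.of_injective (fun f => (f : V → V)) DFunLike.coe_injective

theorem finite_glv : Finite GLV := by
  have := finite_end (p := p) (V := V)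
  exact Finite.of_injective (fun g : GLV => (g : Module.End (ZMod p) V)) Units.val_injective

theorem pow_char_pow_eq_one {g : Module.End (ZMod p) V} {n : ℕ} (h : (g - 1) ^ p ^ n = 0) :
    g ^ p ^ n = 1 := by
  rcases subsingleton_or_nontrivial (Module.End (ZMod p) V) with h' | h'
  · exact Subsingleton.elim _ _
  have : CharP (Module.End (ZMod p) V) p :=
    charP_of_injective_algebraMap (algebraMap (ZMod p) (Module.End (ZMod p) V)).injective p
  have h1 := add_pow_char_pow_of_commute (p := p) (n := n) (x := g - 1) (y := 1) (h := Commute.one_right _)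
  rwa [sub_add_cancel, h, one_pow, zero_add] at h1

theorem eq_one_of_unipotent {g : GLV} {m : ℕ} (h : ((g : Module.End (ZMod p) V) - 1) ^ m = 0)
    (hg : ¬ p ∣ orderOf g) : g = 1 := by
  have h1 : (g : Module.End (ZMod p) V) ^ p ^ m = 1 := pow_char_pow_eq_one
    (pow_eq_zero_of_le (Nat.lt_pow_self (Fact.out : p.Prime).one_lt).le h)
  have h2 : orderOf g ∣ p ^ m :=
    orderOf_dvd_of_pow_eq_one (Units.ext (by rw [Units.val_pow_eq_pow_val, h1, Units.val_one]))
  have h3 : (orderOf g).Coprime (p ^ m) :=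
    Nat.Coprime.pow_right m (((Fact.out : p.Prime).coprime_iff_not_dvd.2 hg).symm)
  exact orderOf_eq_one_iff.1 (Nat.eq_one_of_dvd_coprimes h3 dvd_rfl h2)

theorem pow_p_eq_one {t : GLV} {w : ℕ} (hwp : w ≤ p) (hnil : ((t : Module.End (ZMod p) V) - 1) ^ w = 0) :
    t ^ p = 1 := by
  refine Units.ext ?_
  have := pow_char_pow_eq_one (g := (t : Module.End (ZMod p) V)) (n := 1)
    (pow_eq_zero_of_le (by rw [pow_one]; exact hwp) hnil)
  rwa [pow_one] at this

/-- A short element of order `p` centralises every `p'`-group it normalises. -/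
theorem commute_of_small (K : Subgroup GLV) (hK : ¬ p ∣ Nat.card K) {t : GLV}
    (htn : ∀ k ∈ K, t * k * t⁻¹ ∈ K) (htp : t ^ p = 1)
    (hr : ((t : Module.End (ZMod p) V) - 1) ^ (p - 2) = 0) : ∀ k ∈ K, Commute t k := by
  classical
  have hpp : p.Prime := Fact.out
  have := finite_glv (p := p) (V := V)
  by_cases ht1 : t = 1
  · intro k _; rw [ht1]; exact Commute.one_left k
  intro k hk
  set H := K ⊔ Subgroup.zpowers t with hH
  have hKH : K ≤ H := le_sup_left
  have htH : t ∈ H := Subgroup.mem_sup_right (Subgroup.mem_zpowers t)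
  have htK : Subgroup.zpowers t ≤ Subgroup.normalizer (K : Set GLV) := by
    rw [Subgroup.zpowers_le, Subgroup.mem_normalizer_iff]
    intro x
    refine ⟨htn x, fun hx => ?_⟩
    have hpow : ∀ m : ℕ, t ^ m * (t * x * t⁻¹) * (t ^ m)⁻¹ ∈ K := by
      intro m
      induction m with
      | zero => simpa using hx
      | succ m ih => simpa [pow_succ', mul_assoc] using htn _ ih
    have h := hpow (p - 1)
    have he : t ^ (p - 1) * t = 1 := by rw [← pow_succ, Nat.sub_add_cancel hpp.one_le, htp]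
    rw [eq_inv_of_mul_eq_one_left he] at h
    simpa [mul_assoc] using h
  set K' := K.subgroupOf H with hK'
  have hK'n : K'.Normal := Subgroup.normal_subgroupOf_of_le_normalizer
    (sup_le Subgroup.le_normalizer htK)
  have hgen : ∀ q : H ⧸ K', q ∈ Subgroup.zpowers (QuotientGroup.mk' K' ⟨t, htH⟩) := by
    intro q
    obtain ⟨⟨x, hx⟩, rfl⟩ := QuotientGroup.mk'_surjective K' q
    have hx' : x ∈ K ⊔ Subgroup.zpowers t := hx
    rw [← SetLike.mem_coe, Subgroup.coe_mul_of_right_le_normalizer_left K (Subgroup.zpowers t) htK] at hx'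
    obtain ⟨a, ha, b, ⟨z, rfl⟩, rfl⟩ := hx'
    refine ⟨z, ?_⟩
    have e : (⟨a * t ^ z, hx⟩ : H) = ⟨a, hKH ha⟩ * ⟨t, htH⟩ ^ z := Subtype.ext (by simp)
    show QuotientGroup.mk' K' ⟨t, htH⟩ ^ z = QuotientGroup.mk' K' ⟨a * t ^ z, hx⟩
    rw [e, map_mul, map_zpow]
    have h1 : QuotientGroup.mk' K' (⟨a, hKH ha⟩ : H) = 1 := (QuotientGroup.eq_one_iff _).2 ha
    rw [h1, one_mul]
  have hcard : Nat.card (H ⧸ K') ∣ p := by
    rw [← orderOf_eq_card_of_forall_mem_zpowers hgen]
    refine orderOf_dvd_of_pow_eq_one ?_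
    rw [← map_pow, show (⟨t, htH⟩ : H) ^ p = 1 from Subtype.ext htp, map_one]
  have hcK : Nat.card K' = Nat.card K := Nat.card_congr (Subgroup.subgroupOfEquivOfLe hKH).toEquiv
  have hsep : Solvable.IsPiSeparable ({p} : Set ℕ) H := by
    refine Solvable.isPiSeparable_of_chain (n := 2) ![⊥, K', ⊤] rfl rfl
      (fun i => by fin_cases i <;> simp <;> infer_instance) (fun i => ?_)
    fin_cases i
    · refine Or.inr ?_
      show Solvable.IsPiNum _ ((⊥ : Subgroup H).relIndex K')
      rw [Subgroup.relIndex_bot_left, hcK]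
      intro q hq hd hqp
      exact hK (Set.mem_singleton_iff.1 hqp ▸ hd)
    · refine Or.inl ?_
      show Solvable.IsPiNum _ (K'.relIndex ⊤)
      rw [Subgroup.relIndex_top_right]
      intro q hq hd
      exact Set.mem_singleton_iff.2 ((Nat.prime_dvd_prime_iff_eq hq hpp).1 (hd.trans hcard))
  by_cases hO : Cfsg.pCore p H = ⊥
  · exfalso
    have hord : orderOf (⟨t, htH⟩ : H) = p ^ (0 + 1) := by
      rw [Subgroup.orderOf_mk, zero_add, pow_one]
      exact orderOf_eq_prime htp ht1
    let ρ : H →* Module.End (ZMod p) V := (Units.coeHom _).comp H.subtype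
    have hρ : Function.Injective ρ := fun x y h => Subtype.ext (Units.ext h)
    rcases HallHigman.theorem_b ρ hρ hsep hO _ hord (r := p - 2) hr with h | ⟨n₀, q, m, h1, h2, -, -, -, -, h5, -⟩
    · rw [zero_add, pow_one] at h
      have := hpp.two_le
      omega
    · obtain rfl : n₀ = 1 := by omega
      rw [zero_add, Nat.sub_self, pow_zero, one_mul, pow_one] at h5
      have := hpp.two_le
      omega
  · obtain ⟨M, ⟨hMn, hMp⟩, hM⟩ : ∃ M ∈ {N : Subgroup H | N.Normal ∧ IsPGroup p N}, M ≠ ⊥ := by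
      by_contra hc
      push Not at hc
      exact hO (le_bot_iff.1 (sSup_le fun N hN => le_bot_iff.2 (hc N hN)))
    set T := Subgroup.zpowers (⟨t, htH⟩ : H)
    have hTp : IsPGroup p T := IsPGroup.of_card (n := 1) (by
      rw [Nat.card_zpowers, Subgroup.orderOf_mk, orderOf_eq_prime htp ht1, pow_one])
    have hP : IsPGroup p (M ⊔ T : Subgroup H) := hMp.to_sup_of_normal_left hTp
    have hdis : ∀ z ∈ M ⊔ T, z ∈ K' → z = 1 := by
      intro z hz hzK
      obtain ⟨j, hj⟩ := hP ⟨z, hz⟩
      have h1 : orderOf z ∣ p ^ j := orderOf_dvd_of_pow_eq_one (congrArg Subtype.val hj)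
      obtain ⟨i, -, hi⟩ := (Nat.dvd_prime_pow hpp).1 h1
      rcases i with _ | i
      · rw [pow_zero] at hi; exact orderOf_eq_one_iff.1 hi
      · refine absurd ?_ hK
        rw [← hcK]
        exact (Dvd.intro_left _ (pow_succ p i).symm).trans (hi ▸ Subgroup.orderOf_dvd_natCard K' hzK)
    obtain ⟨x, hxM, hx1⟩ := M.bot_or_exists_ne_one.resolve_left hM
    have htM : (⟨t, htH⟩ : H) ∈ M := by
      set q := QuotientGroup.mk' K' ⟨t, htH⟩
      have hq : orderOf q ∣ p := by
        refine orderOf_dvd_of_pow_eq_one ?_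
        rw [← map_pow, show (⟨t, htH⟩ : H) ^ p = 1 from Subtype.ext htp, map_one]
      have hxq : QuotientGroup.mk' K' x ≠ 1 := fun h =>
        hx1 (hdis x (Subgroup.mem_sup_left hxM) ((QuotientGroup.eq_one_iff x).1 h))
      have hmem : q ∈ Subgroup.zpowers (QuotientGroup.mk' K' x) := by
        have hle : Subgroup.zpowers (QuotientGroup.mk' K' x) ≤ Subgroup.zpowers q :=
          Subgroup.zpowers_le.2 (hgen _)
        have he : Subgroup.zpowers (QuotientGroup.mk' K' x) = Subgroup.zpowers q := by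
          refine Subgroup.eq_of_le_of_card_ge hle ?_
          rw [Nat.card_zpowers, Nat.card_zpowers]
          refine (Nat.le_of_dvd hpp.pos hq).trans ?_
          have h3 : orderOf (QuotientGroup.mk' K' x) ∣ p := orderOf_dvd_natCard _ |>.trans hcard
          rcases (Nat.dvd_prime hpp).1 h3 with h | h
          · exact absurd (orderOf_eq_one_iff.1 h) hxq
          · exact h.ge
        rw [he]; exact Subgroup.mem_zpowers q
      obtain ⟨z, hz⟩ := hmem
      change QuotientGroup.mk' K' x ^ z = q at hz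
      have h4 : (⟨t, htH⟩ : H)⁻¹ * x ^ z = 1 := by
        refine hdis _ ?_ ((QuotientGroup.eq_one_iff _).1 ?_)
        · exact mul_mem (inv_mem (Subgroup.mem_sup_right (Subgroup.mem_zpowers _)))
            (zpow_mem (Subgroup.mem_sup_left hxM) z)
        · show QuotientGroup.mk' K' _ = 1
          rw [map_mul, map_inv, map_zpow, hz, inv_mul_cancel]
      rw [inv_mul_eq_one] at h4
      rw [h4]; exact zpow_mem hxM z
    have hcom : (⟨t, htH⟩ : H) * ⟨k, hKH hk⟩ = ⟨k, hKH hk⟩ * ⟨t, htH⟩ := by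
      refine Subgroup.commute_of_normal_of_disjoint M K' hMn hK'n ?_ _ _ htM hk
      rw [Subgroup.disjoint_def]
      exact fun {z} hz hzK => hdis z (Subgroup.mem_sup_left hz) hzK
    exact congrArg Subtype.val hcom

/-- Sylow subgroups of order `p` are conjugate. -/
theorem exists_conj_mem (Y : Subgroup GLV)
    (hSyl : ∀ Q : Subgroup GLV, Q ≤ Y → IsPGroup p Q → Nat.card Q ≤ p) {t x : GLV} (ht : t ∈ Y)
    (hx : x ∈ Y) (hto : orderOf t = p) (hxo : orderOf x = p) :
    ∃ g ∈ Y, g * t * g⁻¹ ∈ Subgroup.zpowers x := by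
  have := finite_glv (p := p) (V := V)
  have key : ∀ z : Y, orderOf (z : GLV) = p → ∃ S : Sylow p Y, (S : Subgroup Y) = Subgroup.zpowers z := by
    intro z hz
    have hzp : IsPGroup p (Subgroup.zpowers z) :=
      IsPGroup.of_card (n := 1) (by rw [Nat.card_zpowers, ← Subgroup.orderOf_coe, hz, pow_one])
    obtain ⟨S, hS⟩ := hzp.exists_le_sylow
    refine ⟨S, (Subgroup.eq_of_le_of_card_ge hS ?_).symm⟩
    have h1 := hSyl ((S : Subgroup Y).map Y.subtype) (Subgroup.map_subtype_le _) (S.2.map _)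
    rw [Subgroup.card_map_of_injective Y.subtype_injective] at h1
    rwa [Nat.card_zpowers, ← Subgroup.orderOf_coe, hz]
  obtain ⟨S, hS⟩ := key ⟨t, ht⟩ hto
  obtain ⟨T, hT⟩ := key ⟨x, hx⟩ hxo
  obtain ⟨g, hg⟩ := MulAction.exists_smul_eq Y S T
  refine ⟨g, g.2, ?_⟩
  have h : g * ⟨t, ht⟩ * g⁻¹ ∈ (T : Subgroup Y) := by
    rw [← hg, Sylow.coe_subgroup_smul, Subgroup.mem_pointwise_smul_iff_inv_smul_mem]
    simp [mul_assoc, hS]
  rw [hT] at h
  obtain ⟨z, hz⟩ := h
  exact ⟨z, by simpa using congrArg Subtype.val hz⟩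

/-- The powers of a unipotent element to first order along the flag. -/
theorem pow_first_order {N : Module.End (ZMod p) V} {t : GLV} (hN : N = (t : Module.End (ZMod p) V) - 1)
    (c i : ℕ) {v : V} (hv : v ∈ LinearMap.ker (N ^ (i + 2))) :
    ((t ^ c : GLV) : Module.End (ZMod p) V) v - v - (c : ZMod p) • N v ∈ LinearMap.ker (N ^ i) := by
  have hT : (t : Module.End (ZMod p) V) = 1 + N := by rw [hN]; abel
  induction c with
  | zero => simp
  | succ c ih =>
    have h2 : N (N v) ∈ LinearMap.ker (N ^ i) := apply_mem_ker_pow N (apply_mem_ker_pow N hv)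
    have h3 : Commute (t : Module.End (ZMod p) V) N := by rw [hT]; exact (Commute.one_left N).add_left rfl
    have := Submodule.add_mem _ (commute_mem_ker_pow h3 ih) (Submodule.smul_mem _ (c : ZMod p) h2)
    convert this using 1
    rw [pow_succ', Units.val_mul, Module.End.mul_apply, Nat.cast_succ, map_sub, map_sub, map_smul, hT]
    simp only [LinearMap.add_apply, Module.End.one_apply]
    module

variable {t δ : LinearMap.GeneralLinearGroup (ZMod p) V} {w : ℕ}

local notation "E" => Module.End (ZMod p) V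

theorem lower_pow_zero {N f : E} (h : RegNil N w)
    (hf : ∀ j, ∀ v ∈ LinearMap.ker (N ^ (j + 1)), f v ∈ LinearMap.ker (N ^ j)) : f ^ w = 0 := by
  have : ∀ j, ∀ v ∈ LinearMap.ker (N ^ j), (f ^ j) v = 0 := by
    intro j
    induction j with
    | zero => intro v hv; simpa using hv
    | succ j ih =>
      intro v hv
      rw [pow_succ, Module.End.mul_apply]
      exact ih _ (hf j v hv)
  exact LinearMap.ext fun v => this w v (by rw [h.ker_top]; trivial)

theorem idem_mem {ω : ZMod p} (hω : ω - 1 ≠ 0) {P : E} (hδe : (δ : E) = 1 + (ω - 1) • P)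
    {W : Submodule (ZMod p) V} (hW : δ ∈ stab W) : ∀ v ∈ W, P v ∈ W := by
  intro v hv
  have h1 : (δ : E) v ∈ W := (hW v).2 hv
  rw [hδe, LinearMap.add_apply, Module.End.one_apply, LinearMap.smul_apply] at h1
  exact (Submodule.smul_mem_iff W hω).1 (by simpa using W.sub_mem h1 hv)

theorem stab_of_idem {ω : ZMod p} {P : E} (hδe : (δ : E) = 1 + (ω - 1) • P)
    {W : Submodule (ZMod p) V} (hW : ∀ v ∈ W, P v ∈ W) : δ ∈ stab W := by
  refine mem_stab fun v hv => ?_
  rw [hδe, LinearMap.add_apply, Module.End.one_apply, LinearMap.smul_apply]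
  exact W.add_mem hv (W.smul_mem _ (hW v hv))

/-- A homology normalising a regular unipotent element is scalar. -/
theorem idem_trivial_of_normalizes (hw : 3 ≤ w) (hwp : w < p) (hdim : Module.finrank (ZMod p) V = w)
    (hreg : ((t : E) - 1) ^ (w - 1) ≠ 0) (hnil : ((t : E) - 1) ^ w = 0) {ω : ZMod p} (hω0 : ω ≠ 0)
    (hω : ω ^ 2 ≠ 1) {P : E} (hP : P * P = P) (hδe : (δ : E) = 1 + (ω - 1) • P)
    (hn : δ * t * δ⁻¹ ∈ Subgroup.zpowers t) : P = 0 ∨ P = 1 := by
  classical
  have hpp : p.Prime := Fact.out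
  have := finite_glv (p := p) (V := V)
  have hω1 : ω - 1 ≠ 0 := fun e => hω (by rw [sub_eq_zero.1 e, one_pow])
  set N := (t : E) - 1 with hN
  have hR : RegNil N w := ⟨hdim, hnil, hreg⟩
  have htp : t ^ p = 1 := pow_p_eq_one hwp.le hnil
  -- a power of `t` conjugate to `t`
  obtain ⟨e, he⟩ : ∃ e : ℕ, t * δ = δ * t ^ e := by
    have hle : Subgroup.zpowers (δ * t * δ⁻¹) = Subgroup.zpowers t := by
      refine Subgroup.eq_of_le_of_card_ge (Subgroup.zpowers_le.2 hn) ?_
      rw [Nat.card_zpowers, Nat.card_zpowers, ← MulAut.conj_apply, MulEquiv.orderOf_eq]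
    have h1 : t ∈ Subgroup.zpowers (δ * t * δ⁻¹) := hle ▸ Subgroup.mem_zpowers t
    rw [← mem_powers_iff_mem_zpowers] at h1
    obtain ⟨e, he⟩ := h1
    refine ⟨e, ?_⟩
    conv_lhs => rw [← show (δ * t * δ⁻¹) ^ e = t from he]
    rw [conj_pow, inv_mul_cancel_right]
  set S : E := ∑ i ∈ Finset.range e, (t : E) ^ i with hS
  have hSN : Commute S N := Commute.sum_left _ _ _ fun i _ =>
    ((Commute.refl (t : E)).sub_right (Commute.one_right _)).pow_left i
  have hNδ : N * δ = δ * (S * N) := by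
    rw [hN, sub_mul, one_mul, geom_sum_mul, mul_sub, mul_one, ← Units.val_mul, he, Units.val_mul,
      Units.val_pow_eq_pow_val]
  have hNj : ∀ j, N ^ j * (δ : E) = (δ : E) * (S ^ j * N ^ j) := by
    intro j
    induction j with
    | zero => simp
    | succ j ih =>
      rw [pow_succ', mul_assoc, ih, ← mul_assoc, hNδ, pow_succ' S, mul_assoc, mul_assoc, mul_assoc]
      congr 2
      rw [← mul_assoc N, ← (hSN.pow_left j).eq, mul_assoc]
  have hstab : ∀ j, δ ∈ stab (LinearMap.ker (N ^ j)) := fun j => mem_stab fun v hv => by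
    rw [mem_ker_pow, ← Module.End.mul_apply, hNj, Module.End.mul_apply, Module.End.mul_apply,
      mem_ker_pow.1 hv, map_zero, map_zero]
  have hPst : ∀ j, ∀ v ∈ LinearMap.ker (N ^ j), P v ∈ LinearMap.ker (N ^ j) := fun j =>
    idem_mem hω1 hδe (hstab j)
  have hex : ∀ j, j < w → ∃ a : ZMod p, (a = 1 ∨ a = ω) ∧
      ∀ v ∈ LinearMap.ker (N ^ (j + 1)), (δ : E) v - a • v ∈ LinearMap.ker (N ^ j) := by
    intro j hj
    obtain ⟨x, hx, hx'⟩ := SetLike.exists_of_lt (hR.ker_lt hj)
    obtain ⟨c, hc⟩ := hR.exists_sub_smul hj hx hx' (hPst _ x hx)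
    have hcc : (c * c - c) • x ∈ LinearMap.ker (N ^ j) := by
      have h1 := Submodule.add_mem _ (hPst j _ hc) (Submodule.smul_mem _ (c - 1) hc)
      have h2 : P (P x) = P x := by rw [← Module.End.mul_apply, hP]
      rw [map_sub, map_smul, h2] at h1
      have h3 : (P x - c • P x) + (c - 1) • (P x - c • x) = -((c * c - c) • x) := by module
      rw [h3] at h1
      exact neg_mem_iff.1 h1
    have hc01 : c = 0 ∨ c = 1 := by
      by_contra hne
      push Not at hne
      refine hx' ((Submodule.smul_mem_iff _ ?_).1 hcc)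
      rw [← mul_sub_one]
      exact mul_ne_zero hne.1 (sub_ne_zero.2 hne.2)
    refine ⟨1 + (ω - 1) * c, ?_, fun v hv => ?_⟩
    · rcases hc01 with rfl | rfl
      · exact Or.inl (by ring)
      · exact Or.inr (by ring)
    · obtain ⟨d, hd⟩ := hR.exists_sub_smul hj hx hx' hv
      have h1 : P v - c • v ∈ LinearMap.ker (N ^ j) := by
        have := Submodule.add_mem _ (Submodule.sub_mem _ (hPst j _ hd) (Submodule.smul_mem _ c hd))
          (Submodule.smul_mem _ d hc)
        convert this using 1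
        rw [map_sub, map_smul]
        module
      convert Submodule.smul_mem _ (ω - 1) h1 using 1
      rw [hδe, LinearMap.add_apply, Module.End.one_apply, LinearMap.smul_apply]
      module
  -- `S` is `e` modulo the next step
  have hSe : ∀ j, ∀ v ∈ LinearMap.ker (N ^ (j + 1)), S v - (e : ZMod p) • v ∈ LinearMap.ker (N ^ j) := by
    intro j v hv
    have h1 : S v - (e : ZMod p) • v = ∑ i ∈ Finset.range e, (((t : E) ^ i) v - v) := by
      rw [hS, LinearMap.sum_apply, Finset.sum_sub_distrib, Finset.sum_const, Finset.card_range,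
        Nat.cast_smul_eq_nsmul]
    rw [h1]
    refine Submodule.sum_mem _ fun i _ => ?_
    have h2 : (t : E) ^ i - 1 = (∑ k ∈ Finset.range i, (t : E) ^ k) * N := (geom_sum_mul _ i).symm
    have h3 : ((t : E) ^ i) v - v = (∑ k ∈ Finset.range i, (t : E) ^ k) (N v) := by
      rw [← Module.End.mul_apply, ← h2]; rfl
    rw [h3]
    exact commute_mem_ker_pow (Commute.sum_left _ _ _ fun k _ =>
      ((Commute.refl (t : E)).sub_right (Commute.one_right _)).pow_left k) (apply_mem_ker_pow N hv)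
  have hrel : ∀ j, j + 1 < w → ∀ a b : ZMod p,
      (∀ v ∈ LinearMap.ker (N ^ (j + 1)), (δ : E) v - a • v ∈ LinearMap.ker (N ^ j)) →
      (∀ v ∈ LinearMap.ker (N ^ (j + 1 + 1)), (δ : E) v - b • v ∈ LinearMap.ker (N ^ (j + 1))) →
      b = e * a := by
    intro j hj a b ha hb
    obtain ⟨x, hx, hx'⟩ := SetLike.exists_of_lt (hR.ker_lt hj)
    have hy : N x ∈ LinearMap.ker (N ^ (j + 1)) := apply_mem_ker_pow N hx
    have hy' : N x ∉ LinearMap.ker (N ^ j) := fun h => hx' (by
      rw [mem_ker_pow, ← Module.End.mul_apply, ← pow_succ] at h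
      exact h)
    have h1 : N ((δ : E) x) = (δ : E) (S (N x)) := LinearMap.congr_fun hNδ x
    have h2 := apply_mem_ker_pow N (hb x hx)
    have h3 : (δ : E) (S (N x) - (e : ZMod p) • N x) ∈ LinearMap.ker (N ^ j) :=
      (hstab j _).2 (hSe j _ hy)
    have h4 := Submodule.smul_mem _ (e : ZMod p) (ha _ hy)
    by_contra hne
    refine hy' ((Submodule.smul_mem_iff _ (sub_ne_zero.2 hne)).1 ?_)
    have := Submodule.add_mem _ (Submodule.sub_mem _ h3 h2) h4
    convert this using 1
    rw [map_sub, map_smul, map_sub, map_smul, h1]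
    module
  obtain ⟨a, ha, ha'⟩ := hex 0 (by omega)
  obtain ⟨b, hb, hb'⟩ := hex 1 (by omega)
  obtain ⟨c, hc, hc'⟩ := hex 2 (by omega)
  have r1 := hrel 0 (by omega) a b ha' hb'
  have r2 := hrel 1 (by omega) b c hb' hc'
  have he1 : (e : ZMod p) = 1 := by
    rcases ha with ha | ha <;> rcases hb with hb | hb <;> rw [ha, hb] at r1 <;> rw [hb] at r2
    · linear_combination -r1
    · rcases hc with hc | hc <;> rw [hc] at r2
      · exact absurd (by linear_combination ω * r1 - r2) hω
      · exact mul_right_cancel₀ hω0 (by linear_combination -r2)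
    · rcases hc with hc | hc <;> rw [hc] at r2
      · linear_combination -r2
      · exact absurd (by linear_combination ω * r2 - r1) hω
    · exact mul_right_cancel₀ hω0 (by linear_combination -r1)
  have hte : t ^ e = t := by
    have : e ≡ 1 [MOD p] := (ZMod.natCast_eq_natCast_iff e 1 p).1 (by rw [he1, Nat.cast_one])
    rw [← Nat.div_add_mod e p, pow_add, pow_mul, htp, one_pow, one_mul, this, Nat.mod_eq_of_lt hpp.one_lt,
      pow_one]
  have hPN : Commute P N := by
    have h1 : Commute (δ : E) N := by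
      have : Commute (δ : E) (t : E) := by
        rw [Commute, SemiconjBy, ← Units.val_mul, ← Units.val_mul, he, hte]
      exact this.sub_right (Commute.one_right _)
    have h2 : P = (ω - 1)⁻¹ • ((δ : E) - 1) := by
      rw [hδe, add_sub_cancel_left, inv_smul_smul₀ hω1]
    rw [h2]
    exact (h1.sub_left (Commute.one_left _)).smul_left _
  obtain ⟨i, -, hi⟩ := hR.eq_ker_of_stable (X := LinearMap.ker P) fun v hv => by
    rw [LinearMap.mem_ker] at hv ⊢
    rw [← Module.End.mul_apply, hPN.eq, Module.End.mul_apply, hv, map_zero]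
  obtain ⟨j, -, hj⟩ := hR.eq_ker_of_stable (X := LinearMap.range P) fun v hv => by
    obtain ⟨u, rfl⟩ := hv
    exact ⟨N u, by rw [← Module.End.mul_apply, hPN.eq]; rfl⟩
  have hz : ∀ v ∈ LinearMap.ker (N ^ 0), v = 0 := fun v hv => by simpa using hv
  rcases Nat.eq_zero_or_pos i with rfl | hi0
  · refine Or.inr (LinearMap.ext fun v => ?_)
    have : P v - v ∈ LinearMap.ker P := by
      rw [LinearMap.mem_ker, map_sub, ← Module.End.mul_apply, hP, sub_self]
    rw [hi] at this
    exact sub_eq_zero.1 (hz _ this)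
  rcases Nat.eq_zero_or_pos j with rfl | hj0
  · refine Or.inl (LinearMap.ext fun v => ?_)
    have := LinearMap.mem_range_self P v
    rw [hj] at this
    exact hz _ this
  exfalso
  obtain ⟨v, hv, hv'⟩ := SetLike.exists_of_lt (hR.ker_lt (j := 0) (by omega))
  have h1 : v ∈ LinearMap.ker P := hi ▸ ker_pow_mono N hi0 hv
  have h2 : v ∈ LinearMap.range P := hj ▸ ker_pow_mono N hj0 hv
  obtain ⟨u, rfl⟩ := h2
  rw [LinearMap.mem_ker, ← Module.End.mul_apply, hP] at h1
  exact hv' (by rw [h1]; exact Submodule.zero_mem _)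

/-- Two homologies do not generate a group with a regular element of order `p`. -/
theorem no_pair (D : Subgroup GLV) {δ' : GLV} (hD : D = Subgroup.closure {δ, δ'}) (ht : t ∈ D)
    (hw : 3 ≤ w) (hwp : w + 2 ≤ p) (hdim : Module.finrank (ZMod p) V = w)
    (hreg : ((t : E) - 1) ^ (w - 1) ≠ 0) (hnil : ((t : E) - 1) ^ w = 0)
    (hSyl : ∀ Q : Subgroup GLV, Q ≤ D → IsPGroup p Q → Nat.card Q ≤ p)
    {ω : ZMod p} (hω0 : ω ≠ 0) (hω : ω ^ 2 ≠ 1) {P Q : E} (hP : P * P = P) (hQ : Q * Q = Q)
    (hδe : (δ : E) = 1 + (ω - 1) • P) (hδe' : (δ' : E) = 1 + (ω - 1) • Q) : P = 0 ∨ P = 1 := by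
  classical
  have hpp : p.Prime := Fact.out
  have := finite_glv (p := p) (V := V)
  have hω1 : ω - 1 ≠ 0 := fun e => hω (by rw [sub_eq_zero.1 e, one_pow])
  set N := (t : E) - 1 with hN
  have hR : RegNil N w := ⟨hdim, hnil, hreg⟩
  have htp : t ^ p = 1 := pow_p_eq_one (by omega) hnil
  have ht1 : t ≠ 1 := fun e => hreg (by
    rw [hN, e, Units.val_one, sub_self, zero_pow (by omega)])
  have hδD : δ ∈ D := hD ▸ Subgroup.subset_closure (Set.mem_insert _ _)
  have hto : orderOf t = p := orderOf_eq_prime htp ht1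
  have hDstab : ∀ W : Submodule (ZMod p) V, (∀ v ∈ W, P v ∈ W) → (∀ v ∈ W, Q v ∈ W) → D ≤ stab W := by
    intro W h1 h2
    rw [hD, Subgroup.closure_le]
    rintro x (rfl | rfl)
    · exact stab_of_idem hδe h1
    · exact stab_of_idem hδe' h2
  have hPst : ∀ W : Submodule (ZMod p) V, D ≤ stab W → ∀ v ∈ W, P v ∈ W := fun W h =>
    idem_mem hω1 hδe (h hδD)
  have hQst : ∀ W : Submodule (ZMod p) V, D ≤ stab W → ∀ v ∈ W, Q v ∈ W := fun W h =>
    idem_mem hω1 hδe' (h (hD ▸ Subgroup.subset_closure (Set.mem_insert_of_mem _ rfl)))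
  have htN : ∀ W : Submodule (ZMod p) V, D ≤ stab W → ∀ v ∈ W, N v ∈ W := fun W h v hv => by
    rw [hN, LinearMap.sub_apply, Module.End.one_apply]
    exact W.sub_mem ((h ht v).2 hv) hv
  obtain ⟨-, -, -, -, hRP, hRQ⟩ := bracket_rels hP hQ
  set R := (P - Q) * (P - Q) with hRdef
  have hRD : ∀ g ∈ D, Commute R (g : E) := by
    intro g hg
    rw [hD] at hg
    induction hg using Subgroup.closure_induction with
    | mem x hx =>
      rcases hx with rfl | rfl
      · rw [hδe]; exact (Commute.one_right _).add_right (hRP.smul_right _)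
      · rw [hδe']; exact (Commute.one_right _).add_right (hRQ.smul_right _)
    | one => exact Commute.one_right _
    | mul x y _ _ hx hy => rw [Units.val_mul]; exact hx.mul_right hy
    | inv x _ hx => exact hx.units_inv_right
  obtain ⟨v₁, hv₁, hv₁'⟩ := SetLike.exists_of_lt (hR.ker_lt (j := 0) (by omega))
  have hRN : Commute R N := (hRD t ht).sub_right (Commute.one_right _)
  obtain ⟨r, hr⟩ := hR.exists_sub_smul (by omega) hv₁ hv₁' (commute_mem_ker_pow hRN hv₁)
  set R' := R - r • (1 : E) with hR'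
  have hR'N : Commute R' N := hRN.sub_left ((Commute.one_left _).smul_left _)
  have hlow := (hR.pow_eq_zero_of_kills hR'N fun v hv => by
    obtain ⟨c, hc⟩ := hR.exists_sub_smul (j := 0) (by omega) hv₁ hv₁' hv
    rw [mem_ker_pow, pow_zero, Module.End.one_apply] at hc hr
    rw [sub_eq_zero.1 hc, map_smul, hR', LinearMap.sub_apply, LinearMap.smul_apply, Module.End.one_apply,
      hr, smul_zero]).1
  have htop : D ≤ stab (LinearMap.ker (N ^ w)) := fun g _ v => by simp [hR.ker_top]
  -- an eigenvector in a layer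
  have heig : ∀ i j, i < j → j ≤ w → D ≤ stab (LinearMap.ker (N ^ i)) → D ≤ stab (LinearMap.ker (N ^ j)) →
      ∃ v ε, v ∈ LinearMap.ker (N ^ j) ∧ v ∉ LinearMap.ker (N ^ i) ∧ (ε = (0 : ZMod p) ∨ ε = 1) ∧ P v = ε • v := by
    intro i j hij hjw hi hj
    obtain ⟨x, hx, hx'⟩ := SetLike.exists_of_lt (hR.ker_lt (j := i) (by omega))
    have hxj : x ∈ LinearMap.ker (N ^ j) := ker_pow_mono N hij hx
    by_cases hPx : P x ∈ LinearMap.ker (N ^ i)
    · refine ⟨x - P x, 0, Submodule.sub_mem _ hxj (ker_pow_mono N hij.le hPx), fun h => hx' ?_, Or.inl rfl, ?_⟩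
      · simpa using Submodule.add_mem _ h hPx
      · rw [map_sub, ← Module.End.mul_apply, hP, sub_self, zero_smul]
    · exact ⟨P x, 1, hPst _ hj x hxj, hPx, Or.inr rfl, by rw [one_smul, ← Module.End.mul_apply, hP]⟩
  -- invariant layers are at most two apart
  have hgap : ∀ i, i < w → D ≤ stab (LinearMap.ker (N ^ i)) → D ≤ stab (LinearMap.ker (N ^ (i + 1))) ∨ (i + 2 ≤ w ∧ D ≤ stab (LinearMap.ker (N ^ (i + 2)))) := by
    intro i hiw hi
    have hex : ∃ j, i < j ∧ D ≤ stab (LinearMap.ker (N ^ j)) := ⟨w, hiw, htop⟩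
    set j := Nat.find hex
    obtain ⟨hij, hj⟩ : i < j ∧ D ≤ stab (LinearMap.ker (N ^ j)) := Nat.find_spec hex
    have hjw : j ≤ w := Nat.find_le ⟨hiw, htop⟩
    have hmin : ∀ l, l < j → D ≤ stab (LinearMap.ker (N ^ l)) → l ≤ i := fun l hl h =>
      not_lt.1 fun h' => Nat.find_min hex hl ⟨h', h⟩
    have hR'i : ∀ v ∈ LinearMap.ker (N ^ j), R' v ∈ LinearMap.ker (N ^ i) := by
      set X := (LinearMap.ker (N ^ j)).map R' ⊔ LinearMap.ker (N ^ i) with hX
      have hXst : D ≤ stab X := fun g hg => mem_stab fun v hv => by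
        obtain ⟨a, ⟨u, hu, rfl⟩, b, hb, rfl⟩ := Submodule.mem_sup.1 hv
        rw [map_add]
        refine Submodule.add_mem_sup ⟨(g : E) u, (hj hg u).2 hu, ?_⟩ ((hi hg b).2 hb)
        rw [← Module.End.mul_apply, ← Module.End.mul_apply]
        exact congrArg (fun f : E => f u)
          ((hRD g hg).sub_left ((Commute.one_left _).smul_left r)).eq
      obtain ⟨l, hlw, hl⟩ := hR.eq_ker_of_stable (htN X hXst)
      have hle : X ≤ LinearMap.ker (N ^ (j - 1)) := by
        refine sup_le ?_ (ker_pow_mono N (by omega))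
        rintro v ⟨u, hu, rfl⟩
        exact hlow (j - 1) u (by rw [Nat.sub_add_cancel (by omega)]; exact hu)
      have hlj : l ≤ j - 1 := by
        have h := Submodule.finrank_mono hle
        rw [hl] at h
        rwa [hR.finrank_ker hlw, hR.finrank_ker (by omega)] at h
      have hli : l ≤ i := hmin l (by omega) (hl ▸ hXst)
      intro v hv
      have : R' v ∈ X := Submodule.mem_sup_left ⟨v, hv, rfl⟩
      rw [hl] at this
      exact ker_pow_mono N hli this
    obtain ⟨v, ε, hvj, hvi, hε, hPv⟩ := heig i j hij hjw hi hj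
    set Y := Submodule.span (ZMod p) {v} ⊔ Submodule.span (ZMod p) {Q v} ⊔ LinearMap.ker (N ^ i) with hY
    have hvY : v ∈ Y :=
      Submodule.mem_sup_left (Submodule.mem_sup_left (Submodule.mem_span_singleton_self v))
    have hQvY : Q v ∈ Y :=
      Submodule.mem_sup_left (Submodule.mem_sup_right (Submodule.mem_span_singleton_self _))
    have hPQv : P (Q v) ∈ Y := by
      have h1 : R' v ∈ Y := Submodule.mem_sup_right (hR'i v hvj)
      have h2 : P (Q v) = ε • v - ε • Q v + Q v - r • v - R' v := by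
        rw [hR', hRdef, LinearMap.sub_apply, LinearMap.smul_apply, Module.End.one_apply,
          Module.End.mul_apply, LinearMap.sub_apply, LinearMap.sub_apply, map_sub, map_sub,
          ← Module.End.mul_apply P P, hP, ← Module.End.mul_apply Q Q, hQ, hPv, map_smul]
        module
      rw [h2]
      exact Y.sub_mem (Y.sub_mem (Y.add_mem (Y.sub_mem (Y.smul_mem _ hvY) (Y.smul_mem _ hQvY)) hQvY)
        (Y.smul_mem _ hvY)) h1
    have hYst : ∀ f : E, f v ∈ Y → f (Q v) ∈ Y → (∀ u ∈ LinearMap.ker (N ^ i), f u ∈ LinearMap.ker (N ^ i)) → ∀ u ∈ Y, f u ∈ Y := by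
      intro f h1 h2 h3 u hu
      obtain ⟨a, ha, b, hb, rfl⟩ := Submodule.mem_sup.1 hu
      obtain ⟨a₁, ha₁, a₂, ha₂, rfl⟩ := Submodule.mem_sup.1 ha
      obtain ⟨c₁, rfl⟩ := Submodule.mem_span_singleton.1 ha₁
      obtain ⟨c₂, rfl⟩ := Submodule.mem_span_singleton.1 ha₂
      rw [map_add, map_add, map_smul, map_smul]
      exact Y.add_mem (Y.add_mem (Y.smul_mem _ h1) (Y.smul_mem _ h2)) (Submodule.mem_sup_right (h3 b hb))
    have hDY : D ≤ stab Y := hDstab Y
      (hYst P (hPv ▸ Y.smul_mem ε hvY) hPQv (hPst _ hi))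
      (hYst Q hQvY (by rw [← Module.End.mul_apply, hQ]; exact hQvY) (hQst _ hi))
    obtain ⟨l, hlw, hl⟩ := hR.eq_ker_of_stable (htN Y hDY)
    have hYj : Y ≤ LinearMap.ker (N ^ j) := sup_le (sup_le (by simpa using hvj) (by simpa using hQst _ hj v hvj))
      (ker_pow_mono N hij.le)
    have hl1 : l ≤ j := by
      have h := Submodule.finrank_mono hYj
      rw [hl] at h
      rwa [hR.finrank_ker hlw, hR.finrank_ker hjw] at h
    have hil : i < l := not_le.1 fun h => hvi (ker_pow_mono N h (hl ▸ hvY))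
    have hl2 : l ≤ i + 2 := by
      have h1 : finrank (ZMod p) Y ≤ 1 + 1 + i := by
        refine (Submodule.finrank_add_le_finrank_add_finrank _ _).trans ?_
        refine Nat.add_le_add ((Submodule.finrank_add_le_finrank_add_finrank _ _).trans ?_)
          (le_of_eq (hR.finrank_ker hiw.le))
        refine Nat.add_le_add ?_ ?_ <;>
          exact (finrank_span_le_card _).trans (by simp)
      rw [hl, hR.finrank_ker hlw] at h1
      omega
    have hlj : l = j := le_antisymm hl1 (not_lt.1 fun h => absurd (hmin l h (hl ▸ hDY)) (not_le.2 hil))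
    rcases (show j = i + 1 ∨ j = i + 2 by omega) with h | h
    · exact Or.inl (h ▸ hj)
    · exact Or.inr ⟨h ▸ hjw, h ▸ hj⟩
  by_cases hall : ∀ j, j ≤ w → D ≤ stab (LinearMap.ker (N ^ j))
  · -- the whole flag is invariant
    have hallj : ∀ j, D ≤ stab (LinearMap.ker (N ^ j)) := fun j => by
      rcases le_or_gt j w with h | h
      · exact hall j h
      · intro g _ v
        have h1 : ∀ u : V, u ∈ LinearMap.ker (N ^ j) := fun u => ker_pow_mono N h.le (by rw [hR.ker_top]; trivial)
        simp [h1]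
    let U : Subgroup GLV :=
      { carrier := {g | g ∈ D ∧ ∀ j, ∀ v ∈ LinearMap.ker (N ^ (j + 1)), (g : E) v - v ∈ LinearMap.ker (N ^ j)}
        one_mem' := ⟨D.one_mem, fun j v _ => by simp⟩
        mul_mem' := fun {a b} ⟨ha, ha'⟩ ⟨hb, hb'⟩ => ⟨D.mul_mem ha hb, fun j v hv => by
          have h := Submodule.add_mem _ ((hallj j ha _).2 (hb' j v hv)) (ha' j v hv)
          rw [map_sub, sub_add_sub_cancel] at h
          rwa [Units.val_mul, Module.End.mul_apply]⟩
        inv_mem' := fun {a} ⟨ha, ha'⟩ => ⟨D.inv_mem ha, fun j v hv => by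
          have h := Submodule.neg_mem _ ((hallj j (D.inv_mem ha) _).2 (ha' j v hv))
          rwa [map_sub, ← Module.End.mul_apply, Units.inv_mul, Module.End.one_apply, neg_sub] at h⟩ }
    have hUp : IsPGroup p U := fun g => ⟨w, Subtype.ext (Units.ext (by
      have h1 : (((g : GLV) : E) - 1) ^ w = 0 := lower_pow_zero hR fun j v hv => g.2.2 j v hv
      rw [SubgroupClass.coe_pow, Units.val_pow_eq_pow_val]
      exact pow_char_pow_eq_one (pow_eq_zero_of_le (Nat.lt_pow_self hpp.one_lt).le h1)))⟩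
    have htU : t ∈ U := ⟨ht, fun j v hv => by
      have := apply_mem_ker_pow N hv
      rwa [hN, LinearMap.sub_apply, Module.End.one_apply] at this⟩
    have hcU := hSyl U (fun g hg => hg.1) hUp
    have hUeq : Subgroup.zpowers t = U := by
      refine Subgroup.eq_of_le_of_card_ge (Subgroup.zpowers_le.2 htU) ?_
      rwa [Nat.card_zpowers, hto]
    refine idem_trivial_of_normalizes hw (by omega) hdim hreg hnil hω0 hω hP hδe ?_
    rw [hUeq]
    refine ⟨D.mul_mem (D.mul_mem hδD ht) (D.inv_mem hδD), fun j v hv => ?_⟩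
    have h1 : ((δ⁻¹ : GLV) : E) v ∈ LinearMap.ker (N ^ (j + 1)) := (hallj _ (D.inv_mem hδD) v).2 hv
    have h2 := (hallj j hδD _).2 (htU.2 j _ h1)
    rw [map_sub, ← Module.End.mul_apply, ← Module.End.mul_apply, ← Module.End.mul_apply, Units.mul_inv,
      Module.End.one_apply] at h2
    rwa [Units.val_mul, Units.val_mul]
  -- a layer of dimension two
  obtain ⟨i, hiw, hi, hi1⟩ : ∃ i, i < w ∧ D ≤ stab (LinearMap.ker (N ^ i)) ∧ ¬ D ≤ stab (LinearMap.ker (N ^ (i + 1))) := by
    by_contra hc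
    push Not at hc
    refine hall fun j => ?_
    induction j with
    | zero =>
      intro _ g _ v
      have hinj : Function.Injective (g : E) :=
        Function.LeftInverse.injective (g := (↑g⁻¹ : E)) fun v => by
          rw [← Module.End.mul_apply, Units.inv_mul]; rfl
      simp [hinj.eq_iff' (map_zero _)]
    | succ j ih => exact fun h => hc j h (ih (by omega))
  obtain ⟨hi2w, hi2⟩ := (hgap i hiw hi).resolve_left hi1
  let Kk : Subgroup GLV :=
    { carrier := {g | g ∈ D ∧ ∀ v ∈ LinearMap.ker (N ^ (i + 2)), (g : E) v - v ∈ LinearMap.ker (N ^ i)}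
      one_mem' := ⟨D.one_mem, fun v _ => by simp⟩
      mul_mem' := fun {a b} ⟨ha, ha'⟩ ⟨hb, hb'⟩ => ⟨D.mul_mem ha hb, fun v hv => by
        have h := Submodule.add_mem _ ((hi ha _).2 (hb' v hv)) (ha' v hv)
        rw [map_sub, sub_add_sub_cancel] at h
        rwa [Units.val_mul, Module.End.mul_apply]⟩
      inv_mem' := fun {a} ⟨ha, ha'⟩ => ⟨D.inv_mem ha, fun v hv => by
        have h := Submodule.neg_mem _ ((hi (D.inv_mem ha) _).2 (ha' v hv))
        rwa [map_sub, ← Module.End.mul_apply, Units.inv_mul, Module.End.one_apply, neg_sub] at h⟩ }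
  have hKn : ∀ h ∈ D, ∀ g ∈ Kk, h * g * h⁻¹ ∈ Kk := fun h hh g hg =>
    ⟨D.mul_mem (D.mul_mem hh hg.1) (D.inv_mem hh), fun v hv => by
      have h2 := (hi hh _).2 (hg.2 _ ((hi2 (D.inv_mem hh) v).2 hv))
      rw [map_sub, ← Module.End.mul_apply, ← Module.End.mul_apply, ← Module.End.mul_apply, Units.mul_inv,
        Module.End.one_apply] at h2
      rwa [Units.val_mul, Units.val_mul]⟩
  obtain ⟨x₂, hx₂, hx₂'⟩ := SetLike.exists_of_lt (hR.ker_lt (j := i + 1) (by omega))
  have hx₁' : N x₂ ∉ LinearMap.ker (N ^ i) := fun h => hx₂' (by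
    simp only [mem_ker_pow, ← Module.End.mul_apply, ← pow_succ] at h
    exact h)
  have hKp : ¬ p ∣ Nat.card Kk := by
    intro hd
    obtain ⟨x, hx⟩ := exists_prime_orderOf_dvd_card' p hd
    rw [← Subgroup.orderOf_coe] at hx
    obtain ⟨g, hg, hgt⟩ := exists_conj_mem D hSyl ht x.2.1 hto hx
    have h1 : g * t * g⁻¹ ∈ Kk := Subgroup.zpowers_le.2 x.2 hgt
    have h2 : t ∈ Kk := by
      have := hKn g⁻¹ (D.inv_mem hg) _ h1
      simpa [mul_assoc] using this
    refine hx₁' ?_
    have := h2.2 x₂ hx₂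
    rwa [hN, LinearMap.sub_apply, Module.End.one_apply]
  have hKtriv : ∀ k ∈ Kk, k = 1 := by
    intro k hk
    have hc : Commute t k := commute_of_small Kk hKp (fun k hk => hKn t ht k hk) htp
      (pow_eq_zero_of_le (by omega) hnil) k hk
    refine eq_one_of_unipotent (m := w) ?_
      (fun h => hKp (h.trans (Subgroup.orderOf_dvd_natCard Kk hk)))
    have hcN : Commute ((k : E) - 1) N :=
      ((hc.symm.map (Units.coeHom E)).sub_right (Commute.one_right _)).sub_left (Commute.one_left _)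
    refine (hR.pow_eq_zero_of_kills hcN fun v hv => ?_).2
    have hu : (N ^ (i + 1)) x₂ ∈ LinearMap.ker (N ^ 1) := by
      rw [mem_ker_pow, ← Module.End.mul_apply, ← pow_add, Nat.add_comm 1]
      exact hx₂
    have hu' : (N ^ (i + 1)) x₂ ∉ LinearMap.ker (N ^ 0) := fun h => hx₂' (by
      rw [mem_ker_pow, pow_zero, Module.End.one_apply] at h
      exact h)
    obtain ⟨c, hcv⟩ := hR.exists_sub_smul (by omega) hu hu' hv
    rw [mem_ker_pow, pow_zero, Module.End.one_apply, sub_eq_zero] at hcv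
    rw [hcv, map_smul, ← Module.End.mul_apply, (hcN.pow_right (i + 1)).eq, Module.End.mul_apply]
    have h3 : ((k : E) - 1) x₂ ∈ LinearMap.ker (N ^ i) := by
      rw [LinearMap.sub_apply, Module.End.one_apply]
      exact hk.2 x₂ hx₂
    rw [mem_ker_pow.1 (ker_pow_mono N i.le_succ h3), smul_zero]
  obtain ⟨v, ε, hv2, hvi, hε, hPv⟩ := heig i (i + 2) (by omega) hi2w hi hi2
  -- move the eigenvector into the flag
  obtain ⟨h, hhD, hhv⟩ : ∃ h ∈ D, (h : E) v ∈ LinearMap.ker (N ^ (i + 1)) := by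
    by_cases hv1 : v ∈ LinearMap.ker (N ^ (i + 1))
    · exact ⟨1, D.one_mem, by simpa using hv1⟩
    obtain ⟨g, hg, hgne⟩ := SetLike.not_le_iff_exists.1 hi1
    obtain ⟨x, hx, hgx⟩ : ∃ x ∈ LinearMap.ker (N ^ (i + 1)), (g : E) x ∉ LinearMap.ker (N ^ (i + 1)) := by
      by_contra hc
      push Not at hc
      exact hgne (mem_stab hc)
    have hx' : x ∉ LinearMap.ker (N ^ i) := fun h => hgx (ker_pow_mono N i.le_succ ((hi hg x).2 h))
    have hgx2 : (g : E) x ∈ LinearMap.ker (N ^ (i + 2)) := (hi2 hg x).2 (ker_pow_mono N (Nat.le_succ _) hx)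
    obtain ⟨α, hα⟩ := hR.exists_sub_smul (by omega) hgx2 hgx hv2
    have hα0 : α ≠ 0 := fun e => hv1 (by simpa [e] using hα)
    obtain ⟨β, hβ⟩ := hR.exists_sub_smul (by omega) hx hx' hα
    obtain ⟨b, hb⟩ := hR.exists_sub_smul (by omega) hx hx' (apply_mem_ker_pow N hgx2)
    have hb0 : b ≠ 0 := fun e => hgx (by
      rw [e, zero_smul, sub_zero] at hb
      simp only [mem_ker_pow] at hb ⊢
      rw [pow_succ, Module.End.mul_apply]
      exact hb)
    set m := (-β / (α * b)).val with hm
    have hmβ : (m : ZMod p) * (α * b) = -β := by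
      rw [hm, ZMod.natCast_zmod_val, div_mul_cancel₀ _ (mul_ne_zero hα0 hb0)]
    refine ⟨g⁻¹ * t ^ m, D.mul_mem (D.inv_mem hg) (D.pow_mem ht m), ?_⟩
    have h1 := pow_first_order hN m i hv2
    have h2 : N v - (α * b) • x ∈ LinearMap.ker (N ^ i) := by
      have := Submodule.add_mem _ (apply_mem_ker_pow N hα) (Submodule.smul_mem _ α hb)
      convert this using 1
      rw [map_sub, map_smul]
      module
    have h3 : ((t ^ m : GLV) : E) v - α • (g : E) x ∈ LinearMap.ker (N ^ i) := by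
      have := Submodule.add_mem _ (Submodule.add_mem _ h1 (Submodule.smul_mem _ (m : ZMod p) h2)) hβ
      convert this using 1
      rw [smul_sub, smul_smul, hmβ]
      module
    have h4 := (hi (D.inv_mem hg) _).2 h3
    rw [map_sub, map_smul, ← Module.End.mul_apply, ← Module.End.mul_apply, Units.inv_mul,
      Module.End.one_apply] at h4
    have h5 := Submodule.add_mem _ (ker_pow_mono N i.le_succ h4) (Submodule.smul_mem _ α hx)
    rwa [sub_add_cancel, ← Units.val_mul] at h5
  set δ₂ := h * δ * h⁻¹ with hδ₂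
  set P₂ : E := (h : E) * P * ((h⁻¹ : GLV) : E) with hP₂
  have hδ₂e : (δ₂ : E) = 1 + (ω - 1) • P₂ := by
    rw [hδ₂, Units.val_mul, Units.val_mul, hδe, hP₂, mul_add, add_mul, mul_one, Units.mul_inv,
      mul_smul_comm, smul_mul_assoc]
  have hP₂i : P₂ * P₂ = P₂ := by
    rw [hP₂, mul_assoc _ _ (_ * _ * _), ← mul_assoc ((h⁻¹ : GLV) : E), ← mul_assoc ((h⁻¹ : GLV) : E),
      Units.inv_mul, one_mul, ← mul_assoc, mul_assoc (h : E) P P, hP]
  have hδ₂D : δ₂ ∈ D := D.mul_mem (D.mul_mem hhD hδD) (D.inv_mem hhD)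
  have hhvi : (h : E) v ∉ LinearMap.ker (N ^ i) := fun e => hvi ((hi hhD v).1 e)
  have hδ₂1 : δ₂ ∈ stab (LinearMap.ker (N ^ (i + 1))) := by
    refine mem_stab fun u hu => ?_
    obtain ⟨c, hc⟩ := hR.exists_sub_smul (by omega) hhv hhvi hu
    have h1 : (δ₂ : E) (u - c • (h : E) v) ∈ LinearMap.ker (N ^ (i + 1)) := ker_pow_mono N i.le_succ ((hi hδ₂D _).2 hc)
    have h2 : (δ₂ : E) ((h : E) v) = (1 + (ω - 1) * ε) • (h : E) v := by
      rw [hδ₂e, LinearMap.add_apply, Module.End.one_apply, LinearMap.smul_apply, hP₂, Module.End.mul_apply,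
        Module.End.mul_apply, ← Module.End.mul_apply (↑h⁻¹ : E), Units.inv_mul, Module.End.one_apply, hPv,
        map_smul, add_smul, one_smul, mul_smul]
    rw [map_sub, map_smul, h2] at h1
    simpa using Submodule.add_mem _ h1 (Submodule.smul_mem _ c (Submodule.smul_mem _ (1 + (ω - 1) * ε) hhv))
  set y := δ₂ * t * δ₂⁻¹ with hy
  have hyD : y ∈ D := D.mul_mem (D.mul_mem hδ₂D ht) (D.inv_mem hδ₂D)
  have hylow : ∀ j, δ₂ ∈ stab (LinearMap.ker (N ^ j)) → δ₂ ∈ stab (LinearMap.ker (N ^ (j + 1))) → ∀ u ∈ LinearMap.ker (N ^ (j + 1)), (y : E) u - u ∈ LinearMap.ker (N ^ j) := by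
    intro j hj0 hj1 u hu
    have h1 : ((δ₂⁻¹ : GLV) : E) u ∈ LinearMap.ker (N ^ (j + 1)) := ((inv_mem hj1 : δ₂⁻¹ ∈ stab (LinearMap.ker (N ^ (j + 1)))) u).2 hu
    have h2 := (hj0 _).2 (apply_mem_ker_pow N h1)
    rw [hN, LinearMap.sub_apply, Module.End.one_apply, map_sub, ← Module.End.mul_apply,
      ← Module.End.mul_apply, ← Module.End.mul_apply, Units.mul_inv, Module.End.one_apply] at h2
    rwa [hy, Units.val_mul, Units.val_mul]
  obtain ⟨c, hc⟩ := hR.exists_sub_smul (by omega) (apply_mem_ker_pow N hx₂) hx₁'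
    (hylow (i + 1) hδ₂1 (hi2 hδ₂D) x₂ hx₂)
  have hdiff : ∀ u ∈ LinearMap.ker (N ^ (i + 2)), (y : E) u - ((t ^ c.val : GLV) : E) u ∈ LinearMap.ker (N ^ i) := by
    intro u hu
    obtain ⟨d, hd⟩ := hR.exists_sub_smul (by omega) hx₂ hx₂' hu
    have h1 := hylow i (hi hδ₂D) hδ₂1 _ hd
    have h2 := pow_first_order hN c.val i hu
    rw [ZMod.natCast_zmod_val] at h2
    have h3 := apply_mem_ker_pow N hd
    have := Submodule.sub_mem _ (Submodule.sub_mem _ (Submodule.add_mem _ h1 (Submodule.smul_mem _ d hc)) h2)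
      (Submodule.smul_mem _ c h3)
    convert this using 1
    rw [map_sub, map_sub, map_smul, map_smul]
    module
  have hmem : y * (t ^ c.val)⁻¹ ∈ Kk := ⟨D.mul_mem hyD (D.inv_mem (D.pow_mem ht _)), fun u hu => by
    have h1 := hdiff _ ((hi2 (D.inv_mem (D.pow_mem ht c.val)) u).2 hu)
    rwa [← Module.End.mul_apply, ← Module.End.mul_apply, Units.mul_inv, Module.End.one_apply,
      ← Units.val_mul] at h1⟩
  have hyt : y = t ^ c.val := mul_inv_eq_one.1 (hKtriv _ hmem)
  have hback : P = ((h⁻¹ : GLV) : E) * P₂ * (h : E) := by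
    rw [hP₂, ← mul_assoc, ← mul_assoc, Units.inv_mul, one_mul, mul_assoc, Units.inv_mul, mul_one]
  rcases idem_trivial_of_normalizes hw (by omega) hdim hreg hnil hω0 hω hP₂i hδ₂e
      (by rw [← hy, hyt]; exact Subgroup.pow_mem _ (Subgroup.mem_zpowers t) _) with e | e
  · exact Or.inl (by rw [hback, e, mul_zero, zero_mul])
  · exact Or.inr (by rw [hback, e, mul_one, Units.inv_mul])

/-- Two homologies generating a group of order prime to `p` commute. -/
theorem commute_of_prime_to {δ' : GLV} (hD : ¬ p ∣ Nat.card (Subgroup.closure ({δ, δ'} : Set GLV)))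
    {ω : ZMod p} (hω : 6 ≤ orderOf ω) {P Q : E} (hP : P * P = P) (hQ : Q * Q = Q)
    (hδe : (δ : E) = 1 + (ω - 1) • P) (hδe' : (δ' : E) = 1 + (ω - 1) • Q) : Commute δ δ' := by
  classical
  have := finite_glv (p := p) (V := V)
  set D := Subgroup.closure ({δ, δ'} : Set GLV) with hDdef
  let L := AlgebraicClosure (ZMod p)
  have : CharP L p := charP_of_injective_algebraMap (algebraMap (ZMod p) L).injective p
  let b := Module.finBasis (ZMod p) V
  let φ : E →+* Module.End L (Fin (Module.finrank (ZMod p) V) → L) :=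
    (Matrix.toLinAlgEquiv' (R := L)).toRingEquiv.toRingHom.comp
      ((algebraMap (ZMod p) L).mapMatrix.comp (LinearMap.toMatrixAlgEquiv b).toRingEquiv.toRingHom)
  have hφ : Function.Injective φ :=
    (Matrix.toLinAlgEquiv' (R := L)).injective.comp
      ((Matrix.map_injective (algebraMap (ZMod p) L).injective).comp
        (LinearMap.toMatrixAlgEquiv b).injective)
  have hsmul : ∀ (c : ZMod p) (f : E), φ (c • f) = algebraMap (ZMod p) L c • φ f := by
    intro c f
    rw [Algebra.smul_def, map_mul, Algebra.smul_def (algebraMap (ZMod p) L c)]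
    congr 1
    exact RingHom.congr_fun (RingHom.ext_zmod (φ.comp (algebraMap (ZMod p) E))
      ((algebraMap L (Module.End L (Fin (Module.finrank (ZMod p) V) → L))).comp (algebraMap (ZMod p) L))) c
  let σ : D →* Module.End L (Fin (Module.finrank (ZMod p) V) → L) :=
    φ.toMonoidHom.comp ((Units.coeHom E).comp D.subtype)
  have hδD : δ ∈ D := Subgroup.subset_closure (Set.mem_insert _ _)
  have hδ'D : δ' ∈ D := Subgroup.subset_closure (Set.mem_insert_of_mem _ rfl)
  have hωL : 6 ≤ orderOf (algebraMap (ZMod p) L ω) := by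
    have h := orderOf_injective (algebraMap (ZMod p) L).toMonoidHom (algebraMap (ZMod p) L).injective ω
    exact hω.trans h.ge
  have hσ : ∀ (x : GLV) (hx : x ∈ D) (X : E), (x : E) = 1 + (ω - 1) • X →
      σ ⟨x, hx⟩ = 1 + (algebraMap (ZMod p) L ω - 1) • φ X := by
    intro x hx X hxe
    show φ (x : E) = _
    rw [hxe, map_add, map_one, hsmul, map_sub, map_one]
  obtain ⟨m, hm⟩ := bracket_nilpotent p hD σ (a := ⟨δ, hδD⟩) (b := ⟨δ', hδ'D⟩) hωL
    (P := φ P) (Q := φ Q) (by rw [← map_mul, hP]) (by rw [← map_mul, hQ]) (hσ _ hδD P hδe) (hσ _ hδ'D Q hδe')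
  set Z := P * Q - Q * P with hZdef
  have hZ : Z ^ m = 0 := hφ (by rw [map_pow, hZdef, map_sub, map_mul, map_mul, hm, map_zero])
  obtain ⟨hZP, hZQ, -, -, -, -⟩ := bracket_rels hP hQ
  have hinv : ∀ X : E, Z * X = (1 - X) * Z → ∀ j, ∀ v ∈ LinearMap.ker (Z ^ j), X v ∈ LinearMap.ker (Z ^ j) := by
    intro X hX j
    induction j with
    | zero => intro v hv; simp_all
    | succ j ih =>
      intro v hv
      have h1 := apply_mem_ker_pow Z hv
      have h2 : Z (X v) = Z v - X (Z v) := LinearMap.congr_fun hX v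
      have h3 : Z (X v) ∈ LinearMap.ker (Z ^ j) := h2 ▸ Submodule.sub_mem _ h1 (ih _ h1)
      rw [mem_ker_pow] at h3 ⊢
      rwa [pow_succ, Module.End.mul_apply]
  have hstab : ∀ j, D ≤ stab (LinearMap.ker (Z ^ j)) := by
    intro j
    rw [hDdef, Subgroup.closure_le]
    rintro x (rfl | rfl)
    · exact stab_of_idem hδe (hinv P hZP j)
    · exact stab_of_idem hδe' (hinv Q hZQ j)
  set k := δ * δ' * (δ' * δ)⁻¹ with hk
  have hkD : k ∈ D := D.mul_mem (D.mul_mem hδD hδ'D) (D.inv_mem (D.mul_mem hδ'D hδD))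
  have hke : (k : E) - 1 = ((ω - 1) * (ω - 1)) • (Z * ((δ' * δ)⁻¹ : GLV)) := by
    have h1 : ((δ * δ' : GLV) : E) - ((δ' * δ : GLV) : E) = ((ω - 1) * (ω - 1)) • Z := by
      rw [Units.val_mul, Units.val_mul, hδe, hδe', hZdef, smul_sub]
      simp only [add_mul, mul_add, one_mul, mul_one, smul_mul_smul_comm]
      abel
    rw [← smul_mul_assoc, ← h1, sub_mul, ← Units.val_mul, ← Units.val_mul, mul_inv_cancel, Units.val_one]
  have hlow : ∀ j, ∀ v ∈ LinearMap.ker (Z ^ (j + 1)), ((k : E) - 1) v ∈ LinearMap.ker (Z ^ j) := by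
    intro j v hv
    rw [hke, LinearMap.smul_apply, Module.End.mul_apply]
    exact Submodule.smul_mem _ _ (apply_mem_ker_pow Z
      ((hstab (j + 1) (D.inv_mem (D.mul_mem hδ'D hδD)) v).2 hv))
  have hnil : ((k : E) - 1) ^ m = 0 := by
    have : ∀ j, ∀ v ∈ LinearMap.ker (Z ^ j), (((k : E) - 1) ^ j) v = 0 := by
      intro j
      induction j with
      | zero => intro v hv; simpa using hv
      | succ j ih =>
        intro v hv
        rw [pow_succ, Module.End.mul_apply]
        exact ih _ (hlow j v hv)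
    exact LinearMap.ext fun v => this m v (by rw [hZ, LinearMap.ker_zero]; trivial)
  have := eq_one_of_unipotent hnil fun h => hD (h.trans (Subgroup.orderOf_dvd_natCard D hkD))
  exact mul_inv_eq_one.1 this

/-- Homologies of order `p - 1` in a group with a regular element of order `p` are scalar. -/
theorem idem_trivial (hp7 : 7 ≤ p) (Y : Subgroup GLV) (ht : t ∈ Y) (hδ : δ ∈ Y)
    (hw : 3 ≤ w) (hwp : w + 2 ≤ p) (hdim : Module.finrank (ZMod p) V = w)
    (hreg : ((t : E) - 1) ^ (w - 1) ≠ 0) (hnil : ((t : E) - 1) ^ w = 0)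
    (hSyl : ∀ Q : Subgroup GLV, Q ≤ Y → IsPGroup p Q → Nat.card Q ≤ p)
    {ω : ZMod p} (hω : orderOf ω = p - 1) {P : E} (hP : P * P = P) (hδe : (δ : E) = 1 + (ω - 1) • P) :
    P = 0 ∨ P = 1 := by
  classical
  have hpp : p.Prime := Fact.out
  have := finite_glv (p := p) (V := V)
  have hω0 : ω ≠ 0 := fun e => by rw [e, orderOf_zero] at hω; omega
  have hω2 : ω ^ 2 ≠ 1 := fun e => by
    have := Nat.le_of_dvd two_pos (orderOf_dvd_of_pow_eq_one e)
    omega
  have htp : t ^ p = 1 := pow_p_eq_one (by omega) hnil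
  have ht1 : t ≠ 1 := fun e => hreg (by rw [e, Units.val_one, sub_self, zero_pow (by omega)])
  by_contra hne
  let c : ℕ → GLV := fun i => t ^ i * δ * (t ^ i)⁻¹
  have hcY : ∀ i, c i ∈ Y := fun i => Y.mul_mem (Y.mul_mem (Y.pow_mem ht i) hδ) (Y.inv_mem (Y.pow_mem ht i))
  have hpair : ∀ i, Commute δ (c i) := by
    intro i
    set Q : E := ((t ^ i : GLV) : E) * P * (((t ^ i)⁻¹ : GLV) : E) with hQdef
    have hQ : Q * Q = Q := by
      rw [hQdef, mul_assoc _ _ (_ * _ * _), ← mul_assoc (((t ^ i)⁻¹ : GLV) : E),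
        ← mul_assoc (((t ^ i)⁻¹ : GLV) : E), Units.inv_mul, one_mul, ← mul_assoc,
        mul_assoc ((t ^ i : GLV) : E) P P, hP]
    have hce : (c i : E) = 1 + (ω - 1) • Q := by
      rw [Units.val_mul, Units.val_mul, hδe, hQdef, mul_add, add_mul, mul_one, Units.mul_inv,
        mul_smul_comm, smul_mul_assoc]
    set D := Subgroup.closure ({δ, c i} : Set GLV) with hD
    by_cases hd : p ∣ Nat.card D
    · obtain ⟨x, hx⟩ := exists_prime_orderOf_dvd_card' p hd
      rw [← Subgroup.orderOf_coe] at hx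
      have hDY : D ≤ Y := by
        rw [hD, Subgroup.closure_le]
        rintro z (rfl | rfl)
        · exact hδ
        · exact hcY i
      obtain ⟨g, -, hg⟩ := exists_conj_mem Y hSyl ht (hDY x.2) (orderOf_eq_prime htp ht1) hx
      have hconj : ((g * t * g⁻¹ : GLV) : E) - 1 = (g : E) * ((t : E) - 1) * ((g⁻¹ : GLV) : E) := by
        rw [mul_sub, sub_mul, mul_one, Units.mul_inv, Units.val_mul, Units.val_mul]
      have hpow : ∀ n, (((g * t * g⁻¹ : GLV) : E) - 1) ^ n = (g : E) * ((t : E) - 1) ^ n * ((g⁻¹ : GLV) : E) := by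
        intro n
        rw [hconj, Units.conj_pow]
      refine absurd (no_pair D hD (t := g * t * g⁻¹) (Subgroup.zpowers_le.2 x.2 hg) hw hwp hdim
        (fun e => hreg ?_) (by rw [hpow, hnil, mul_zero, zero_mul])
        (fun Q hQD hQp => hSyl Q (hQD.trans hDY) hQp) hω0 hω2 hP hQ hδe hce) hne
      rw [hpow] at e
      simpa using congrArg (fun f : E => ((g⁻¹ : GLV) : E) * f * (g : E)) e
    · exact commute_of_prime_to hd (by omega) hP hQ hδe hce
  have hall : ∀ i j, i ≤ j → Commute (c i) (c j) := by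
    intro i j hij
    obtain ⟨d, rfl⟩ := Nat.exists_eq_add_of_le hij
    have h := (hpair d).map (MulAut.conj (t ^ i)).toMonoidHom
    have e : ∀ m, (MulAut.conj (t ^ i)).toMonoidHom (c m) = c (i + m) := fun m => by
      show t ^ i * (t ^ m * δ * (t ^ m)⁻¹) * (t ^ i)⁻¹ = t ^ (i + m) * δ * (t ^ (i + m))⁻¹
      rw [pow_add, mul_inv_rev]
      simp only [mul_assoc]
    have e0 : c 0 = δ := by simp [c]
    rw [← e0, e, e, Nat.add_zero] at h
    exact h
  let A := Subgroup.closure (Set.range c)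
  have hA : IsMulCommutative A := Subgroup.isMulCommutative_closure fun x hx y hy => by
    obtain ⟨i, rfl⟩ := hx
    obtain ⟨j, rfl⟩ := hy
    rcases le_total i j with h | h
    · exact hall i j h
    · exact (hall j i h).symm
  have hexp : ∀ a ∈ A, a ^ (p - 1) = 1 := by
    intro a ha
    induction ha using Subgroup.closure_induction with
    | mem x hx =>
      obtain ⟨i, rfl⟩ := hx
      have h : δ ^ (p - 1) = 1 := Units.ext (by
        rw [Units.val_pow_eq_pow_val, hδe, homology_pow hP, ← hω, pow_orderOf_eq_one, sub_self, zero_smul,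
          add_zero, Units.val_one])
      rw [conj_pow, h, mul_one, mul_inv_cancel]
    | one => exact one_pow _
    | mul x y hx hy h1 h2 =>
      have hxy : Commute x y := congrArg Subtype.val (hA.is_comm.comm ⟨x, hx⟩ ⟨y, hy⟩)
      rw [hxy.mul_pow, h1, h2, one_mul]
    | inv x _ h1 => rw [inv_pow, h1, inv_one]
  have hAp : ¬ p ∣ Nat.card A := by
    intro hd
    obtain ⟨x, hx⟩ := exists_prime_orderOf_dvd_card' p hd
    have h1 := orderOf_dvd_of_pow_eq_one (show x ^ (p - 1) = 1 from Subtype.ext (hexp x.1 x.2))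
    rw [hx] at h1
    have := Nat.le_of_dvd (by omega) h1
    omega
  have htA : ∀ a ∈ A, t * a * t⁻¹ ∈ A := by
    have hle : A ≤ A.comap (MulAut.conj t).toMonoidHom := by
      rw [Subgroup.closure_le]
      rintro _ ⟨i, rfl⟩
      refine Subgroup.subset_closure ⟨i + 1, ?_⟩
      simp [c, pow_succ', mul_assoc]
    exact fun a ha => by simpa using hle ha
  have hδA : δ ∈ A := Subgroup.subset_closure ⟨0, by simp [c]⟩
  have hc : Commute t δ := commute_of_small A hAp htA htp (pow_eq_zero_of_le (by omega) hnil) δ hδA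
  refine hne (idem_trivial_of_normalizes hw (by omega) hdim hreg hnil hω0 hω2 hP hδe ?_)
  rw [← hc.eq, mul_inv_cancel_right]
  exact Subgroup.mem_zpowers t

end Cfsg.Agent.MaxClassEss
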