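import Cfsg.Agent.Lib.MaxClassEss.Regular
import Cfsg.Agent.EqLemmas

/-!
# A conjugate of a homology normalising a regular unipotent element

`exists_conj_normalizes` : under the hypotheses of `idem_trivial` (or `p = 5` and range on the fixed line), a
conjugate of `δ = 1 + (ω - 1) P` in `Y` normalises `⟨t⟩` and is `ω` on the fixed line of `t`.
-/

set_option autoImplicit false
set_option linter.unusedSectionVars false

open Module

universe u

namespace Cfsg.Agent.MaxClassEss

variable {p : ℕ} [Fact p.Prime] {V : Type u} [AddCommGroup V] [Module (ZMod p) V] [Finite V]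

local notation "GLV" => LinearMap.GeneralLinearGroup (ZMod p) V
local notation "E" => Module.End (ZMod p) V

/-- A flag-preserving element normalises the regular unipotent subgroup of order `p`. -/
theorem normalizes_of_flag (Y : Subgroup GLV) {t δ : GLV} {w : ℕ} (ht : t ∈ Y) (hδ : δ ∈ Y) (hw : 2 ≤ w)
    (hwp : w ≤ p) (hR : RegNil ((t : E) - 1) w)
    (hSyl : ∀ Q : Subgroup GLV, Q ≤ Y → IsPGroup p Q → Nat.card Q ≤ p)
    (hflag : ∀ j, δ ∈ stab (LinearMap.ker (((t : E) - 1) ^ j))) :
    δ * t * δ⁻¹ ∈ Subgroup.zpowers t := by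
  have hfin := finite_glv (p := p) (V := V)
  set N := (t : E) - 1 with hN
  set W := fun j => LinearMap.ker (N ^ j)
  let U : Submonoid GLV :=
    { carrier := {g | g ∈ Y ∧ ∀ j, ∀ v ∈ W (j + 1), (g : E) v - v ∈ W j}
      one_mem' := ⟨one_mem _, fun j v _ => by simp⟩
      mul_mem' := fun {a b} ha hb => ⟨mul_mem ha.1 hb.1, fun j v hv => by
        have h1 := hb.2 j v hv
        have hbv : (b : E) v ∈ W (j + 1) := by
          have := Submodule.add_mem _ hv (ker_pow_mono N j.le_succ h1)
          simpa using this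
        have := Submodule.add_mem _ (ha.2 j _ hbv) h1
        simpa [Units.val_mul] using this⟩ }
  let U' : Subgroup GLV :=
    { U with
      inv_mem' := fun {a} ha => by
        have h : a⁻¹ = a ^ (orderOf a - 1) := inv_eq_of_mul_eq_one_right (by
          rw [← pow_succ', Nat.sub_add_cancel (orderOf_pos a), pow_orderOf_eq_one])
        rw [h]
        exact U.pow_mem ha _ }
  have hU : IsPGroup p U' := fun ⟨g, hg⟩ => ⟨1, Subtype.ext (by
    show g ^ p ^ 1 = 1
    rw [pow_one]
    exact pow_p_eq_one hwp (lower_pow_zero hR fun j v hv => hg.2 j v hv))⟩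
  have htU : t ∈ U' := ⟨ht, fun j v hv => by
    exact apply_mem_ker_pow N hv⟩
  have hqU : δ * t * δ⁻¹ ∈ U' := ⟨mul_mem (mul_mem hδ ht) (inv_mem hδ), fun j v hv => by
    have h1 : ((δ⁻¹ : GLV) : E) v ∈ W (j + 1) := (inv_mem (hflag (j + 1)) v).2 hv
    have h2 := (hflag j (N (((δ⁻¹ : GLV) : E) v))).2 (apply_mem_ker_pow N h1)
    have e : ((δ * t * δ⁻¹ : GLV) : E) v - v = (δ : E) (N (((δ⁻¹ : GLV) : E) v)) := by
      rw [hN, LinearMap.sub_apply, Module.End.one_apply, map_sub, ← Module.End.mul_apply (δ : E) (δ⁻¹ : GLV).val,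
        Units.mul_inv]
      simp [Units.val_mul]
    rw [e]; exact h2⟩
  have ht1 : t ≠ 1 := fun e => hR.reg (by
    rw [hN, e, Units.val_one, sub_self, zero_pow (by omega)])
  have htp : t ^ p = 1 := pow_p_eq_one hwp hR.nil
  have hz : Subgroup.zpowers t = U' := Subgroup.eq_of_le_of_card_ge (Subgroup.zpowers_le.2 htU) (by
    rw [Nat.card_zpowers, orderOf_eq_prime htp ht1]
    exact hSyl U' (fun g hg => hg.1) hU)
  rw [hz]; exact hqU

/-- Some conjugate of a homology normalises the regular unipotent element and is `ω` on its fixed line. -/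
theorem exists_conj_normalizes (hp5 : 5 ≤ p) (Y : Subgroup GLV) {t δ : GLV} {w : ℕ} (ht : t ∈ Y) (hδ : δ ∈ Y)
    (hw : 2 ≤ w) (hwp : w + 2 ≤ p) (hR : RegNil ((t : E) - 1) w)
    (hSyl : ∀ Q : Subgroup GLV, Q ≤ Y → IsPGroup p Q → Nat.card Q ≤ p)
    {ω : ZMod p} (hω : orderOf ω = p - 1) {P : E} (hP : P * P = P) (hδe : (δ : E) = 1 + (ω - 1) • P)
    (hz : ∃ v, ((t : E) - 1) v = 0 ∧ P v ≠ 0) (h5 : p = 5 → 3 ≤ w → ∀ v, ((t : E) - 1) (P v) = 0) :
    ∃ k ∈ Y, (k * δ * k⁻¹) * t * (k * δ * k⁻¹)⁻¹ ∈ Subgroup.zpowers t ∧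
      (∀ v, ((t : E) - 1) v = 0 → ((k * δ * k⁻¹ : GLV) : E) v = ω • v) ∧
      ((∀ v, ((k * δ * k⁻¹ : GLV) : E) v = ω • v) ∨
        (w = 2 ∧ ∀ v, ((t : E) - 1) (((k * δ * k⁻¹ : GLV) : E) v - v) = 0)) := by
  set N := (t : E) - 1 with hN
  have hω0 : ω ≠ 0 := fun e => by
    rw [e] at hω; simp at hω; omega
  have hω2 : ω ^ 2 ≠ 1 := fun e => by
    have := orderOf_le_of_pow_eq_one (by norm_num) e
    omega
  obtain ⟨z, hzN, hzP⟩ := hz
  have hP0 : P ≠ 0 := fun e => hzP (by rw [e]; rfl)
  by_cases hP1 : P = 1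
  · have hall : ∀ v, (δ : E) v = ω • v := fun v => by
      rw [hδe, hP1, LinearMap.add_apply, LinearMap.smul_apply, Module.End.one_apply]; module
    have hc : δ * t * δ⁻¹ = t := by
      refine mul_inv_eq_iff_eq_mul.2 (Units.ext (LinearMap.ext fun v => ?_))
      rw [Units.val_mul, Units.val_mul, Module.End.mul_apply, Module.End.mul_apply, hall, hall, map_smul]
    refine ⟨1, one_mem _, ?_⟩
    simp only [one_mul, inv_one, mul_one]
    exact ⟨by rw [hc]; exact Subgroup.mem_zpowers t, fun v _ => hall v, Or.inl hall⟩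
  rcases Nat.lt_or_ge w 3 with hw3 | hw3
  swap
  · exfalso
    rcases Nat.lt_or_ge p 7 with hp7 | hp7
    · have hp : p = 5 := by
        have : p ≠ 6 := fun e => absurd (Fact.out : p.Prime) (by rw [e]; norm_num)
        omega
      have hflag : ∀ j, δ ∈ stab (LinearMap.ker (N ^ j)) := fun j => stab_of_idem hδe fun v hv => by
        rcases Nat.eq_zero_or_pos j with rfl | hj
        · rw [pow_zero, LinearMap.mem_ker, Module.End.one_apply] at hv
          rw [hv, map_zero]; exact Submodule.zero_mem _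
        · exact ker_pow_mono N hj (by rw [mem_ker_pow, pow_one]; exact h5 hp hw3 v)
      exact (idem_trivial_of_normalizes hw3 (by omega) hR.dim hR.reg hR.nil hω0 hω2 hP hδe
        (normalizes_of_flag Y ht hδ hw (by omega) hR hSyl hflag)).elim hP0 hP1
    · exact (idem_trivial hp7 Y ht hδ hw3 hwp hR.dim hR.reg hR.nil hSyl hω hP hδe).elim hP0 hP1
  obtain rfl : w = 2 := by omega
  -- the range of `P` is a line
  have hNN : ∀ v, N (N v) = 0 := fun v => by
    rw [← Module.End.mul_apply, ← pow_two, hR.nil]; rfl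
  have hker : ∀ {x y : V}, N x = 0 → x ≠ 0 → N y = 0 → ∃ c : ZMod p, y = c • x := fun {x y} hx hx0 hy => by
    obtain ⟨c, hc⟩ := hR.exists_sub_smul (j := 0) (by omega) (x := x) (y := y)
      (by rw [mem_ker_pow, zero_add, pow_one]; exact hx) (by rw [mem_ker_pow, pow_zero]; exact hx0)
      (by rw [mem_ker_pow, zero_add, pow_one]; exact hy)
    rw [mem_ker_pow, pow_zero, Module.End.one_apply, sub_eq_zero] at hc
    exact ⟨c, hc⟩
  have hPline : ∀ v, ∃ c : ZMod p, P v = c • P z := by
    have hlt : finrank (ZMod p) (LinearMap.range P) < 2 := by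
      rcases Nat.lt_or_ge (finrank (ZMod p) (LinearMap.range P)) 2 with h | h
      · exact h
      · exfalso
        refine hP1 (LinearMap.ext fun v => ?_)
        have htop : LinearMap.range P = ⊤ := Submodule.eq_top_of_finrank_eq
          (le_antisymm (Submodule.finrank_le _) (by rw [hR.dim]; exact h))
        obtain ⟨u, rfl⟩ := (htop.ge Submodule.mem_top : v ∈ LinearMap.range P)
        rw [← Module.End.mul_apply, hP]; rfl
    intro v
    have hspan : Submodule.span (ZMod p) {P z} = LinearMap.range P := Submodule.eq_of_le_of_finrank_le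
      (by simp) (by rw [finrank_span_singleton hzP]; omega)
    obtain ⟨c, hc⟩ := Submodule.mem_span_singleton.1 (hspan.ge (LinearMap.mem_range_self P v))
    exact ⟨c, hc.symm⟩
  -- an element mapping `z` into this line
  obtain ⟨k, hk, hkz⟩ : ∃ k ∈ Y, ∃ c : ZMod p, c ≠ 0 ∧ (k : E) (P z) = c • z := by
    have hinj : ∀ g : GLV, ∀ v, ((g⁻¹ : GLV) : E) ((g : E) v) = v := fun g v => by
      rw [← Module.End.mul_apply, Units.inv_mul]; rfl
    have hz0 : z ≠ 0 := fun e => hzP (by rw [e, map_zero])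
    by_cases hPz : N (P z) = 0
    · obtain ⟨c, hc⟩ := hker hzN hz0 hPz
      exact ⟨1, one_mem _, c, fun e => hzP (by rw [hc, e, zero_smul]), by simpa using hc⟩
    set u := (δ : E) z with hu
    have hNu : N u = (ω - 1) • N (P z) := by
      rw [hu, hδe, LinearMap.add_apply, Module.End.one_apply, LinearMap.smul_apply, map_add, map_smul, hzN, zero_add]
    have hω1 : ω - 1 ≠ 0 := fun e => hω2 (by rw [sub_eq_zero.1 e, one_pow])
    -- `u` is moved onto the line by a power of `t`
    have hd : N (u - (ω - 1) • P z) = 0 := by rw [map_sub, map_smul, hNu, sub_self]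
    obtain ⟨β, hβ⟩ := hker (x := N u) (hNN u) (by rw [hNu]; exact smul_ne_zero hω1 hPz) hd
    have htv : ((t ^ (-β).val : GLV) : E) u = (ω - 1) • P z := by
      have h := pow_first_order hN (-β).val 0 (v := u) (by rw [hR.ker_top]; trivial)
      rw [mem_ker_pow, pow_zero, Module.End.one_apply, ZMod.natCast_zmod_val, sub_eq_zero, sub_eq_iff_eq_add] at h
      rw [h, neg_smul, ← hβ]; abel
    refine ⟨(t ^ (-β).val * δ)⁻¹, inv_mem (mul_mem (pow_mem ht _) hδ), (ω - 1)⁻¹, inv_ne_zero hω1, ?_⟩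
    have h1 : ((t ^ (-β).val * δ : GLV) : E) z = (ω - 1) • P z := by
      rw [Units.val_mul, Module.End.mul_apply, ← hu, htv]
    have h2 := hinj (t ^ (-β).val * δ) z
    rw [h1, map_smul] at h2
    conv_rhs => rw [← h2]
    rw [smul_smul, inv_mul_cancel₀ hω1, one_smul]
  obtain ⟨c, hc0, hc⟩ := hkz
  set δ' : GLV := k * δ * k⁻¹ with hδ'
  set P' : E := (k : E) * P * ((k⁻¹ : GLV) : E) with hP'
  have hδe' : (δ' : E) = 1 + (ω - 1) • P' := by
    rw [hδ', Units.val_mul, Units.val_mul, hδe, hP', mul_add, mul_one, add_mul, Units.mul_inv, mul_smul_comm,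
      smul_mul_assoc]
  have hrange : ∀ v, N (P' v) = 0 := fun v => by
    obtain ⟨e, he⟩ := hPline (((k⁻¹ : GLV) : E) v)
    rw [hP', Module.End.mul_apply, Module.End.mul_apply, he, map_smul, hc, map_smul, map_smul, hzN, smul_zero,
      smul_zero]
  have hfix : ∀ v, N v = 0 → P' v = v := fun v hv => by
    have hz0 : z ≠ 0 := fun e => hzP (by rw [e, map_zero])
    obtain ⟨e, rfl⟩ := hker hzN hz0 hv
    have h1 : ((k⁻¹ : GLV) : E) z = c⁻¹ • P z := by
      have h2 : ((k⁻¹ : GLV) : E) ((k : E) (P z)) = P z := by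
        rw [← Module.End.mul_apply, Units.inv_mul]; rfl
      rw [hc, map_smul] at h2
      conv_rhs => rw [← h2]
      rw [smul_smul, inv_mul_cancel₀ hc0, one_smul]
    rw [map_smul, hP', Module.End.mul_apply, Module.End.mul_apply, h1, map_smul, ← Module.End.mul_apply P P, hP,
      map_smul, hc, smul_smul c⁻¹, inv_mul_cancel₀ hc0, one_smul]
  refine ⟨k, hk, normalizes_of_flag Y ht (mul_mem (mul_mem hk hδ) (inv_mem hk)) le_rfl (by omega) hR hSyl
    (fun j => stab_of_idem hδe' fun v hv => ?_), fun v hv => ?_, Or.inr ⟨rfl, fun v => ?_⟩⟩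
  · rcases Nat.eq_zero_or_pos j with rfl | hj
    · rw [pow_zero, LinearMap.mem_ker, Module.End.one_apply] at hv
      rw [hv, map_zero]; exact Submodule.zero_mem _
    · exact ker_pow_mono N hj (by rw [mem_ker_pow, pow_one]; exact hrange v)
  · rw [hδe', LinearMap.add_apply, LinearMap.smul_apply, Module.End.one_apply, hfix v hv]; module
  · rw [hδe', LinearMap.add_apply, LinearMap.smul_apply, Module.End.one_apply, add_sub_cancel_left, map_smul,
      hrange, smul_zero]

end Cfsg.Agent.MaxClassEss
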