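import Cfsg.Agent.Lib.MaxClassEss.CaseTwoBase
import Cfsg.Agent.Lib.MaxClassEss.Aut
import Cfsg.Agent.Lib.MaxClass.SmallEssential

/-!
# The exceptional groups of order `p ^ 6`

`four_le_card` : an essential subgroup inside `Γ₁` has order at least `p ^ 4`.
-/

set_option autoImplicit false
set_option linter.unusedSectionVars false
set_option linter.style.haveILetI false

open Subgroup
open scoped commutatorElement

universe u

namespace Cfsg.Agent.MaxClassEss

open Cfsg Cfsg.FusionSystem Cfsg.Agent.Fusion MaxClassPower PearlRank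

variable {p : ℕ} [hp : Fact p.Prime]

section Group

variable {X : Type u} [Group X] [Finite X]

/-- An element outside the derived group commutes with some element exact in the second layer. -/
theorem exists_comm_two (c : Mc X p 6) (hx : twoStep X 3 ≠ twoStep X 1) {v : X} (hv : v ∈ twoStep X 1)
    (hv1 : v ∉ L X 1) : ∃ w, Ex X 2 w ∧ Commute w v := by
  obtain ⟨y, hy⟩ := exists_ex c (i := 2) (by norm_num) (by norm_num)
  obtain ⟨x, hx3⟩ := exists_ex c (i := 3) (by norm_num) (by norm_num)
  have hne : ⁅x, v⁆ ≠ 1 := pair_level c (by norm_num) hx (i := 0) (by norm_num) hv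
    ⟨mem_L_zero v, by simpa using hv1⟩ hx3
  have hxv : ⁅x, v⁆ ∈ L X 4 := comm_L_mem (by norm_num) hx3.1 (mem_L_zero v)
  have hyv : ⁅y, v⁆ ∈ L X 4 := comm_deep c (by norm_num) (i := 2) (j := 0) (by norm_num) hy.1
    (L_one_le_twoStep 1 (L_anti (by norm_num) hy.1)) (mem_L_zero v) hv (by norm_num)
  have hZ : L X 4 = zpowers ⁅x, v⁆ := L_le_of_mem c hxv hne
  rw [hZ] at hyv
  obtain ⟨k, hk⟩ := mem_powers_iff_mem_zpowers.2 hyv
  have hpow : ∀ i : ℕ, ⁅x ^ i, v⁆ = ⁅x, v⁆ ^ i := by
    intro i
    induction i with
    | zero => simp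
    | succ i ih =>
      rw [pow_succ, commutatorElement_mul_left_eq_conj_mul, ih,
        (c.commute_of_mem hxv (x ^ i)).eq, mul_inv_cancel_right, ← pow_succ']
  have e : x ^ k * v * (x ^ k)⁻¹ = y * v * y⁻¹ := by
    have e1 : ⁅x ^ k, v⁆ = ⁅y, v⁆ := (hpow k).trans hk
    rwa [commutatorElement_def, commutatorElement_def, mul_left_inj] at e1
  refine ⟨(x ^ k)⁻¹ * y, ⟨mul_mem (inv_mem (pow_mem (L_anti (Nat.le_succ 2) hx3.1) k)) hy.1, fun h => hy.2 ?_⟩, ?_⟩
  · have := mul_mem (pow_mem hx3.1 k) h
    rwa [mul_inv_cancel_left] at this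
  · calc (x ^ k)⁻¹ * y * v = (x ^ k)⁻¹ * (y * v * y⁻¹) * y := by group
      _ = v * ((x ^ k)⁻¹ * y) := by rw [← e]; group

end Group

variable {n : ℕ} {Ω : Type u} [Group Ω] {S : Subgroup Ω} [Finite S] {F : FusionSystem S} {E : Subgroup Ω}

/-- In an exceptional group of order `p ^ 6` an essential subgroup of `Γ₁` has order at least `p ^ 4`. -/
theorem four_le_card (hS : IsPGroup p S) (hF : F.IsSaturated p) (c : Mc S p n) (hn6 : n = 6)
    (hx : twoStep S (n - 3) ≠ twoStep S 1) (hE : F.IsEssential p E)
    (hle : E.subgroupOf S ≤ twoStep S 1) : p ^ 4 ≤ Nat.card E := by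
  subst hn6
  obtain ⟨-, -, hp1, hp2⟩ := exceptional_facts c (by norm_num) hx
  have hp5 : 5 ≤ p := by omega
  have hES : E ≤ S := hE.1.1
  haveI := finite_of_le (S := S) hES
  set E' := E.subgroupOf S with hE'
  have hcard : Nat.card E' = Nat.card E := Nat.card_congr (subgroupOfEquivOfLe hES).toEquiv
  have se := EssentialSmall.setting_of_essential hS hF hE
  by_contra hlt
  have hle3 : Nat.card E ≤ p ^ 3 := by
    obtain ⟨j, hj⟩ := IsPGroup.iff_card.mp se.pgroup
    rw [hj] at hlt ⊢
    rw [not_le, Nat.pow_lt_pow_iff_right hp.out.one_lt] at hlt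
    exact Nat.pow_le_pow_right hp.out.pos (by omega)
  have hcen : ∀ g : S, (∀ e ∈ E', Commute g e) → g ∈ E' := fun g hg =>
    FusionChain.centralizerIn_le_of_centric hE.1 ⟨g.2, mem_centralizer_iff.2 fun v hv =>
      (congrArg Subtype.val (hg ⟨v, hES hv⟩ hv).eq).symm⟩
  have hZE : L S 4 ≤ E' := fun z hz => hcen z fun e _ => (c.commute_of_mem hz e).symm
  have hsmall : ∀ {i : ℕ}, 1 ≤ i → ¬ L S i ≤ E' ∨ p ^ (5 - i) ≤ Nat.card E := fun {i} hi => by
    by_cases h : L S i ≤ E'
    · refine Or.inr ?_
      have := Subgroup.card_le_of_le h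
      rwa [c.card_L hi, hcard] at this
    · exact Or.inl h
  rcases small_cases se hp2 hle3 with ⟨h2, -, -⟩ | ⟨h3, hex, -⟩ | ⟨h3, hab, hexp⟩
  · -- order `p ^ 2` : centralised by too much
    obtain ⟨v, hv, hvZ⟩ : ∃ v ∈ E', v ∉ L S 4 := SetLike.not_le_iff_exists.1 fun h => by
      have := Subgroup.card_le_of_le h
      rw [hcard, h2, c.card_L (by norm_num), Nat.pow_le_pow_iff_right hp.out.one_lt] at this
      omega
    have key : ∀ v ∈ E', v ∉ L S 4 → ∀ y : S, Commute y v → y ∈ E' := by
      intro v hv hvZ y hy
      have he : E' = L S 4 ⊔ zpowers v := by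
        refine (PGroup.eq_of_le_of_card_le (sup_le hZE (zpowers_le.2 hv)) ?_).symm
        have := PGroup.mul_card_le_of_lt c.pGroup
          (left_lt_sup.2 fun h => hvZ (h (mem_zpowers v)) : L S 4 < L S 4 ⊔ zpowers v)
        rw [c.card_L (by norm_num)] at this
        rw [hcard, h2, pow_two]
        simpa using this
      refine hcen y fun e he' => ?_
      have hle : E' ≤ centralizer ({y} : Set S) := by
        rw [he]
        exact sup_le (fun z hz => mem_centralizer_singleton_iff.2 (c.commute_of_mem hz y).eq.symm)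
          (zpowers_le.2 (mem_centralizer_singleton_iff.2 hy.eq.symm))
      exact (mem_centralizer_singleton_iff.1 (hle he')).symm
    have hpos : ∀ v ∈ E', v ∉ L S 4 → ∀ {i : ℕ}, 1 ≤ i → i ≤ 3 → Ex S i v → False := by
      intro v hv hvZ i hi hi3 hiv
      have hL : L S (4 - i) ≤ E' := fun y hy => key v hv hvZ y (by
        have h := comm_L_mem (k := 5) (by omega) hy hiv.1
        rw [c.L_bot (by norm_num), mem_bot] at h
        exact commutatorElement_eq_one_iff_mul_comm.1 h)
      have hh := ((hsmall (i := 4 - i) (by omega)).resolve_left (not_not.2 hL))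
      rw [h2, Nat.pow_le_pow_iff_right hp.out.one_lt] at hh
      obtain rfl : i = 1 := by omega
      have heq : L S 3 = E' := PGroup.eq_of_le_of_card_le hL (by rw [hcard, h2, c.card_L (by norm_num)])
      exact hiv.2 (L_anti (by norm_num) (heq ▸ hv : v ∈ L S 3))
    obtain ⟨i, hi, hiv⟩ := exists_level_gamma c (hle hv) hvZ
    rcases Nat.eq_zero_or_pos i with rfl | hi0
    · obtain ⟨w, hw, hwv⟩ := exists_comm_two c hx (hle hv) (by simpa using hiv.2)
      exact hpos w (key v hv hvZ w hwv) (fun h => hw.2 (L_anti (by norm_num) h)) (by norm_num) (by norm_num) hw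
    · exact hpos v hv hvZ hi0 (by omega) hiv
  · -- extraspecial : `L₃ ≤ E`
    have hZc : Nat.card (center E) = p := hex.2
    have hL3 : L S 3 ≤ E' := by
      intro t ht
      have hN : (t : Ω) ∈ normalizerIn S E := mem_normalizerIn_of_conj t.2 fun x hx' => by
        have h2 : ⁅t, (⟨x, hES hx'⟩ : S)⁆ * ⟨x, hES hx'⟩ ∈ E' :=
          mul_mem (hZE (comm_L_mem (by norm_num) ht (mem_L_zero _))) hx'
        rw [commutatorElement_def, inv_mul_cancel_right] at h2
        exact h2
      refine Resist.mem_of_inn hE (g := ⟨t, hN⟩) (se.mem_inn_of_chain 2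
        (fun i => match i with | 0 => ⊥ | 1 => center E | _ => ⊤) rfl rfl ?_ ?_
        (Resist.normConj_mem F hES _).2 ?_)
      · intro i hi
        rcases i with _ | _ | i
        · exact bot_le
        · exact le_top
        · omega
      · intro a _ i _ x hx'
        rcases i with _ | _ | i
        · rw [show x = 1 from hx', map_one]; exact one_mem _
        · refine mem_center_iff.2 fun y => ?_
          obtain ⟨y, rfl⟩ := a.surjective y
          rw [← map_mul, ← map_mul, mem_center_iff.1 hx' y]
        · exact mem_top _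
      · intro i hi x hx'
        have hcomm : incl hES (normConj S E ⟨t, hN⟩ x) = ⁅t, incl hES x⁆ * incl hES x := by
          rw [normConj_apply_incl, commutatorElement_def, inv_mul_cancel_right]
        rcases i with _ | _ | i
        · show x⁻¹ * normConj S E ⟨t, hN⟩ x ∈ (⊥ : Subgroup E)
          rw [mem_bot, inv_mul_eq_one]
          apply Subgroup.inclusion_injective hES
          rw [show incl hES (normConj S E ⟨t, hN⟩ x) = _ from hcomm]
          suffices h : ⁅t, incl hES x⁆ = 1 by rw [h, one_mul]
          have hxc : (x : E) ∈ center E := hx'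
          -- central elements of `E` lie in `L₄`
          have hxZ : incl hES x ∈ L S 4 := by
            have hsub : (L S 4).comap (incl hES) ≤ center E := fun z hz => mem_center_iff.2 fun y =>
              Subgroup.inclusion_injective hES (by
                rw [map_mul, map_mul]; exact (c.commute_of_mem hz _).eq)
            have hzc : Nat.card ((L S 4).comap (incl hES)) = p := by
              rw [Nat.card_congr (Subgroup.equivMapOfInjective _ _ (Subgroup.inclusion_injective hES)).toEquiv,
                map_comap_eq, Subgroup.inclusion_range, inf_eq_right.2 hZE, c.card_L (by norm_num)]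
              simp
            exact (PGroup.eq_of_le_of_card_le hsub (by rw [hzc, hZc])).ge hxc
          exact commutatorElement_eq_one_iff_mul_comm.2 (c.commute_of_mem hxZ t).eq
        · show x⁻¹ * normConj S E ⟨t, hN⟩ x ∈ center E
          refine mem_center_iff.2 fun y => Subgroup.inclusion_injective hES ?_
          have hz : incl hES (x⁻¹ * normConj S E ⟨t, hN⟩ x) ∈ L S 4 := by
            rw [map_mul, map_inv, hcomm]
            have := (inferInstance : (L S 4).Normal).conj_mem _
              (comm_L_mem (k := 4) (by norm_num) ht (mem_L_zero (incl hES x))) (incl hES x)⁻¹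
            simpa [mul_assoc] using this
          rw [map_mul, map_mul (incl hES) _ y]
          exact (c.commute_of_mem hz _).eq
        · omega
    obtain ⟨v, hv, y, hy, hvy⟩ : ∃ v ∈ E', ∃ y ∈ L S 3, ¬ Commute y v := by
      by_contra hall
      push Not at hall
      have hsub : (L S 3).comap (incl hES) ≤ center E := fun z hz => mem_center_iff.2 fun y =>
        Subgroup.inclusion_injective hES (by
          rw [map_mul, map_mul]; exact (hall _ y.2 _ hz).eq.symm)
      have hc3 : Nat.card ((L S 3).comap (incl hES)) = p ^ 2 := by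
        rw [Nat.card_congr (Subgroup.equivMapOfInjective _ _ (Subgroup.inclusion_injective hES)).toEquiv,
          map_comap_eq, Subgroup.inclusion_range, inf_eq_right.2 hL3, c.card_L (by norm_num)]
      have := Subgroup.card_le_of_le hsub
      rw [hc3, hZc] at this
      have := Nat.lt_of_lt_of_le (lt_self_pow₀ hp.out.one_lt (by norm_num : 1 < 2)) this
      omega
    have hv1 : v ∉ L S 1 := fun h => hvy (by
      have h1 := comm_L_mem (k := 5) (by norm_num) hy h
      rw [c.L_bot (by norm_num), mem_bot] at h1
      exact commutatorElement_eq_one_iff_mul_comm.1 h1)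
    have hv3 : v ∉ L S 3 := fun h => hv1 (L_anti (by norm_num) h)
    have he : E' = L S 3 ⊔ zpowers v := by
      refine (PGroup.eq_of_le_of_card_le (sup_le hL3 (zpowers_le.2 hv)) ?_).symm
      have := PGroup.mul_card_le_of_lt c.pGroup
        (left_lt_sup.2 fun h => hv3 (h (mem_zpowers v)) : L S 3 < L S 3 ⊔ zpowers v)
      rw [c.card_L (by norm_num)] at this
      rw [hcard, h3, pow_succ']
      simpa using this
    obtain ⟨w, hw, hwv⟩ := exists_comm_two c hx (hle hv) hv1
    have hwE : w ∈ E' := hcen w fun e he' => by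
      have hle' : E' ≤ centralizer ({w} : Set S) := by
        rw [he]
        refine sup_le (fun z hz => mem_centralizer_singleton_iff.2 ?_)
          (zpowers_le.2 (mem_centralizer_singleton_iff.2 hwv.eq.symm))
        have h1 := comm_L_mem (k := 5) (by norm_num) hz hw.1
        rw [c.L_bot (by norm_num), mem_bot] at h1
        exact commutatorElement_eq_one_iff_mul_comm.1 h1
      exact (mem_centralizer_singleton_iff.1 (hle' he')).symm
    have hL2 : L S 2 ≤ E' := by
      rw [← gen_L' c (i := 2) (by norm_num) hw]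
      exact sup_le hL3 (zpowers_le.2 hwE)
    have heq : L S 2 = E' := PGroup.eq_of_le_of_card_le hL2 (by rw [hcard, h3, c.card_L (by norm_num)])
    exact hv1 (L_anti (by norm_num) (heq ▸ hv : v ∈ L S 2))
  · exact false_of_elementary_cube hp5 (by norm_num) hS hF c hE h3 hab hexp

end Cfsg.Agent.MaxClassEss
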